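import Cfsg.Agent.H74.UniCent

/-!
# Characters of abelian groups which are small off the identity (owner: helper74)

* `quad_*`: the integral quadratic form `n Σ a² - (Σ a)²`.
* `sum_off_one`: `Σ_{x ≠ 1} |ψ(x)|² = n Σ a² - (Σ a)²`.
* `eq_rho_pm`: if `Σ_{x ≠ 1} |ψ(x)|² ≤ n - 1` and `ψ` does not vanish off `1` then
  `ψ = c ρ ± λ`.
-/

set_option autoImplicit false
set_option linter.style.haveILetI false
set_option linter.unusedSectionVars false

universe u v

namespace Cfsg.Agent.H74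

open scoped ComplexConjugate BigOperators
open Cfsg Cfsg.Agent.CharBase Cfsg.Agent.Char

section Quad

variable {Λ : Type u} [Fintype Λ] [DecidableEq Λ]

/-- the quadratic form -/
def quad (a : Λ → ℤ) : ℤ := (Fintype.card Λ : ℤ) * ∑ l, a l ^ 2 - (∑ l, a l) ^ 2

theorem quad_sub (a : Λ → ℤ) (c : ℤ) : quad (fun l => a l - c) = quad a := by
  unfold quad
  have h1 : ∑ l, (a l - c) ^ 2 = ∑ l, a l ^ 2 - 2 * c * ∑ l, a l + (Fintype.card Λ : ℤ) * c ^ 2 := by
    have : ∀ l, (a l - c) ^ 2 = a l ^ 2 - 2 * c * a l + c ^ 2 := fun l => by ring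
    simp only [this, Finset.sum_add_distrib, Finset.sum_sub_distrib, ← Finset.mul_sum,
      Finset.sum_const, Finset.card_univ, nsmul_eq_mul]
  have h2 : ∑ l, (a l - c) = ∑ l, a l - (Fintype.card Λ : ℤ) * c := by
    simp only [Finset.sum_sub_distrib, Finset.sum_const, Finset.card_univ, nsmul_eq_mul]
  rw [h1, h2]
  ring

theorem quad_nonneg (a : Λ → ℤ) : 0 ≤ quad a := by
  unfold quad
  have := sq_sum_le_card_mul_sum_sq (s := (Finset.univ : Finset Λ)) (f := a)
  rw [Finset.card_univ] at this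
  linarith

/-- the zero set argument for a nonnegative vector with a zero -/
theorem quad_aux (a : Λ → ℤ) (h0 : ∀ l, 0 ≤ a l) (l0 : Λ) (hl0 : a l0 = 0) (l1 : Λ)
    (hl1 : a l1 ≠ 0) :
    (Fintype.card Λ : ℤ) - 1 ≤ quad a ∧ (quad a ≤ (Fintype.card Λ : ℤ) - 1 →
      ∃ (c ε : ℤ) (l2 : Λ), (ε = 1 ∨ ε = -1) ∧ (0 ≤ c) ∧
        ∀ l, a l = c + if l = l2 then ε else 0) := by
  set s := Finset.univ.filter (fun l => a l ≠ 0) with hs
  set z := Finset.univ.filter (fun l => a l = 0) with hz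
  have hcard : (Fintype.card Λ : ℤ) = z.card + s.card := by
    have := Finset.card_filter_add_card_filter_not (s := (Finset.univ : Finset Λ)) (fun l => a l = 0)
    rw [Finset.card_univ] at this
    exact_mod_cast this.symm
  have hz1 : 1 ≤ z.card := Finset.card_pos.mpr ⟨l0, by simp [hz, hl0]⟩
  have hs1 : 1 ≤ s.card := Finset.card_pos.mpr ⟨l1, by simp [hs, hl1]⟩
  have hsumsq : ∑ l, a l ^ 2 = ∑ l ∈ s, a l ^ 2 := by
    rw [hs, Finset.sum_filter]
    refine Finset.sum_congr rfl fun l _ => ?_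
    by_cases h : a l = 0
    · simp [h]
    · simp [h]
  have hsum : ∑ l, a l = ∑ l ∈ s, a l := by
    rw [hs, Finset.sum_filter]
    refine Finset.sum_congr rfl fun l _ => ?_
    by_cases h : a l = 0
    · simp [h]
    · simp [h]
  have hcs := sq_sum_le_card_mul_sum_sq (s := s) (f := a)
  have hsq1 : (s.card : ℤ) ≤ ∑ l ∈ s, a l ^ 2 := by
    have : (s.card : ℤ) = ∑ l ∈ s, (1 : ℤ) := by simp
    rw [this]
    refine Finset.sum_le_sum fun l hl => ?_
    have h1 := h0 l
    have h2 : a l ≠ 0 := (Finset.mem_filter.mp hl).2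
    have h3 : 1 ≤ a l := by omega
    nlinarith
  have hq : (z.card : ℤ) * ∑ l ∈ s, a l ^ 2 ≤ quad a := by
    unfold quad
    rw [hsumsq, hsum, hcard]
    nlinarith
  have hzZ : (1 : ℤ) ≤ z.card := by exact_mod_cast hz1
  have hsZ : (1 : ℤ) ≤ s.card := by exact_mod_cast hs1
  have hzs : (z.card : ℤ) * s.card ≤ (z.card : ℤ) * ∑ l ∈ s, a l ^ 2 :=
    mul_le_mul_of_nonneg_left hsq1 (by omega)
  have hlow : (Fintype.card Λ : ℤ) - 1 ≤ (z.card : ℤ) * s.card := by
    rw [hcard]; nlinarith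
  refine ⟨by linarith, fun hle => ?_⟩
  have heq1 : (z.card : ℤ) * ∑ l ∈ s, a l ^ 2 = (z.card : ℤ) * s.card := by linarith
  have heq2 : (z.card : ℤ) * s.card = (z.card : ℤ) + s.card - 1 := by
    rw [← hcard]; linarith
  have heq3 : ∑ l ∈ s, a l ^ 2 = s.card := mul_left_cancel₀ (by omega) heq1
  have hone : ∀ l ∈ s, a l = 1 := by
    have h1 : ∑ l ∈ s, (a l ^ 2 - 1) = 0 := by
      rw [Finset.sum_sub_distrib, heq3]; simp
    have h2 : ∀ l ∈ s, 0 ≤ a l ^ 2 - 1 := fun l hl => by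
      have h1 := h0 l
      have h2 : a l ≠ 0 := (Finset.mem_filter.mp hl).2
      have h3 : 1 ≤ a l := by omega
      nlinarith
    intro l hl
    have h3 := (Finset.sum_eq_zero_iff_of_nonneg h2).mp h1 l hl
    have h4 := h0 l
    nlinarith
  have hfac : ((z.card : ℤ) - 1) * ((s.card : ℤ) - 1) = 0 := by linear_combination heq2
  rcases mul_eq_zero.mp hfac with h | h
  · -- one zero
    have hz' : z.card = 1 := by omega
    obtain ⟨l2, hl2⟩ := Finset.card_eq_one.mp hz'
    refine ⟨1, -1, l2, Or.inr rfl, by norm_num, fun l => ?_⟩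
    by_cases hl : l = l2
    · subst hl
      have : l ∈ z := by rw [hl2]; simp
      rw [if_pos rfl, (Finset.mem_filter.mp this).2]; norm_num
    · have : l ∉ z := by rw [hl2]; simpa using hl
      have h2 : a l ≠ 0 := fun h => this (by simp [hz, h])
      rw [if_neg hl, hone l (by simp [hs, h2])]; norm_num
  · have hs' : s.card = 1 := by omega
    obtain ⟨l2, hl2⟩ := Finset.card_eq_one.mp hs'
    refine ⟨0, 1, l2, Or.inl rfl, le_rfl, fun l => ?_⟩
    by_cases hl : l = l2
    · subst hl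
      have : l ∈ s := by rw [hl2]; simp
      rw [if_pos rfl, hone l this]; norm_num
    · have : l ∉ s := by rw [hl2]; simpa using hl
      have h2 : a l = 0 := by
        by_contra h
        exact this (by simp [hs, h])
      rw [if_neg hl, h2]; norm_num

theorem quad_of_ne (a : Λ → ℤ) (h0 : ∀ l, 0 ≤ a l) {l0 l1 : Λ} (hne : a l0 ≠ a l1) :
    (Fintype.card Λ : ℤ) - 1 ≤ quad a ∧ (quad a ≤ (Fintype.card Λ : ℤ) - 1 →
      ∃ (c ε : ℤ) (l2 : Λ), (ε = 1 ∨ ε = -1) ∧ (0 ≤ c) ∧
        ∀ l, a l = c + if l = l2 then ε else 0) := by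
  obtain ⟨m, -, hm⟩ := Finset.exists_min_image (Finset.univ : Finset Λ) a ⟨l0, Finset.mem_univ _⟩
  have hm' : ∀ l, a m ≤ a l := fun l => hm l (Finset.mem_univ l)
  have hex : ∃ l, a l - a m ≠ 0 := by
    by_contra hcon
    push Not at hcon
    apply hne
    have h1 := hcon l0
    have h2 := hcon l1
    linarith
  obtain ⟨l, hl⟩ := hex
  have := quad_aux (fun l => a l - a m) (fun l => by have := hm' l; linarith) m
    (by simp) l hl
  rw [quad_sub] at this
  refine ⟨this.1, fun hle => ?_⟩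
  obtain ⟨c, ε, l2, hε, hc, h⟩ := this.2 hle
  refine ⟨c + a m, ε, l2, hε, add_nonneg hc (h0 m), fun l => ?_⟩
  have := h l
  linarith

end Quad

section AbChar

variable {S : Type u} [Group S] [Fintype S] (hcomm : ∀ a b : S, a * b = b * a)

/-- multiplicities of a character of an abelian group -/
theorem ab_exists (ψ : S → ℂ) (hψ : IsCharacter S ψ) [Fintype (IrrCharacter S)] :
    ∃ a : IrrCharacter S → ℤ, (∀ l, 0 ≤ a l) ∧ (∀ l : IrrCharacter S, classInner ψ (l : S → ℂ) = a l) ∧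
      (∀ x, ψ x = ∑ l : IrrCharacter S, (a l : ℂ) * (l : S → ℂ) x) := by
  obtain ⟨m, hm, hs⟩ := exists_mult_of_isCharacter hψ
  refine ⟨fun l => m l, fun l => by positivity, fun l => by rw [hm]; simp, fun x => ?_⟩
  have := congrFun hs x
  simp only [Finset.sum_apply, Pi.smul_apply] at this
  rw [this]
  refine Finset.sum_congr rfl fun l _ => ?_
  simp

include hcomm in
theorem ab_card [Fintype (IrrCharacter S)] : Fintype.card (IrrCharacter S) = Nat.card S := by
  rw [← Nat.card_eq_fintype_card, card_irr_eq_card_conjClasses]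
  have : Function.Bijective (ConjClasses.mk : S → ConjClasses S) := by
    refine ⟨fun a b h => ?_, ConjClasses.mk_surjective⟩
    obtain ⟨c, hc⟩ := isConj_iff.mp (ConjClasses.mk_eq_mk_iff_isConj.mp h)
    rw [hcomm c a, mul_inv_cancel_right] at hc
    exact hc
  exact (Nat.card_congr (Equiv.ofBijective _ this)).symm

include hcomm in
theorem sum_off_one [DecidableEq S] (ψ : S → ℂ) (hψ : IsCharacter S ψ) [Fintype (IrrCharacter S)]
    (a : IrrCharacter S → ℤ) (ha : ∀ l : IrrCharacter S, classInner ψ (l : S → ℂ) = a l) :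
    ∑ x ∈ Finset.univ.erase (1 : S), ψ x * conj (ψ x) = (quad a : ℤ) := by
  have hS0 : (Nat.card S : ℂ) ≠ 0 := Nat.cast_ne_zero.mpr Nat.card_pos.ne'
  have h1 : classInner ψ ψ = ((∑ l, a l ^ 2 : ℤ) : ℂ) := by
    rw [classInner_eq_sum (isClassFunction_of_isCharacter hψ)]
    push_cast
    refine Finset.sum_congr rfl fun l _ => ?_
    rw [← CharBase.classInner_comm_of_isCharacter hψ (irr_isCharacter l), ha]
    ring
  have h2 : ψ 1 = ((∑ l, a l : ℤ) : ℂ) := by
    rw [classFun_apply_eq_sum (isClassFunction_of_isCharacter hψ) 1]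
    push_cast
    refine Finset.sum_congr rfl fun l _ => ?_
    rw [ha, TIData.irr_degree_one_of_comm hcomm l, mul_one]
  have h3 : ∑ x : S, ψ x * conj (ψ x) = (Nat.card S : ℂ) * classInner ψ ψ := by
    unfold classInner
    rw [mul_inv_cancel_left₀ hS0]
  have h4 := Finset.add_sum_erase Finset.univ (fun x => ψ x * conj (ψ x)) (Finset.mem_univ (1 : S))
  rw [h3, h1] at h4
  rw [h2, map_intCast] at h4
  unfold quad
  rw [ab_card hcomm]
  push_cast at h4 ⊢
  linear_combination h4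

include hcomm in
/-- If `ψ` is not zero off `1` then the coefficients are not constant. -/
theorem exists_ne_of_ne_zero (ψ : S → ℂ) [Fintype (IrrCharacter S)]
    (a : IrrCharacter S → ℤ) (ha : ∀ x, ψ x = ∑ l : IrrCharacter S, (a l : ℂ) * (l : S → ℂ) x)
    (s : S) (hs : s ≠ 1) (hψs : ψ s ≠ 0) : ∃ l0 l1, a l0 ≠ a l1 := by
  classical
  by_contra hcon
  push Not at hcon
  apply hψs
  rw [ha s]
  have h1 : ∀ l : IrrCharacter S, (a l : ℂ) * (l : S → ℂ) s =
      (a (oneIrr S) : ℂ) * ((l : S → ℂ) 1 * (l : S → ℂ) s) := fun l => by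
    rw [hcon l (oneIrr S), TIData.irr_degree_one_of_comm hcomm l, one_mul]
  simp only [h1, ← Finset.mul_sum, sum_degree_mul, if_neg hs, mul_zero]

/-- a character of an abelian group with constant coefficients -/
theorem eq_of_const (ψ : S → ℂ) [Fintype (IrrCharacter S)] (hcomm : ∀ a b : S, a * b = b * a)
    (a : IrrCharacter S → ℤ) (ha : ∀ x, ψ x = ∑ l : IrrCharacter S, (a l : ℂ) * (l : S → ℂ) x)
    (c ε : ℤ) (l2 : IrrCharacter S) [DecidableEq (IrrCharacter S)]
    (h : ∀ l, a l = c + if l = l2 then ε else 0) :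
    (∀ x, x ≠ 1 → ψ x = (ε : ℂ) * (l2 : S → ℂ) x) ∧
      ψ 1 = (Nat.card S : ℂ) * c + ε := by
  classical
  have hval : ∀ x, ψ x = (c : ℂ) * ∑ l : IrrCharacter S, (l : S → ℂ) 1 * (l : S → ℂ) x +
      (ε : ℂ) * (l2 : S → ℂ) x := by
    intro x
    rw [ha x]
    have h1 : ∀ l : IrrCharacter S, (a l : ℂ) * (l : S → ℂ) x =
      (c : ℂ) * ((l : S → ℂ) 1 * (l : S → ℂ) x) +
        (if l = l2 then (ε : ℂ) * (l : S → ℂ) x else 0) := fun l => by
      rw [h l, TIData.irr_degree_one_of_comm hcomm l]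
      split_ifs <;> push_cast <;> ring
    simp only [h1, Finset.sum_add_distrib, ← Finset.mul_sum]
    simp
  constructor
  · intro x hx
    rw [hval x, sum_degree_mul, if_neg hx]
    ring
  · rw [hval 1, sum_degree_mul, if_pos rfl, TIData.irr_degree_one_of_comm hcomm l2]
    ring

/-- **Main lemma**: `|ψ(x)| = 1` for all `x ≠ 1` implies `ψ = c ρ + ε λ`. -/
theorem eq_rho_pm (hcomm : ∀ a b : S, a * b = b * a) (ψ : S → ℂ) (hψ : IsCharacter S ψ)
    (s : S) (hs : s ≠ 1) (h : ∀ x, x ≠ 1 → ψ x * conj (ψ x) = 1) :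
    ∃ (c : ℕ) (ε : ℤ) (l : IrrCharacter S), (ε = 1 ∨ ε = -1) ∧
      (∀ x, x ≠ 1 → ψ x = (ε : ℂ) * (l : S → ℂ) x) ∧ ψ 1 = (Nat.card S : ℂ) * c + ε := by
  classical
  haveI : Fintype (IrrCharacter S) := Fintype.ofFinite _
  obtain ⟨a, ha0, ha, has⟩ := ab_exists ψ hψ
  have hψs : ψ s ≠ 0 := fun h0 => by
    have := h s hs
    rw [h0, zero_mul] at this
    exact zero_ne_one this
  obtain ⟨l0, l1, hne⟩ := exists_ne_of_ne_zero hcomm ψ a has s hs hψs
  have hq : quad a = (Fintype.card (IrrCharacter S) : ℤ) - 1 := by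
    have h1 := sum_off_one hcomm ψ hψ a ha
    rw [Finset.sum_congr rfl (fun x hx => h x (Finset.ne_of_mem_erase hx)), Finset.sum_const,
      Finset.card_erase_of_mem (Finset.mem_univ _), nsmul_eq_mul, mul_one] at h1
    have h2 : ((Fintype.card S - 1 : ℕ) : ℤ) = quad a := by exact_mod_cast h1
    rw [← h2, ab_card hcomm, Nat.card_eq_fintype_card]
    have : 0 < Fintype.card S := Fintype.card_pos
    push_cast [Nat.cast_sub this]
    ring
  obtain ⟨c, ε, l2, hε, hc, h2⟩ := (quad_of_ne a ha0 hne).2 hq.le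
  obtain ⟨h3, h4⟩ := eq_of_const ψ hcomm a has c ε l2 h2
  obtain ⟨c', rfl⟩ := Int.eq_ofNat_of_zero_le hc
  exact ⟨c', ε, l2, hε, h3, by rw [h4]; push_cast; ring⟩

end AbChar

end Cfsg.Agent.H74
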