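import Cfsg.Agent.S0942
import Cfsg.Agent.S0947
import Cfsg.Agent.H4.BlkQuot
import Cfsg.Agent.Transfer.NPC
import Cfsg.Agent.H79.Count

/-!
# The principal block at `p`-elements with `p`-nilpotent centralizer (owner: helper74)

* `mem_pPrimeCore_iff`, `index_pPrimeCore`, `mem_core_iff`
* `sum_core_eq_zero`: characters outside the principal block sum to zero over `x O_{p'}(C(x))`
* `sum_principal_norm`, `sum_principal_orth`: orthogonality of the columns of `p`-elements
* `card_pairs_core`: class multiplication through the principal block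
-/

set_option autoImplicit false
set_option linter.unusedSectionVars false
set_option linter.style.haveILetI false

universe u v

namespace Cfsg.Agent.H74

open scoped ComplexConjugate BigOperators
open Cfsg Cfsg.Agent.CharBase Cfsg.Agent.Blk Cfsg.Agent.H4

section Core

variable {H : Type u} [Group H] [Finite H] {p : ℕ} [hp : Fact p.Prime]

theorem mem_pPrimeCore_iff (h : HasNormalPComplement p H) (x : H) :
    x ∈ pPrimeCore p H ↔ (orderOf x).Coprime p := by
  obtain ⟨N, hN, hc, k, hk⟩ := Transfer.hasNPC_iff_exists.mp h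
  rw [← Transfer.mem_iff_coprime_of_card_of_index hc hk]
  have hle : N ≤ pPrimeCore p H := le_sSup ⟨hN, hc⟩
  constructor
  · intro hx
    rw [Transfer.mem_iff_coprime_of_card_of_index hc hk]
    have h1 := Cfsg.Agent.Solv.pPrimeCore_card_coprime (G := H) p
    exact Nat.Coprime.coprime_dvd_left (Subgroup.orderOf_dvd_natCard _ hx) h1
  · exact fun hx => hle hx

theorem index_pPrimeCore (h : HasNormalPComplement p H) : ∃ k, (pPrimeCore p H).index = p ^ k := by
  obtain ⟨N, hN, hc, k, hk⟩ := Transfer.hasNPC_iff_exists.mp h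
  have hle : N ≤ pPrimeCore p H := le_sSup ⟨hN, hc⟩
  have h1 := Subgroup.index_dvd_of_le hle
  rw [hk] at h1
  obtain ⟨j, -, hj⟩ := (Nat.dvd_prime_pow hp.out).mp h1
  exact ⟨j, hj⟩

end Core

section Main

variable {G : Type u} [Group G] [Finite G] {p : ℕ} [hp : Fact p.Prime] {M : Ideal AlgInt}

theorem mem_core_iff {x : G} (h : HasNormalPComplement p (Subgroup.centralizer ({x} : Set G)))
    (v : G) : v ∈ centralizerPPrimeCore p x ↔ Commute x v ∧ (orderOf v).Coprime p := by
  unfold centralizerPPrimeCore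
  rw [Subgroup.mem_map]
  constructor
  · rintro ⟨w, hw, rfl⟩
    have h1 := (mem_pPrimeCore_iff h w).mp hw
    refine ⟨?_, ?_⟩
    · have := Subgroup.mem_centralizer_singleton_iff.mp w.2
      exact this.symm
    · rw [Subgroup.coe_subtype, Subgroup.orderOf_coe]; exact h1
  · rintro ⟨h1, h2⟩
    refine ⟨⟨v, Subgroup.mem_centralizer_singleton_iff.mpr h1.symm⟩, ?_, rfl⟩
    rw [mem_pPrimeCore_iff h, Subgroup.orderOf_mk]
    exact h2

theorem core_le (x : G) : centralizerPPrimeCore p x ≤ Subgroup.centralizer ({x} : Set G) := by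
  rintro v ⟨w, -, rfl⟩
  exact w.2

theorem thirdAt (hM : IsPModular p M) {x : G} (hx : ∃ k : ℕ, orderOf x = p ^ k) :
    ThirdAt M x :=
  H4.thirdAt_of_forall hM hx fun b hb => Cfsg.Agent.S0936.result p M hM _ b hb

/-- A character outside the principal block sums to zero over `x O_{p'}(C(x))` when `C(x)` is
`p`-nilpotent. -/
theorem sum_core_eq_zero (hM : IsPModular p M) {x : G} (hx : ∃ k : ℕ, orderOf x = p ^ k)
    (hnc : HasNormalPComplement p (Subgroup.centralizer ({x} : Set G)))
    [Fintype (centralizerPPrimeCore p x)]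
    {χ : IrrCharacter G} (hχ : χ ∉ principalBlock M G) :
    ∑ v : centralizerPPrimeCore p x, (χ : G → ℂ) (x * v) = 0 := by
  classical
  haveI := Fintype.ofFinite G
  haveI := Fintype.ofFinite (Subgroup.centralizer ({x} : Set G))
  haveI := Fintype.ofFinite (IrrCharacter (Subgroup.centralizer ({x} : Set G)))
  haveI := Fintype.ofFinite (pPrimeCore p (Subgroup.centralizer ({x} : Set G)))
  have h3 := thirdAt hM hx
  have hnc2 := principalBlock_eq_of_npc (G := Subgroup.centralizer ({x} : Set G)) M hM
    (index_pPrimeCore hnc)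
  have hreg : ∀ y : pPrimeCore p (Subgroup.centralizer ({x} : Set G)),
      ¬ p ∣ orderOf (y : Subgroup.centralizer ({x} : Set G)) := fun y hdvd => by
    have h1 := (mem_pPrimeCore_iff hnc (y : Subgroup.centralizer ({x} : Set G))).mp y.2
    exact (Nat.Prime.coprime_iff_not_dvd hp.out).mp h1.symm hdvd
  -- transport to the subgroup of the centralizer
  let e : pPrimeCore p (Subgroup.centralizer ({x} : Set G)) ≃ centralizerPPrimeCore p x :=
    ((pPrimeCore p (Subgroup.centralizer ({x} : Set G))).equivMapOfInjective _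
      (Subgroup.subtype_injective _)).toEquiv
  have he : ∀ y, ((e y : centralizerPPrimeCore p x) : G) =
      ((y : Subgroup.centralizer ({x} : Set G)) : G) := fun y => rfl
  rw [← Equiv.sum_comp e]
  simp only [he]
  have h4 : ∀ y : pPrimeCore p (Subgroup.centralizer ({x} : Set G)),
      (χ : G → ℂ) (x * ((y : Subgroup.centralizer ({x} : Set G)) : G)) =
      ∑ ψ : IrrCharacter (Subgroup.centralizer ({x} : Set G)),
      if ψ ∈ principalBlock M (Subgroup.centralizer ({x} : Set G)) then 0 else
      classInner (fun c : Subgroup.centralizer ({x} : Set G) => (χ : G → ℂ) (x * (c : G)))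
        (ψ : Subgroup.centralizer ({x} : Set G) → ℂ) *
          (ψ : Subgroup.centralizer ({x} : Set G) → ℂ) y := fun y =>
    not_principal_translate_eq hM hx h3 hχ _ (hreg y)
  simp only [h4]
  rw [Finset.sum_comm]
  refine Finset.sum_eq_zero fun ψ _ => ?_
  by_cases hψ : ψ ∈ principalBlock M (Subgroup.centralizer ({x} : Set G))
  · simp [hψ]
  · simp only [if_neg hψ]
    rw [← Finset.mul_sum]
    have h5 : ¬ ∀ n ∈ pPrimeCore p (Subgroup.centralizer ({x} : Set G)),
        (ψ : Subgroup.centralizer ({x} : Set G) → ℂ) n =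
        (ψ : Subgroup.centralizer ({x} : Set G) → ℂ) 1 := by
      intro h
      apply hψ
      rw [hnc2]; exact h
    have h6 := sum_coset_eq_zero (pPrimeCore p (Subgroup.centralizer ({x} : Set G))) ψ h5 1
    simp only [one_mul] at h6
    rw [h6, mul_zero]

theorem principal_core_const (hM : IsPModular p M) {x : G} (hx : ∃ k : ℕ, orderOf x = p ^ k)
    {χ : IrrCharacter G} (hχ : χ ∈ principalBlock M G) {v : G}
    (hv : v ∈ centralizerPPrimeCore p x) : (χ : G → ℂ) (x * v) = (χ : G → ℂ) x :=
  S0942.result p M hM x hx v hv χ hχ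

/-- The norm of the column of `x` in the principal block. -/
theorem sum_principal_norm [Fintype (IrrCharacter G)] (hM : IsPModular p M) {x : G} (hx1 : x ≠ 1)
    (hx : ∃ k : ℕ, orderOf x = p ^ k)
    (hnc : HasNormalPComplement p (Subgroup.centralizer ({x} : Set G)))
    [DecidablePred (· ∈ principalBlock M G)] :
    ∑ χ : IrrCharacter G, (if χ ∈ principalBlock M G then
      (χ : G → ℂ) x * conj ((χ : G → ℂ) x) else 0) =
      ((p ^ (Nat.card (Subgroup.centralizer ({x} : Set G))).factorization p : ℕ) : ℂ) := by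
  have h1 := (S0947.result p M hM x hx hx1 1 (by
    rw [orderOf_one, Nat.dvd_one]; exact hp.out.one_lt.ne')).2 (index_pPrimeCore hnc)
  have h2 := ofReal_finsum_norm_sq (principalBlock M G) (x * ((1 : Subgroup.centralizer ({x} : Set G)) : G))
  rw [h1] at h2
  rw [OneMemClass.coe_one, mul_one] at h2
  rw [Complex.ofReal_natCast] at h2
  rw [h2]
  refine Finset.sum_congr rfl fun χ _ => ?_
  split_ifs <;> rfl

theorem isPPart_self' {x : G} (hx : ∃ k : ℕ, orderOf x = p ^ k) : IsPPart p x x :=
  ⟨1, mul_one x, Commute.one_right x, hx, by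
    rw [orderOf_one, Nat.dvd_one]; exact hp.out.one_lt.ne'⟩

theorem isPPart_one {y : G} (hy : ¬ p ∣ orderOf y) : IsPPart p y 1 :=
  ⟨y, one_mul y, Commute.one_left y, ⟨0, by rw [orderOf_one, pow_zero]⟩, hy⟩

theorem sum_principal_orth [Fintype (IrrCharacter G)] (hM : IsPModular p M) {g h x y : G}
    (hx : IsPPart p g x) (hy : IsPPart p h y) (hxy : ¬ IsConj x y)
    [DecidablePred (· ∈ principalBlock M G)] :
    ∑ χ : IrrCharacter G, (if χ ∈ principalBlock M G then
      (χ : G → ℂ) g * conj ((χ : G → ℂ) h) else 0) = 0 := by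
  haveI := Fintype.ofFinite G
  haveI : M.IsPrime := isPrime_of_isPModular hM
  have h1 := block_orthogonality hM (isPBlock_principalBlock (M := M) (G := G)) hx hy hxy
  rw [finsum_mem_eq_sum_ite] at h1
  exact h1

/-- Values of principal block characters at `p`-elements with full centralizer are nonzero. -/
theorem principal_value_ne_zero (hM : IsPModular p M) {x : G}
    (hidx : ¬ p ∣ (Subgroup.centralizer ({x} : Set G)).index)
    {χ : IrrCharacter G} (hχ : χ ∈ principalBlock M G) : (χ : G → ℂ) x ≠ 0 := by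
  haveI : M.IsPrime := isPrime_of_isPModular hM
  intro h0
  have h1 : SameBlock M (fun _ : G => (1 : ℂ)) (χ : G → ℂ) := hχ
  have h2 := h1 x
  unfold centralChar at h2
  rw [h0, mul_zero, zero_div, sub_zero, mul_one, div_one, mli_natCast_iff hM] at h2
  exact hidx h2

/-- class multiplication through the principal block. -/
theorem card_pairs_core [Fintype G] [DecidableEq G] [Fintype (IrrCharacter G)]
    (hM : IsPModular p M) {z : G} (hz : ∃ k : ℕ, orderOf z = p ^ k)
    (hnc : HasNormalPComplement p (Subgroup.centralizer ({z} : Set G)))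
    [DecidablePred (· ∈ centralizerPPrimeCore p z)] [DecidablePred (· ∈ principalBlock M G)]
    (t : G) :
    (((Finset.univ : Finset (G × G)).filter
      (fun q => z⁻¹ * (q.1 * t * q.1⁻¹ * (q.2 * t * q.2⁻¹)) ∈ centralizerPPrimeCore p z)).card : ℂ) =
    (Nat.card G : ℂ) * (Nat.card (centralizerPPrimeCore p z) : ℂ) *
      ∑ χ : IrrCharacter G, (if χ ∈ principalBlock M G then
      (χ : G → ℂ) t * (χ : G → ℂ) t * conj ((χ : G → ℂ) z) / (χ : G → ℂ) 1 else 0) := by
  classical
  haveI : Fintype (centralizerPPrimeCore p z) := Fintype.ofFinite _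
  have h1 : ((Finset.univ : Finset (G × G)).filter
      (fun q => z⁻¹ * (q.1 * t * q.1⁻¹ * (q.2 * t * q.2⁻¹)) ∈ centralizerPPrimeCore p z)).card =
      ∑ v : centralizerPPrimeCore p z, ((Finset.univ : Finset (G × G)).filter
      (fun q => q.1 * t * q.1⁻¹ * (q.2 * t * q.2⁻¹) = z * v)).card := by
    rw [← Finset.card_biUnion]
    · congr 1
      ext q
      simp only [Finset.mem_filter, Finset.mem_univ, true_and, Finset.mem_biUnion]
      constructor
      · intro h
        exact ⟨⟨_, h⟩, by simp⟩
      · rintro ⟨v, hv⟩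
        rw [hv]
        simp
    · intro v _ w _ hvw
      rw [Function.onFun, Finset.disjoint_left]
      intro q hq hq'
      rw [Finset.mem_filter] at hq hq'
      exact hvw (Subtype.ext (mul_left_cancel (hq.2.symm.trans hq'.2)))
  rw [h1]
  push_cast
  simp only [H79.card_pairs]
  rw [← Finset.mul_sum, Finset.sum_comm, mul_assoc]
  congr 1
  rw [Finset.mul_sum]
  refine Finset.sum_congr rfl fun χ _ => ?_
  have h2 : ∀ v : centralizerPPrimeCore p z, (χ : G → ℂ) (z * v)⁻¹ = conj ((χ : G → ℂ) (z * v)) :=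
    fun v => isCharacter_inv (irr_isCharacter χ) _
  simp only [h2]
  have h3 : ∑ v : centralizerPPrimeCore p z, (χ : G → ℂ) t * (χ : G → ℂ) t *
      conj ((χ : G → ℂ) (z * v)) / (χ : G → ℂ) 1 = (χ : G → ℂ) t * (χ : G → ℂ) t *
      conj (∑ v : centralizerPPrimeCore p z, (χ : G → ℂ) (z * v)) / (χ : G → ℂ) 1 := by
    rw [map_sum, Finset.mul_sum, Finset.sum_div]
  rw [h3]
  by_cases hχ : χ ∈ principalBlock M G
  · rw [if_pos hχ]
    have h4 : ∀ v : centralizerPPrimeCore p z, (χ : G → ℂ) (z * v) = (χ : G → ℂ) z :=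
      fun v => principal_core_const hM hz hχ v.2
    simp only [h4]
    rw [Finset.sum_const, Finset.card_univ, nsmul_eq_mul, map_mul, Nat.card_eq_fintype_card,
      Complex.conj_natCast]
    ring
  · rw [if_neg hχ, sum_core_eq_zero hM hz hnc hχ, map_zero]
    simp

end Main

end Cfsg.Agent.H74
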