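import Mathlib
import Cfsg.Agent.BR.SelfCent
import Cfsg.Agent.BR.OddI
import Cfsg.Agent.BR.Det
import Cfsg.Agent.BT.Kernel
import Cfsg.Agent.CycG.PrinData
import Cfsg.Agent.H37.OrdA

/-!
# Involutions centralizing a Sylow subgroup of prime order
-/

set_option autoImplicit false

namespace Cfsg.Agent.H74.CInv

open Cfsg Subgroup Cfsg.Agent.BR
open Cfsg.Agent.CharBase (oneIrr)

universe u

variable {G : Type u} [Group G] [Finite G] {p : ℕ} [hp : Fact p.Prime] {P : Subgroup G}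

/-- the values of the characters of `X` at the `p`-regular elements of `C(P)`. -/
theorem dvd_val (B : Data p P) (hP : Sp p P) {χ : IrrCharacter G} (hχ : χ ∈ B.X) {v : G}
    (hv : v ∈ centralizer (P : Set G)) (hvp : ¬ p ∣ orderOf v) {b : ℤ} (hb : (χ : G → ℂ) v = b) :
    (p : ℤ) ∣ b - B.δ χ := by
  classical
  have := Fintype.ofFinite G
  have := Fintype.ofFinite P
  have hp1 : ((p - 1 : ℕ) : ℂ) = (p : ℂ) - 1 := by
    rw [Nat.cast_sub hp.out.one_lt.le]; simp
  set L := normalizer (P : Set G) with hL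
  have hvL : v ∈ L := centralizer_le_normalizer' P hv
  have := Fintype.ofFinite L
  have := Fintype.ofFinite (P.subgroupOf L)
  have hχL : IsCharacter L (fun l : L => (χ : G → ℂ) l) := CharBase.isCharacter_restrict (CharBase.irr_isCharacter χ) L
  have e : ∀ w : L, ∑ x : P, (χ : G → ℂ) (x * w) = ∑ x : P.subgroupOf L, (χ : G → ℂ) (((x : L) * w : L) : G) := by
    intro w
    refine Fintype.sum_equiv (Subgroup.subgroupOfEquivOfLe (Subgroup.le_normalizer (H := P))).symm.toEquiv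
      _ _ ?_
    intro x
    rfl
  have h1 := Char.avgN_isCharacter (P.subgroupOf L) hχL
  have hint := CharBase.isIntegral_of_isCharacter h1 ⟨v, hvL⟩
  have hcard : (Nat.card (P.subgroupOf L) : ℂ) = p := by
    rw [Nat.card_congr (Subgroup.subgroupOfEquivOfLe (Subgroup.le_normalizer (H := P))).toEquiv, hP.card]
  have hpC : (p : ℂ) ≠ 0 := by exact_mod_cast hp.out.ne_zero
  have hsum : ∑ x : P, (χ : G → ℂ) (x * v) = b + ((p : ℂ) - 1) * B.δ χ := by
    rw [sum_P_split (fun x : P => (χ : G → ℂ) (x * v))]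
    congr 1
    · rw [Subgroup.coe_one, one_mul, hb]
    · rw [Finset.sum_congr rfl (g := fun _ => (B.δ χ : ℂ))]
      · rw [Finset.sum_const, Finset.card_erase_of_mem (Finset.mem_univ _), Finset.card_univ,
          ← Nat.card_eq_fintype_card, hP.card, nsmul_eq_mul, hp1]
      · intro x hx
        rw [B.val χ hχ x x.2 (fun h => (Finset.mem_erase.mp hx).1 (Subtype.ext h)) v hv hvp]
  have h2 : ((p : ℤ) : ℂ) * Char.avgN (P.subgroupOf L) (fun l : L => (χ : G → ℂ) l) ⟨v, hvL⟩ =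
      ((b + (p - 1) * B.δ χ : ℤ) : ℂ) := by
    rw [Char.avgN_apply, ← e ⟨v, hvL⟩, hcard]
    push_cast
    rw [← mul_assoc, mul_inv_cancel₀ hpC, one_mul]
    exact hsum
  obtain ⟨j, hj⟩ := int_of_isIntegral_mul hint (m := (p : ℤ)) (by exact_mod_cast hp.out.ne_zero) h2
  rw [hj] at h2
  have h3 : (p : ℤ) * j = b + (p - 1) * B.δ χ := by exact_mod_cast h2
  exact ⟨j - B.δ χ, by linear_combination -h3⟩

/-- the values at involutions of `C(P)`. -/
theorem exists_k (B : Data p P) (hP : Sp p P) (hp2 : p ≠ 2) (hperf : commutator G = ⊤) {χ : IrrCharacter G}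
    (hχ : χ ∈ B.X) {v : G} (hv : v ∈ centralizer (P : Set G)) (hv2 : orderOf v = 2) :
    ∃ k : ℕ, (χ : G → ℂ) v = (dg χ : ℂ) - 4 * k ∧ p ∣ k ∧ 2 * k ≤ dg χ := by
  have hv2' : v ^ 2 = 1 := by rw [← hv2]; exact pow_orderOf_eq_one v
  obtain ⟨k, hk⟩ := involution_value hperf χ hv2'
  refine ⟨k, hk, ?_, ?_⟩
  · have h1 := dvd_val B hP hχ hv (by
      rw [hv2]
      intro h
      exact hp2 ((Nat.prime_dvd_prime_iff_eq hp.out Nat.prime_two).1 h)) (b := (dg χ : ℤ) - 4 * k) (by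
      rw [hk]; push_cast; rfl)
    have h2 := B.congr_X hP hχ
    have h3 : (p : ℤ) ∣ 4 * k := by
      have := dvd_sub h2 h1
      have e : (dg χ : ℤ) - B.δ χ - ((dg χ : ℤ) - 4 * k - B.δ χ) = 4 * k := by ring
      rwa [e] at this
    have h4 : p ∣ 4 * k := by exact_mod_cast h3
    refine Nat.Coprime.dvd_of_dvd_mul_left ?_ h4
    have : Nat.Coprime p 2 := (Nat.coprime_primes hp.out Nat.prime_two).2 hp2
    have h5 := Nat.Coprime.pow_right 2 this
    simpa using h5
  · obtain ⟨m, hm, hm2⟩ := CharBase.norm_le_of_isCharacter (CharBase.irr_isCharacter χ) v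
    have hm' : m = dg χ := by
      rw [dg_eq] at hm
      exact_mod_cast hm.symm
    rw [hm', hk] at hm2
    have h1 : ((dg χ : ℂ) - 4 * k) = (((dg χ : ℝ) - 4 * k : ℝ) : ℂ) := by push_cast; ring
    rw [h1, Complex.norm_real, Real.norm_eq_abs, abs_le] at hm2
    have h2 : (4 * k : ℝ) ≤ 2 * dg χ := by linarith [hm2.1]
    have h3 : 4 * k ≤ 2 * dg χ := by exact_mod_cast h2
    omega

/-- a nonprincipal character of the principal block has degree at least `2 p`. -/
theorem big_X [IsSimpleGroup G] (B : Data p P) (hP : Sp p P) (hp2 : p ≠ 2) (hperf : commutator G = ⊤)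
    {χ : IrrCharacter G} (hχ : χ ∈ B.X) (h1 : χ ≠ oneIrr G) {v : G} (hv : v ∈ centralizer (P : Set G))
    (hv2 : orderOf v = 2) : 2 * p ≤ dg χ := by
  obtain ⟨k, hk, hpk, hk2⟩ := exists_k B hP hp2 hperf hχ hv hv2
  have hk0 : k ≠ 0 := by
    rintro rfl
    have h2 : (χ : G → ℂ) v = (χ : G → ℂ) 1 := by rw [hk, dg_eq]; simp
    have h3 := BT.faithful_of_simple h1 h2
    rw [h3, orderOf_one] at hv2
    omega
  have := Nat.le_of_dvd (Nat.pos_of_ne_zero hk0) hpk
  omega

/-- the same for the exceptional characters. -/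
theorem big_Y [IsSimpleGroup G] (B : Data p P) (hP : Sp p P) (hp2 : p ≠ 2) (hperf : commutator G = ⊤)
    {ψ : IrrCharacter G} (hψ : ψ ∈ B.Y) {v : G} (hv : v ∈ centralizer (P : Set G))
    (hv2 : orderOf v = 2) : 2 * p ≤ dg ψ := by
  classical
  have hψ1 : ψ ≠ oneIrr G := by
    rintro rfl
    exact (Finset.disjoint_left.1 B.disj) B.one_mem hψ
  have hv2' : v ^ 2 = 1 := by rw [← hv2]; exact pow_orderOf_eq_one v
  obtain ⟨k, hk⟩ := involution_value hperf ψ hv2'
  have hpv : ¬ p ∣ orderOf v := by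
    rw [hv2]
    intro h
    exact hp2 ((Nat.prime_dvd_prime_iff_eq hp.out Nat.prime_two).1 h)
  have hpk : p ∣ k := by
    have h1 := B.reg v hpv ψ hψ
    have h2 := B.reg 1 not_dvd_orderOf_one ψ hψ
    have hX : ∀ χ ∈ B.X, ∃ j : ℤ, (χ : G → ℂ) 1 - (χ : G → ℂ) v = ((p * j : ℤ) : ℂ) := by
      intro χ hχ
      obtain ⟨k, hk, ⟨j, hj⟩, -⟩ := exists_k B hP hp2 hperf hχ hv hv2
      refine ⟨4 * j, ?_⟩
      rw [dg_eq, hk, hj]
      push_cast
      ring
    have h3 : ∃ j : ℤ, ∑ χ ∈ B.X, (B.δ χ : ℂ) * ((χ : G → ℂ) 1 - (χ : G → ℂ) v) = ((p * j : ℤ) : ℂ) := by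
      choose! j hj using hX
      refine ⟨∑ χ ∈ B.X, B.δ χ * j χ, ?_⟩
      rw [Finset.sum_congr rfl (fun χ hχ => by rw [hj χ hχ])]
      push_cast
      rw [Finset.mul_sum]
      refine Finset.sum_congr rfl (fun χ _ => by ring)
    obtain ⟨j, hj⟩ := h3
    have h4 : ((p * j : ℤ) : ℂ) + (B.δ₀ : ℂ) * (4 * k) = 0 := by
      rw [← hj]
      simp only [mul_sub, Finset.sum_sub_distrib]
      rw [hk] at h1
      rw [dg_eq] at h2
      linear_combination h2 - h1
    have h5 : (p * j : ℤ) + B.δ₀ * (4 * k) = 0 := by exact_mod_cast h4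
    have h6 : (p : ℤ) ∣ 4 * k := by
      rcases B.sgn₀ with h | h
      · rw [h] at h5
        exact ⟨-j, by linear_combination h5⟩
      · rw [h] at h5
        exact ⟨j, by linear_combination -h5⟩
    have h7 : p ∣ 4 * k := by exact_mod_cast h6
    refine Nat.Coprime.dvd_of_dvd_mul_left ?_ h7
    have : Nat.Coprime p 2 := (Nat.coprime_primes hp.out Nat.prime_two).2 hp2
    have h5 := Nat.Coprime.pow_right 2 this
    simpa using h5
  have hk2 : 2 * k ≤ dg ψ := by
    obtain ⟨m, hm, hm2⟩ := CharBase.norm_le_of_isCharacter (CharBase.irr_isCharacter ψ) v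
    have hm' : m = dg ψ := by
      rw [dg_eq] at hm
      exact_mod_cast hm.symm
    rw [hm', hk] at hm2
    have h1 : ((dg ψ : ℂ) - 4 * k) = (((dg ψ : ℝ) - 4 * k : ℝ) : ℂ) := by push_cast; ring
    rw [h1, Complex.norm_real, Real.norm_eq_abs, abs_le] at hm2
    have h2 : (4 * k : ℝ) ≤ 2 * dg ψ := by linarith [hm2.1]
    have h3 : 4 * k ≤ 2 * dg ψ := by exact_mod_cast h2
    omega
  have hk0 : k ≠ 0 := by
    rintro rfl
    have h2 : (ψ : G → ℂ) v = (ψ : G → ℂ) 1 := by rw [hk, dg_eq]; simp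
    have h3 := BT.faithful_of_simple hψ1 h2
    rw [h3, orderOf_one] at hv2
    omega
  have := Nat.le_of_dvd (Nat.pos_of_ne_zero hk0) hpk
  omega

end Cfsg.Agent.H74.CInv
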