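import Mathlib
import Cfsg.Agent.H37.OrdC
import Cfsg.Agent.BR.Count

/-!
# Simple groups of order 720, part A: local structure and counting
-/

set_option autoImplicit false

namespace Cfsg.Agent.H74.O7

open Cfsg Subgroup Cfsg.Agent.BR
open Cfsg.Agent.CharBase (oneIrr)

universe u

def sg (f : ℕ) : ℤ := if f = 6 ∨ f = 16 then 1 else -1

def L5 : List ℕ := [4, 6, 9, 16, 24]

def chk (f1 f2 f3 f4 : ℕ) : Bool :=
  (List.range (f1 / 2 + 1)).all fun k1 => (List.range (f2 / 2 + 1)).all fun k2 =>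
  (List.range (f3 / 2 + 1)).all fun k3 => (List.range (f4 / 2 + 1)).all fun k4 =>
    (!(sg f1 * k1 + sg f2 * k2 + sg f3 * k3 + sg f4 * k4 == 0)) ||
    (List.range 70).all fun c =>
      (!(((c : ℤ) * c * (f1 * f2 * f3 * f4) : ℤ) == 144 * (f1 * f2 * f3 * f4 +
        sg f1 * (f1 - 4 * k1) * (f1 - 4 * k1) * f2 * f3 * f4 +
        sg f2 * (f2 - 4 * k2) * (f2 - 4 * k2) * f1 * f3 * f4 +
        sg f3 * (f3 - 4 * k3) * (f3 - 4 * k3) * f1 * f2 * f4 +
        sg f4 * (f4 - 4 * k4) * (f4 - 4 * k4) * f1 * f2 * f3))) || c == 12 || c == 0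

def chkAll : Bool := L5.all fun f1 => L5.all fun f2 => L5.all fun f3 => L5.all fun f4 =>
  (!(1 + sg f1 * f1 + sg f2 * f2 + sg f3 * f3 + sg f4 * f4 == 0)) ||
  (decide (719 < f1 * f1 + f2 * f2 + f3 * f3 + f4 * f4)) || chk f1 f2 f3 f4

theorem chkAll_eq : chkAll = true := by decide +kernel

theorem sum_le : ∀ f1 ∈ L5, ∀ f2 ∈ L5, ∀ f3 ∈ L5, ∀ f4 ∈ L5,
    1 + (sg f1 * f1 + sg f2 * f2 + sg f3 * f3 + sg f4 * f4) = 0 →
    f1 * f1 + f2 * f2 + f3 * f3 + f4 * f4 ≤ 719 → f1 + f2 + f3 + f4 ≤ 33 := by decide +kernel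

theorem num720 (f : Fin 4 → ℕ) (k : Fin 4 → ℕ) (c : ℕ) (hf : ∀ i, f i ∈ L5)
    (hsum : 1 + ∑ i, sg (f i) * (f i : ℤ) = 0) (hsq : ∑ i, f i * f i ≤ 719)
    (hk : ∀ i, k i ≤ f i / 2) (hks : ∑ i, sg (f i) * (k i : ℤ) = 0) (hc0 : c ≠ 0)
    (h : (c : ℚ) ^ 2 = 144 * (1 + ∑ i, (sg (f i) : ℚ) * ((f i : ℚ) - 4 * k i) ^ 2 / (f i : ℚ))) :
    c = 12 := by
  have hpos' : ∀ i, (0 : ℚ) < f i := by
    intro i
    have : ∀ x ∈ L5, 0 < x := by decide
    exact_mod_cast this _ (hf i)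
  have hterm : ∀ i, (sg (f i) : ℚ) * ((f i : ℚ) - 4 * k i) ^ 2 / (f i : ℚ) ≤ f i := by
    intro i
    rw [div_le_iff₀ (hpos' i)]
    have h1 : (sg (f i) : ℚ) ≤ 1 := by
      unfold sg
      split_ifs <;> norm_num
    have h2 : ((f i : ℚ) - 4 * k i) ^ 2 ≤ f i * f i := by
      have h3 : (2 : ℚ) * k i ≤ f i := by
        have := hk i
        have h4 : 2 * k i ≤ f i := by omega
        exact_mod_cast h4
      have h5 : (0 : ℚ) ≤ k i := by positivity
      nlinarith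
    have h6 : (0 : ℚ) ≤ ((f i : ℚ) - 4 * k i) ^ 2 := sq_nonneg _
    nlinarith
  have hc : c < 70 := by
    have h1 : (c : ℚ) ^ 2 ≤ 144 * (1 + ∑ i, (f i : ℚ)) := by
      rw [h]
      have := Finset.sum_le_sum (fun i (_ : i ∈ Finset.univ) => hterm i)
      linarith
    have h2 : f 0 + f 1 + f 2 + f 3 ≤ 33 := by
      refine sum_le _ (hf 0) _ (hf 1) _ (hf 2) _ (hf 3) ?_ ?_
      · rw [Fin.sum_univ_four] at hsum
        exact hsum
      · rw [Fin.sum_univ_four] at hsq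
        exact hsq
    have h3 : (c : ℚ) ^ 2 ≤ 4896 := by
      rw [Fin.sum_univ_four] at h1
      have h4 : ((f 0 : ℚ) + f 1 + f 2 + f 3) ≤ 33 := by exact_mod_cast h2
      linarith
    have h4 : c ^ 2 ≤ 4896 := by exact_mod_cast h3
    nlinarith
  have hall := chkAll_eq
  unfold chkAll at hall
  rw [List.all_eq_true] at hall
  have h1 := hall _ (hf 0)
  rw [List.all_eq_true] at h1
  have h2 := h1 _ (hf 1)
  rw [List.all_eq_true] at h2
  have h3 := h2 _ (hf 2)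
  rw [List.all_eq_true] at h3
  have h4 := h3 _ (hf 3)
  have hpos : ∀ i, (f i : ℚ) ≠ 0 := by
    intro i
    have : ∀ x ∈ L5, x ≠ 0 := by decide
    exact_mod_cast this _ (hf i)
  simp only [Fin.sum_univ_four] at hsum hsq hks h
  rw [Bool.or_eq_true, Bool.or_eq_true] at h4
  rcases h4 with (h4 | h4) | h4
  · exfalso
    simp at h4
    apply h4
    linarith
  · exfalso
    simp at h4
    omega
  · unfold chk at h4
    rw [List.all_eq_true] at h4
    have h5 := h4 (k 0) (List.mem_range.2 (Nat.lt_succ_of_le (hk 0)))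
    rw [List.all_eq_true] at h5
    have h6 := h5 (k 1) (List.mem_range.2 (Nat.lt_succ_of_le (hk 1)))
    rw [List.all_eq_true] at h6
    have h7 := h6 (k 2) (List.mem_range.2 (Nat.lt_succ_of_le (hk 2)))
    rw [List.all_eq_true] at h7
    have h8 := h7 (k 3) (List.mem_range.2 (Nat.lt_succ_of_le (hk 3)))
    rw [Bool.or_eq_true] at h8
    rcases h8 with h8 | h8
    · exfalso
      simp at h8
      exact h8 hks
    · rw [List.all_eq_true] at h8
      have h9 := h8 c (List.mem_range.2 hc)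
      rw [Bool.or_eq_true, Bool.or_eq_true] at h9
      rcases h9 with (h9 | h9) | h9
      · exfalso
        simp only [Bool.not_eq_true', beq_eq_false_iff_ne, ne_eq] at h9
        apply h9
        have h10 : ((c : ℚ) * c * (f 0 * f 1 * f 2 * f 3) : ℚ) = 144 * (f 0 * f 1 * f 2 * f 3 +
          sg (f 0) * (f 0 - 4 * k 0) * (f 0 - 4 * k 0) * f 1 * f 2 * f 3 +
          sg (f 1) * (f 1 - 4 * k 1) * (f 1 - 4 * k 1) * f 0 * f 2 * f 3 +
          sg (f 2) * (f 2 - 4 * k 2) * (f 2 - 4 * k 2) * f 0 * f 1 * f 3 +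
          sg (f 3) * (f 3 - 4 * k 3) * (f 3 - 4 * k 3) * f 0 * f 1 * f 2) := by
          have e : (c : ℚ) * c = (c : ℚ) ^ 2 := by ring
          rw [e, h]
          have p0 := hpos 0
          have p1 := hpos 1
          have p2 := hpos 2
          have p3 := hpos 3
          field_simp
          ring
        exact_mod_cast h10
      · simpa using h9
      · exact absurd (by simpa using h9) hc0

theorem deg720 : ∀ f ∈ Nat.divisors 144, f ≠ 1 → f * f ≤ 719 → (f % 5 = 1 → f ∈ L5 ∧ sg f = 1) ∧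
    (f % 5 = 4 → f ∈ L5 ∧ sg f = -1) := by decide

end Cfsg.Agent.H74.O7
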