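import Mathlib
import Cfsg.Agent.H74.Ord720A

/-!
# Simple groups of order 720, part B
-/

set_option autoImplicit false

namespace Cfsg.Agent.H74.O7

open Cfsg Subgroup Cfsg.Agent.BR
open Cfsg.Agent.CharBase (oneIrr)

universe u

section

variable {G : Type u} [Group G] [Finite G]

/-- A group of order 20 which is the normalizer of a self-centralizing subgroup of order 5 contains an element of
order 4 acting as squaring. -/
theorem exists_y {P : Subgroup G} (hP : Nat.card P = 5) (hC : centralizer (P : Set G) = P)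
    (hN : Nat.card (normalizer (P : Set G)) = 20) :
    ∃ x ∈ P, x ≠ 1 ∧ (∀ z ∈ P, z ∈ zpowers x) ∧ ∃ y : G, y * x * y⁻¹ = x ^ 2 ∧ y ^ 4 = 1 := by
  classical
  have := Fintype.ofFinite G
  have hp : Fact (Nat.Prime 5) := ⟨by norm_num⟩
  obtain ⟨x, hx1⟩ : ∃ x : P, x ≠ 1 := by
    by_contra hcon
    push Not at hcon
    have : Nat.card P = 1 := by
      rw [Nat.card_eq_one_iff_unique]
      exact ⟨⟨fun a b => by rw [hcon a, hcon b]⟩, ⟨1⟩⟩
    omega
  have hxo : orderOf x = 5 := by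
    have := orderOf_dvd_natCard x
    rw [hP, Nat.dvd_prime (by norm_num)] at this
    rcases this with h | h
    · exact absurd (orderOf_eq_one_iff.1 h) hx1
    · exact h
  have hxo' : orderOf (x : G) = 5 := by rw [← hxo, Subgroup.orderOf_coe]
  have hx5 : (x : G) ^ 5 = 1 := by rw [← hxo', pow_orderOf_eq_one]
  have hgen : ∀ z : P, z ∈ zpowers x := by
    have h1 : Nat.card (zpowers x) = Nat.card P := by rw [Nat.card_zpowers, hxo, hP]
    have h2 := Subgroup.eq_top_of_card_eq _ h1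
    intro z
    rw [h2]
    trivial
  have hgen' : ∀ z ∈ P, z ∈ zpowers (x : G) := by
    intro z hz
    obtain ⟨i, hi⟩ := hgen ⟨z, hz⟩
    exact ⟨i, by simpa using congrArg Subtype.val hi⟩
  refine ⟨x, x.2, fun h => hx1 (Subtype.ext h), hgen', ?_⟩
  -- elements of `P`
  have hcx : ∀ g : G, g * x = x * g → g ∈ P := by
    intro g hg
    rw [← hC, mem_centralizer_iff]
    intro z hz
    obtain ⟨i, hi⟩ := hgen' z hz
    have h1 : Commute g (x : G) := hg
    have h2 := h1.zpow_right i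
    rw [← hi]
    exact h2.eq.symm
  obtain ⟨g, hgN, hg⟩ : ∃ g ∈ normalizer (P : Set G), g * x * g⁻¹ = x ^ 2 := by
    by_contra hcon
    push Not at hcon
    -- map N → P
    have hmaps : ∀ g : normalizer (P : Set G), (g : G) * x * (g : G)⁻¹ ∈ P := fun g =>
      (mem_normalizer_iff.1 g.2 x).1 x.2
    let F : normalizer (P : Set G) → P := fun g => ⟨(g : G) * x * (g : G)⁻¹, hmaps g⟩
    have hbound : (Finset.univ : Finset (normalizer (P : Set G))).card ≤
        5 * (Finset.univ.image F).card := by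
      refine Finset.card_le_mul_card_image _ 5 ?_
      intro a ha
      rw [Finset.mem_image] at ha
      obtain ⟨g₀, -, hg₀⟩ := ha
      have h1 : (Finset.univ.filter (fun g => F g = a)).card ≤ (Finset.univ : Finset P).card := by
        have h2 : ∀ g : normalizer (P : Set G), F g = a → (g₀ : G)⁻¹ * g ∈ P := by
          intro g hg
          apply hcx
          have h3 : (g : G) * x * (g : G)⁻¹ = g₀ * x * (g₀ : G)⁻¹ := by
            have := hg.trans hg₀.symm
            exact congrArg Subtype.val this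
          calc (g₀ : G)⁻¹ * g * x = (g₀ : G)⁻¹ * (g * x * (g : G)⁻¹) * g := by group
            _ = x * ((g₀ : G)⁻¹ * g) := by rw [h3]; group
        let e : normalizer (P : Set G) → P := fun g => if h : F g = a then ⟨(g₀ : G)⁻¹ * g, h2 g h⟩ else 1
        refine Finset.card_le_card_of_injOn e (fun _ _ => Finset.mem_univ _) ?_
        intro g1 hg1 g2 hg2 he
        have hg1' : F g1 = a := (Finset.mem_filter.1 hg1).2
        have hg2' : F g2 = a := (Finset.mem_filter.1 hg2).2
        simp only [e, hg1', hg2', dif_pos] at he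
        have := congrArg Subtype.val he
        simp only [mul_right_inj] at this
        exact Subtype.ext this
      refine h1.trans ?_
      rw [Finset.card_univ, ← Nat.card_eq_fintype_card, hP]
    have h3 : (Finset.univ.image F) ⊆ (Finset.univ.erase (1 : P)).erase (x ^ 2) := by
      intro a ha
      rw [Finset.mem_image] at ha
      obtain ⟨g₀, -, rfl⟩ := ha
      rw [Finset.mem_erase, Finset.mem_erase]
      refine ⟨?_, ?_, Finset.mem_univ _⟩
      · intro h
        apply hcon g₀ g₀.2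
        have := congrArg Subtype.val h
        simpa [F] using this
      · intro h
        have h4 := congrArg Subtype.val h
        simp only [F, OneMemClass.coe_one] at h4
        apply hx1
        apply Subtype.ext
        have : (x : G) = (g₀ : G)⁻¹ * ((g₀ : G) * x * (g₀ : G)⁻¹) * g₀ := by group
        rw [this, h4]
        simp
    have h4 := Finset.card_le_card h3
    have h5 : x ^ 2 ≠ 1 := by
      intro h
      have := orderOf_dvd_of_pow_eq_one h
      rw [hxo] at this
      omega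
    rw [Finset.card_erase_of_mem (by rw [Finset.mem_erase]; exact ⟨h5, Finset.mem_univ _⟩),
      Finset.card_erase_of_mem (Finset.mem_univ _), Finset.card_univ, ← Nat.card_eq_fintype_card, hP] at h4
    rw [Finset.card_univ, ← Nat.card_eq_fintype_card, hN] at hbound
    omega
  refine ⟨g ^ 5, ?_, ?_⟩
  · have hpow : ∀ n : ℕ, g ^ n * x * (g ^ n)⁻¹ = (x : G) ^ (2 ^ n) := by
      intro n
      induction n with
      | zero => simp
      | succ n ih =>
        have h6 : g ^ (n + 1) * x * (g ^ (n + 1))⁻¹ = g * (g ^ n * x * (g ^ n)⁻¹) * g⁻¹ := by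
          rw [pow_succ']
          group
        rw [h6, ih, ← conj_pow, hg, ← pow_mul]
        congr 1
        rw [pow_succ']
    rw [hpow 5]
    have h7 : (x : G) ^ 2 ^ 5 = ((x : G) ^ 5) ^ 6 * x ^ 2 := by
      rw [← pow_mul, ← pow_add]
      norm_num
    rw [h7, hx5, one_pow, one_mul]
  · rw [← pow_mul]
    have h8 : (⟨g, hgN⟩ : normalizer (P : Set G)) ^ 20 = 1 := by
      rw [← hN]
      exact pow_card_eq_one'
    exact congrArg Subtype.val h8

end

section

variable {G : Type u} [Group G] [Finite G]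

theorem card_pairs {P : Subgroup G} (hP : Nat.card P = 5) {x t : G} (hx : x ∈ P) (hx1 : x ≠ 1)
    (hcx : ∀ g : G, g * x = x * g → g ∈ P) (hgen : ∀ z ∈ P, z ∈ zpowers x)
    (ht : t * x * t⁻¹ = x⁻¹) (ht2 : t * t = 1) :
    Nat.card (PairSet t x) = 5 * (Nat.card (centralizer ({t} : Set G)) *
      Nat.card (centralizer ({t} : Set G))) := by
  have hx5 : x ^ 5 = 1 := by
    have : (⟨x, hx⟩ : P) ^ 5 = 1 := by rw [← hP]; exact pow_card_eq_one'
    exact congrArg Subtype.val this
  have hti : t⁻¹ = t := inv_eq_of_mul_eq_one_right ht2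
  have hinv : ∀ z ∈ P, t * z * t = z⁻¹ := by
    intro z hz
    obtain ⟨i, rfl⟩ := hgen z hz
    have h1 : t * x ^ i * t⁻¹ = (t * x * t⁻¹) ^ i := by rw [conj_zpow]
    rw [hti] at h1 ht
    simp only
    rw [h1, ht, inv_zpow]
  have hcomm : ∀ z ∈ P, ∀ w ∈ P, z * w = w * z := by
    intro z hz w hw
    obtain ⟨i, rfl⟩ := hgen z hz
    obtain ⟨j, rfl⟩ := hgen w hw
    exact ((Commute.refl x).zpow_zpow i j).eq
  have hp5 : ∀ z ∈ P, z ^ 5 = 1 := by
    intro z hz
    have : (⟨z, hz⟩ : P) ^ 5 = 1 := by rw [← hP]; exact pow_card_eq_one'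
    exact congrArg Subtype.val this
  -- conjugating `t` by `s ∈ P`
  have hst : ∀ s ∈ P, s * t * s⁻¹ = s ^ 2 * t := by
    intro s hs
    have h1 := hinv _ (inv_mem hs)
    rw [inv_inv] at h1
    calc s * t * s⁻¹ = s * (t * s⁻¹ * t) * t⁻¹ := by group
      _ = s ^ 2 * t := by rw [h1, hti, pow_two]
  -- every `u` with `u x u⁻¹ = x⁻¹` is `s t s⁻¹`
  have hinvx : ∀ u : G, u * x * u⁻¹ = x⁻¹ → ∃ s ∈ P, u = s * t * s⁻¹ := by
    intro u hu
    have h1 : u * t ∈ P := by
      apply hcx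
      have h2 := hinv x hx
      have h3 : t * x = x⁻¹ * t := by
        calc t * x = (t * x * t) * t⁻¹ := by group
          _ = x⁻¹ * t := by rw [h2, hti]
      have h4 : u * x⁻¹ = x * u := by
        have : u * x⁻¹ * u⁻¹ = x := by
          have := congrArg (·⁻¹) hu
          simp only [inv_inv] at this
          calc u * x⁻¹ * u⁻¹ = (u * x * u⁻¹)⁻¹ := by group
            _ = x := this
        calc u * x⁻¹ = (u * x⁻¹ * u⁻¹) * u := by group
          _ = x * u := by rw [this]
      calc u * t * x = u * (t * x) := by group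
        _ = (u * x⁻¹) * t := by rw [h3]; group
        _ = x * (u * t) := by rw [h4]; group
    refine ⟨(u * t) ^ 3, pow_mem h1 3, ?_⟩
    rw [hst _ (pow_mem h1 3), ← pow_mul]
    have h5 := hp5 _ h1
    have h6 : (u * t) ^ (3 * 2) = u * t := by
      rw [show 3 * 2 = 5 + 1 from rfl, pow_succ, h5, one_mul]
    rw [h6, mul_assoc, ht2, mul_one]
  have hCt : ∀ g : G, g ∈ centralizer ({t} : Set G) ↔ g * t = t * g := by
    intro g
    rw [mem_centralizer_singleton_iff]
  have hCtc : ∀ g c : G, c ∈ centralizer ({t} : Set G) → (g * c) * t * (g * c)⁻¹ = g * t * g⁻¹ := by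
    intro g c hc
    rw [hCt] at hc
    calc (g * c) * t * (g * c)⁻¹ = g * (c * t) * c⁻¹ * g⁻¹ := by group
      _ = g * t * g⁻¹ := by rw [hc]; group
  let Φ : P × (centralizer ({t} : Set G)) × (centralizer ({t} : Set G)) → PairSet t x := fun q =>
    ⟨((q.1 : G) * q.2.1, (q.1 : G) * x ^ 2 * q.2.2), by
      obtain ⟨⟨s, hs⟩, ⟨c1, hc1⟩, ⟨c2, hc2⟩⟩ := q
      show s * c1 * t * (s * c1)⁻¹ * (s * x ^ 2 * c2 * t * (s * x ^ 2 * c2)⁻¹) = x
      have hs' : s * x ^ 2 ∈ P := mul_mem hs (pow_mem hx 2)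
      rw [hCtc _ _ hc1, hCtc _ _ hc2, hst _ hs, hst _ hs']
      have h7 : t * (s * x ^ 2) ^ 2 * t = ((s * x ^ 2) ^ 2)⁻¹ := hinv _ (pow_mem hs' 2)
      have h8 : (s * x ^ 2) ^ 2 = s ^ 2 * x ^ 4 := by
        have := hcomm _ hs _ (pow_mem hx 2)
        rw [(show Commute s (x ^ 2) from this).mul_pow, ← pow_mul]
      calc s ^ 2 * t * ((s * x ^ 2) ^ 2 * t) = s ^ 2 * (t * (s * x ^ 2) ^ 2 * t) := by group
        _ = s ^ 2 * (s ^ 2 * x ^ 4)⁻¹ := by rw [h7, h8]
        _ = s ^ 2 * (x ^ 4 * s ^ 2)⁻¹ := by rw [hcomm _ (pow_mem hs 2) _ (pow_mem hx 4)]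
        _ = (x ^ 4)⁻¹ := by group
        _ = x := by
          rw [inv_eq_iff_mul_eq_one, ← pow_succ]
          exact hx5⟩
  have hbij : Function.Bijective Φ := by
    constructor
    · rintro ⟨⟨s, hs⟩, ⟨c1, hc1⟩, ⟨c2, hc2⟩⟩ ⟨⟨s', hs'⟩, ⟨c1', hc1'⟩, ⟨c2', hc2'⟩⟩ h
      have h1 : s * c1 = s' * c1' := congrArg (fun q => q.1.1) h
      have h2 : s * x ^ 2 * c2 = s' * x ^ 2 * c2' := congrArg (fun q => q.1.2) h
      have h3 : s'⁻¹ * s = 1 := by
        have h4 : s'⁻¹ * s = c1' * c1⁻¹ := by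
          rw [inv_mul_eq_iff_eq_mul, ← mul_assoc, ← h1]
          group
        have h5 : s'⁻¹ * s ∈ P := mul_mem (inv_mem hs') hs
        have h6 : s'⁻¹ * s ∈ centralizer ({t} : Set G) := by
          rw [h4]
          exact mul_mem hc1' (inv_mem hc1)
        rw [hCt] at h6
        have h7 := hinv _ h5
        have h8 : (s'⁻¹ * s) = (s'⁻¹ * s)⁻¹ := by
          rw [← h7, ← h6, mul_assoc, ht2, mul_one]
        have h9 := hp5 _ h5
        have h10 : (s'⁻¹ * s) ^ 2 = 1 := by
          rw [pow_two]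
          nth_rewrite 2 [h8]
          group
        calc s'⁻¹ * s = (s'⁻¹ * s) ^ 5 * ((s'⁻¹ * s) ^ 2)⁻¹ * ((s'⁻¹ * s) ^ 2)⁻¹ := by group
          _ = 1 := by rw [h9, h10]; simp
      have h4 : s = s' := by
        rw [inv_mul_eq_one] at h3
        exact h3.symm
      subst h4
      have h5 : c1 = c1' := mul_left_cancel h1
      have h6 : c2 = c2' := mul_left_cancel h2
      subst h5 h6
      rfl
    · rintro ⟨⟨q1, q2⟩, hq⟩
      have hq' : q1 * t * q1⁻¹ * (q2 * t * q2⁻¹) = x := hq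
      have hu2 : ∀ q : G, (q * t * q⁻¹) * (q * t * q⁻¹) = 1 := by
        intro q
        calc (q * t * q⁻¹) * (q * t * q⁻¹) = q * (t * t) * q⁻¹ := by group
          _ = 1 := by rw [ht2]; group
      obtain ⟨u, hu⟩ : ∃ u, u = q1 * t * q1⁻¹ := ⟨_, rfl⟩
      obtain ⟨w, hw⟩ : ∃ w, w = q2 * t * q2⁻¹ := ⟨_, rfl⟩
      rw [← hu, ← hw] at hq'
      have huu : u * u = 1 := by rw [hu]; exact hu2 q1
      have hww : w * w = 1 := by rw [hw]; exact hu2 q2
      have hui : u⁻¹ = u := inv_eq_of_mul_eq_one_right huu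
      have hwi : w⁻¹ = w := inv_eq_of_mul_eq_one_right hww
      have h1 : u * x * u⁻¹ = x⁻¹ := by
        rw [← hq', mul_inv_rev, hui, hwi]
        calc u * (u * w) * u = (u * u) * (w * u) := by group
          _ = w * u := by rw [huu, one_mul]
      have h2 : w * x * w⁻¹ = x⁻¹ := by
        rw [← hq', mul_inv_rev, hui, hwi]
        calc w * (u * w) * w = w * u * (w * w) := by group
          _ = w * u := by rw [hww, mul_one]
      obtain ⟨s, hs, hs1⟩ := hinvx u h1
      obtain ⟨s', hs', hs1'⟩ := hinvx w h2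
      have hc1 : s⁻¹ * q1 ∈ centralizer ({t} : Set G) := by
        rw [hCt]
        have h3 : s * t * s⁻¹ = q1 * t * q1⁻¹ := hs1.symm.trans hu
        calc s⁻¹ * q1 * t = s⁻¹ * (q1 * t * q1⁻¹) * q1 := by group
          _ = t * (s⁻¹ * q1) := by rw [← h3]; group
      have hc2 : s'⁻¹ * q2 ∈ centralizer ({t} : Set G) := by
        rw [hCt]
        have h3 : s' * t * s'⁻¹ = q2 * t * q2⁻¹ := hs1'.symm.trans hw
        calc s'⁻¹ * q2 * t = s'⁻¹ * (q2 * t * q2⁻¹) * q2 := by group
          _ = t * (s'⁻¹ * q2) := by rw [← h3]; group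
      have hss : s' = s * x ^ 2 := by
        have h3 : s ^ 2 * (s' ^ 2)⁻¹ = x := by
          rw [← hq', hs1, hs1', hst _ hs, hst _ hs']
          calc s ^ 2 * (s' ^ 2)⁻¹ = s ^ 2 * (t * s' ^ 2 * t) := by rw [hinv _ (pow_mem hs' 2)]
            _ = s ^ 2 * t * (s' ^ 2 * t) := by group
        have h4 : s' ^ 2 = s ^ 2 * x ^ 4 := by
          have h5 : s ^ 2 = x * s' ^ 2 := by rw [← h3]; group
          rw [h5, hcomm _ hx _ (pow_mem hs' 2), mul_assoc, ← pow_succ', hx5, mul_one]
        calc s' = s' ^ 5 * s' := by rw [hp5 _ hs', one_mul]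
          _ = (s' ^ 2) ^ 3 := by group
          _ = (s ^ 2 * x ^ 4) ^ 3 := by rw [h4]
          _ = (s ^ 2) ^ 3 * (x ^ 4) ^ 3 :=
            (show Commute (s ^ 2) (x ^ 4) from hcomm _ (pow_mem hs 2) _ (pow_mem hx 4)).mul_pow 3
          _ = s ^ 5 * s * ((x ^ 5) ^ 2 * x ^ 2) := by group
          _ = s * x ^ 2 := by rw [hp5 _ hs, hx5, one_mul, one_pow, one_mul]
      refine ⟨(⟨s, hs⟩, ⟨_, hc1⟩, ⟨_, hc2⟩), ?_⟩
      apply Subtype.ext
      show (s * (s⁻¹ * q1), s * x ^ 2 * (s'⁻¹ * q2)) = (q1, q2)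
      rw [← hss]
      simp
  rw [← Nat.card_congr (Equiv.ofBijective Φ hbij), Nat.card_prod, Nat.card_prod, hP]

end

end Cfsg.Agent.H74.O7
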