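import Mathlib
import Cfsg.Agent.H74.Ord720B
import Cfsg.Agent.BR.Rows2
import Cfsg.Agent.CycG.PrinData

/-!
# There is no simple group of order 720
-/

set_option autoImplicit false

namespace Cfsg.Agent.H74.O7

open scoped ComplexConjugate
open Cfsg Subgroup Cfsg.Agent.BR
open Cfsg.Agent.CharBase (oneIrr)

universe u

section

variable {G : Type u} [Group G] [Finite G]

/-- the four non-principal characters of the principal 5-block when the inertial index is 4. -/
theorem exists_four [hp : Fact (Nat.Prime 5)] {P : Subgroup G} (hSp : Sp 5 P) (B : Data 5 P) (he : ind P = 4)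
    (hC : centralizer (P : Set G) = P) :
    ∃ (c : Fin 4 → IrrCharacter G) (s : Fin 4 → ℤ), Function.Injective c ∧ (∀ i, s i = 1 ∨ s i = -1) ∧ (∀ i, c i ≠ oneIrr G) ∧
      (∀ i, (5 : ℤ) ∣ (dg (c i) : ℤ) - s i) ∧ (∀ i, dg (c i) ∣ 4 * (normalizer (P : Set G)).index) ∧
      (∀ g : G, ¬ 5 ∣ orderOf g → 1 + ∑ i, (s i : ℂ) * (c i : G → ℂ) g = 0) ∧
      (∀ x ∈ P, x ≠ 1 → ∀ i, (c i : G → ℂ) x = s i) ∧
      (∀ [Fintype (IrrCharacter G)] (F : IrrCharacter G → ℂ), (∀ χ, χ ≠ oneIrr G → (∀ i, c i ≠ χ) → F χ = 0) →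
        ∑ χ, F χ = F (oneIrr G) + ∑ i, F (c i)) ∧
      (∀ x ∈ P, x ≠ 1 → ∀ χ : IrrCharacter G, χ ≠ oneIrr G → (∀ i, c i ≠ χ) → (χ : G → ℂ) x = 0) := by
  classical
  have hcX : (B.X.erase (oneIrr G)).card = 3 := by
    rw [Finset.card_erase_of_mem B.one_mem, B.cardX, he]
  have hcY : B.Y.card = 1 := by
    have := B.cardY
    rw [he] at this
    omega
  obtain ⟨χ1, χ2, χ3, h12, h13, h23, hX⟩ := Finset.card_eq_three.1 hcX
  obtain ⟨ψ, hY⟩ := Finset.card_eq_one.1 hcY
  have hψ : ψ ∈ B.Y := by rw [hY]; simp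
  have hXe : ∀ χ ∈ B.X.erase (oneIrr G), χ ∈ B.X ∧ χ ≠ oneIrr G := fun χ hχ =>
    ⟨Finset.mem_of_mem_erase hχ, Finset.ne_of_mem_erase hχ⟩
  have h1 := hXe χ1 (by rw [hX]; simp)
  have h2 := hXe χ2 (by rw [hX]; simp)
  have h3 := hXe χ3 (by rw [hX]; simp)
  have hψ1 : ψ ≠ oneIrr G := by
    rintro rfl
    exact (Finset.disjoint_left.1 B.disj) B.one_mem hψ
  have hout : ∀ χ : IrrCharacter G, χ ≠ oneIrr G → (∀ i, (![χ1, χ2, χ3, ψ] : Fin 4 → IrrCharacter G) i ≠ χ) →
      χ ∉ B.X ∧ χ ∉ B.Y := by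
    intro χ hχ hi
    have e0 := hi 0
    have e1 := hi 1
    have e2 := hi 2
    have e3 := hi 3
    simp only [Matrix.cons_val] at e0 e1 e2 e3
    constructor
    · intro h
      have h' : χ ∈ B.X.erase (oneIrr G) := Finset.mem_erase.2 ⟨hχ, h⟩
      rw [hX] at h'
      simp only [Finset.mem_insert, Finset.mem_singleton] at h'
      rcases h' with h' | h' | h'
      · exact e0 h'.symm
      · exact e1 h'.symm
      · exact e2 h'.symm
    · intro h
      rw [hY, Finset.mem_singleton] at h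
      exact e3 h.symm
  have hsumF : ∀ [Fintype (IrrCharacter G)] (F : IrrCharacter G → ℂ), (∀ χ, χ ≠ oneIrr G →
      (∀ i, (![χ1, χ2, χ3, ψ] : Fin 4 → IrrCharacter G) i ≠ χ) → F χ = 0) →
        ∑ χ, F χ = F (oneIrr G) + ∑ i, F ((![χ1, χ2, χ3, ψ] : Fin 4 → IrrCharacter G) i) := by
    intro _ F hF
    have h4 : ∑ χ, F χ = ∑ χ ∈ B.X ∪ B.Y, F χ := by
      symm
      apply Finset.sum_subset (Finset.subset_univ _)
      intro χ _ hχ
      rw [Finset.mem_union] at hχ
      push Not at hχ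
      apply hF χ
      · rintro rfl
        exact hχ.1 B.one_mem
      · intro i hi
        fin_cases i
        · simp only [Fin.zero_eta, Matrix.cons_val] at hi
          exact hχ.1 (hi ▸ h1.1)
        · simp only [Fin.mk_one, Matrix.cons_val] at hi
          exact hχ.1 (hi ▸ h2.1)
        · simp only [Fin.reduceFinMk, Matrix.cons_val] at hi
          exact hχ.1 (hi ▸ h3.1)
        · simp only [Fin.reduceFinMk, Matrix.cons_val] at hi
          exact hχ.2 (hi ▸ hψ)
    rw [h4, Finset.sum_union B.disj, ← Finset.add_sum_erase _ _ B.one_mem, hX, hY, Finset.sum_singleton,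
      Finset.sum_insert (by simp [h12, h13]), Finset.sum_insert (by simp [h23]), Finset.sum_singleton,
      Fin.sum_univ_four]
    simp only [Matrix.cons_val]
    ring
  have hreg : ∀ g : G, ¬ 5 ∣ orderOf g → 1 + ((B.δ χ1 : ℂ) * (χ1 : G → ℂ) g + (B.δ χ2 : ℂ) * (χ2 : G → ℂ) g +
      (B.δ χ3 : ℂ) * (χ3 : G → ℂ) g + (B.δ₀ : ℂ) * (ψ : G → ℂ) g) = 0 := by
    intro g hg
    have h4 := B.reg g hg ψ hψ
    rw [← Finset.add_sum_erase _ _ B.one_mem, B.δ_one hSp, hX, Finset.sum_insert (by simp [h12, h13]),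
      Finset.sum_insert (by simp [h23]), Finset.sum_singleton, CharBase.oneIrr_apply] at h4
    rw [← h4]
    push_cast
    ring
  refine ⟨![χ1, χ2, χ3, ψ], ![B.δ χ1, B.δ χ2, B.δ χ3, B.δ₀], ?_, ?_, ?_, ?_, ?_, ?_, ?_, hsumF, ?_⟩
  · have hn : ∀ χ ∈ B.X, χ ≠ ψ := by
      rintro χ hχ rfl
      exact (Finset.disjoint_left.1 B.disj) hχ hψ
    have e1 := hn _ h1.1
    have e2 := hn _ h2.1
    have e3 := hn _ h3.1
    intro i j hij
    fin_cases i <;> fin_cases j <;> first
      | rfl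
      | exact absurd hij h12
      | exact absurd hij h13
      | exact absurd hij h23
      | exact absurd hij e1
      | exact absurd hij e2
      | exact absurd hij e3
      | exact absurd hij.symm h12
      | exact absurd hij.symm h13
      | exact absurd hij.symm h23
      | exact absurd hij.symm e1
      | exact absurd hij.symm e2
      | exact absurd hij.symm e3
  · intro i
    fin_cases i
    · exact B.sgn χ1 h1.1
    · exact B.sgn χ2 h2.1
    · exact B.sgn χ3 h3.1
    · exact B.sgn₀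
  · intro i
    fin_cases i
    · exact h1.2
    · exact h2.2
    · exact h3.2
    · exact hψ1
  · intro i
    fin_cases i
    · exact B.congr_X hSp h1.1
    · exact B.congr_X hSp h2.1
    · exact B.congr_X hSp h3.1
    · have h4 := B.congr_Y hSp hψ
      rw [he] at h4
      show (5 : ℤ) ∣ (dg ψ : ℤ) - B.δ₀
      push_cast at h4
      omega
  · intro i
    rw [← he]
    fin_cases i
    · exact B.dvd_X hSp h1.1
    · exact B.dvd_X hSp h2.1
    · exact B.dvd_X hSp h3.1
    · exact B.dvd_Y hSp hψ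
  · intro g hg
    rw [Fin.sum_univ_four]
    simp only [Matrix.cons_val]
    exact hreg g hg
  · intro x hx hx1 i
    have hdψ : (ψ : G → ℂ) x = B.δ₀ := by
      have : Fintype (IrrCharacter G) := Fintype.ofFinite _
      have h4 := CharBase.sum_degree_mul (G := G) x
      rw [if_neg hx1] at h4
      rw [hsumF (fun χ => (χ : G → ℂ) 1 * (χ : G → ℂ) x)] at h4
      · rw [Fin.sum_univ_four] at h4
        simp only [Matrix.cons_val] at h4
        rw [B.val_one h1.1 hx hx1, B.val_one h2.1 hx hx1, B.val_one h3.1 hx hx1, CharBase.oneIrr_apply,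
          CharBase.oneIrr_apply] at h4
        have h5 := hreg 1 (by rw [orderOf_one]; norm_num)
        have h6 : (ψ : G → ℂ) 1 ≠ 0 := by
          rw [dg_eq]
          exact_mod_cast (dg_pos ψ).ne'
        have h7 : (ψ : G → ℂ) 1 * ((ψ : G → ℂ) x - B.δ₀) = 0 := by
          linear_combination h4 - h5
        rcases mul_eq_zero.1 h7 with h8 | h8
        · exact absurd h8 h6
        · exact sub_eq_zero.1 h8
      · intro χ hχ hi
        have h5 := hout χ hχ hi
        rw [B.out hC χ h5.1 h5.2 x hx hx1, mul_zero]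
    fin_cases i
    · exact B.val_one h1.1 hx hx1
    · exact B.val_one h2.1 hx hx1
    · exact B.val_one h3.1 hx hx1
    · exact hdψ
  · intro x hx hx1 χ hχ hi
    have h5 := hout χ hχ hi
    exact B.out hC χ h5.1 h5.2 x hx hx1

/-- the local contradiction. -/
theorem no_twelve (hG : Nat.card G = 720) {y : G} (hy4 : y ^ 4 = 1) (hy2 : y ^ 2 ≠ 1)
    (hc : Nat.card (centralizer ({y ^ 2} : Set G)) = 12) : False := by
  have hp : Fact (Nat.Prime 2) := ⟨Nat.prime_two⟩
  have hyo : orderOf y = 4 := by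
    have : orderOf y = 2 ^ (1 + 1) := orderOf_eq_prime_pow (by simpa using hy2) (by simpa using hy4)
    simpa using this
  have hyp : IsPGroup 2 (zpowers y) := IsPGroup.of_card (n := 2) (by rw [Nat.card_zpowers, hyo]; norm_num)
  obtain ⟨T, hT⟩ := hyp.exists_le_sylow
  have hTc : Nat.card (T : Subgroup G) = 16 := by
    obtain ⟨k, hk⟩ := IsPGroup.iff_card.1 T.2
    have h1 := T.not_dvd_index
    have h2 := (T : Subgroup G).card_mul_index
    have hk' : Nat.card (T : Subgroup G) = 2 ^ k := hk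
    rw [hk', hG] at h2
    rw [hk']
    have h3 : k < 10 := by
      by_contra h4
      have h5 : 2 ^ 10 ≤ 2 ^ k := Nat.pow_le_pow_right (by norm_num) (by omega)
      have h6 : 0 < (T : Subgroup G).index := Nat.pos_of_ne_zero Subgroup.index_ne_zero_of_finite
      nlinarith
    interval_cases k <;> omega
  have hyT : y ∈ (T : Subgroup G) := hT (mem_zpowers y)
  obtain ⟨t, ht⟩ : ∃ t, t = y ^ 2 := ⟨_, rfl⟩
  rw [← ht] at hc hy2
  have htT : t ∈ (T : Subgroup G) := by rw [ht]; exact pow_mem hyT 2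
  -- `C_T(t)` has order at most 4
  have hle : Nat.card (centralizer ({t} : Set G) ⊓ (T : Subgroup G) : Subgroup G) ∣ 4 := by
    have h1 : Nat.card (centralizer ({t} : Set G) ⊓ (T : Subgroup G) : Subgroup G) ∣ 12 := by
      rw [← hc]; exact Subgroup.card_dvd_of_le inf_le_left
    have h2 : Nat.card (centralizer ({t} : Set G) ⊓ (T : Subgroup G) : Subgroup G) ∣ 16 := by
      rw [← hTc]; exact Subgroup.card_dvd_of_le inf_le_right
    have h3 := Nat.dvd_gcd h1 h2
    norm_num at h3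
    exact h3
  have hyc : zpowers y ≤ centralizer ({t} : Set G) ⊓ (T : Subgroup G) := by
    rw [zpowers_le]
    refine ⟨?_, hyT⟩
    show y ∈ centralizer ({t} : Set G)
    rw [mem_centralizer_singleton_iff, ht, ← pow_succ, ← pow_succ']
  have heq : zpowers y = centralizer ({t} : Set G) ⊓ (T : Subgroup G) := by
    apply Subgroup.eq_of_le_of_card_ge hyc
    rw [Nat.card_zpowers, hyo]
    exact Nat.le_of_dvd (by norm_num) hle
  -- centre of T
  have hTn : Nontrivial (T : Subgroup G) := by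
    rw [← Finite.one_lt_card_iff_nontrivial, hTc]; norm_num
  have hcen : Nontrivial (center (T : Subgroup G)) := T.2.center_nontrivial
  obtain ⟨z, hz⟩ := exists_ne (1 : center (T : Subgroup G))
  have hzT : ((z : (T : Subgroup G)) : G) ∈ (T : Subgroup G) := (z : (T : Subgroup G)).2
  obtain ⟨w, hw⟩ : ∃ w : G, w = ((z : (T : Subgroup G)) : G) := ⟨_, rfl⟩
  have hw1 : w ≠ 1 := by
    intro h
    apply hz
    apply Subtype.ext
    apply Subtype.ext
    rw [← hw, h]
    rfl
  have hwc : ∀ g ∈ (T : Subgroup G), g * w = w * g := by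
    intro g hg
    have h1 := mem_center_iff.1 z.2 ⟨g, hg⟩
    have h2 := congrArg Subtype.val h1
    rw [hw]
    exact h2
  have hwy : w ∈ zpowers y := by
    rw [heq]
    refine ⟨?_, by rw [hw]; exact hzT⟩
    show w ∈ centralizer ({t} : Set G)
    rw [mem_centralizer_singleton_iff]
    exact (hwc t htT).symm
  -- `t` is a power of `w`
  have htw : ∃ j : ℕ, t = w ^ j := by
    rw [mem_zpowers_iff] at hwy
    obtain ⟨i, hi⟩ := hwy
    have h1 : y ^ (i % 4) = w := by
      rw [← hi]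
      have h2 : i = i % 4 + 4 * (i / 4) := (Int.emod_add_mul_ediv i 4).symm
      have h3 : y ^ i = y ^ (i % 4) * (y ^ (4 : ℤ)) ^ (i / 4) := by
        rw [← zpow_mul, ← zpow_add, ← h2]
      rw [h3]
      have h4 : y ^ (4 : ℤ) = 1 := by exact_mod_cast hy4
      rw [h4, one_zpow, mul_one]
    have h2 : 0 ≤ i % 4 := Int.emod_nonneg _ (by norm_num)
    have h3 : i % 4 < 4 := Int.emod_lt_of_pos _ (by norm_num)
    interval_cases h5 : i % 4
    · exact absurd (by rw [← h1]; simp) hw1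
    · exact ⟨2, by rw [← h1, ht]; simp⟩
    · refine ⟨1, ?_⟩
      rw [← h1, ht, pow_one]
      norm_cast
    · refine ⟨2, ?_⟩
      rw [← h1, ht]
      have h6 : (y ^ (3 : ℤ)) ^ 2 = y ^ 4 * y ^ 2 := by
        have : y ^ (3 : ℤ) = y ^ 3 := by norm_cast
        rw [this, ← pow_mul, ← pow_add]
      rw [h6, hy4, one_mul]
  obtain ⟨j, hj⟩ := htw
  have hTle : (T : Subgroup G) ≤ centralizer ({t} : Set G) := by
    intro g hg
    rw [mem_centralizer_singleton_iff, hj]
    exact ((show Commute g w from hwc g hg).pow_right j).eq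
  have h1 := Subgroup.card_dvd_of_le hTle
  rw [hTc, hc] at h1
  omega

theorem not720 [IsSimpleGroup G] : Nat.card G ≠ 720 := by
  classical
  intro hG
  have hp : Fact (Nat.Prime 5) := ⟨by norm_num⟩
  have : Fintype (IrrCharacter G) := Fintype.ofFinite _
  have : Fintype G := Fintype.ofFinite _
  have hnp : ¬ (Nat.card G).Prime := by rw [hG]; norm_num
  have hperf : commutator G = ⊤ := perfect_of_simple (Cfsg.Agent.H37.Ord.noncomm hnp)
  obtain ⟨S⟩ : Nonempty (Sylow 5 G) := inferInstance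
  obtain ⟨hSp, hC, n, hn, h⟩ := Cfsg.Agent.H37.Ord.arith_one (G := G) 2 3 5 4 2 (by norm_num) (by norm_num)
    (by norm_num) (by norm_num) (by norm_num) (by rw [hG]; norm_num) hnp S
  obtain ⟨he, hn36⟩ : ind (S : Subgroup G) = 4 ∧ n = 36 := by
    have hm := h.hm
    have h1 := h.n_mod
    have h2 := h.e_two
    have h3 : Cfsg.Agent.BR.ind (S : Subgroup G) ≤ 4 := Nat.le_of_dvd (by norm_num) h.e_dvd
    generalize Cfsg.Agent.BR.ind (S : Subgroup G) = e at hm h1 h2 h3
    rw [mul_one] at hm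
    interval_cases e <;> omega
  have hidx : (normalizer ((S : Subgroup G) : Set G)).index = 36 := by rw [← hn, hn36]
  have hN : Nat.card (normalizer ((S : Subgroup G) : Set G)) = 20 := by
    have := (normalizer ((S : Subgroup G) : Set G)).card_mul_index
    rw [hidx, hG] at this
    omega
  obtain ⟨x, hx, hx1, hgen, y, hy, hy4⟩ := exists_y hSp.card hC hN
  have hx5 : x ^ 5 = 1 := by
    have : (⟨x, hx⟩ : (S : Subgroup G)) ^ 5 = 1 := by
      have h1 := pow_card_eq_one' (x := (⟨x, hx⟩ : (S : Subgroup G)))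
      rwa [hSp.card] at h1
    exact congrArg Subtype.val this
  obtain ⟨t, htd⟩ : ∃ t, t = y ^ 2 := ⟨_, rfl⟩
  have ht2 : t * t = 1 := by rw [htd, ← pow_add]; exact hy4
  have htx : t * x * t⁻¹ = x⁻¹ := by
    have h1 : t * x * t⁻¹ = y * (y * x * y⁻¹) * y⁻¹ := by rw [htd, pow_two]; group
    rw [h1, hy, ← conj_pow, hy, ← pow_mul, eq_inv_iff_mul_eq_one, ← pow_succ]
    exact hx5
  have ht1 : t ≠ 1 := by
    intro h1
    rw [h1] at htx
    simp only [one_mul, inv_one, mul_one] at htx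
    have h2 : x ^ 2 = 1 := by
      rw [pow_two]
      nth_rewrite 2 [htx]
      group
    apply hx1
    calc x = x ^ 5 * (x ^ 2)⁻¹ * (x ^ 2)⁻¹ := by group
      _ = 1 := by rw [hx5, h2]; simp
  have hcx : ∀ g : G, g * x = x * g → g ∈ (S : Subgroup G) := by
    intro g hg
    rw [← hC, mem_centralizer_iff]
    intro z hz
    obtain ⟨i, hi⟩ := hgen z hz
    have h1 : Commute g (x : G) := hg
    have h2 := h1.zpow_right i
    rw [← hi]
    exact h2.eq.symm
  have hto : ¬ 5 ∣ orderOf t := by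
    have h1 : orderOf t ∣ 2 := orderOf_dvd_of_pow_eq_one (by rw [pow_two]; exact ht2)
    intro h2
    have := h2.trans h1
    omega
  obtain ⟨B⟩ := CycG.nonempty_data hSp
  obtain ⟨c, s, hinj, hs, hc1, hmod, hdvd, hreg, hval, hsum, hout⟩ := exists_four hSp B he hC
  have hpairs := card_pairs hSp.card hx hx1 hcx hgen htx ht2
  obtain ⟨C, hCd⟩ : ∃ C, C = Nat.card (centralizer ({t} : Set G)) := ⟨_, rfl⟩
  rw [← hCd] at hpairs
  have hC0 : C ≠ 0 := by rw [hCd]; exact Nat.card_pos.ne'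
  -- values at `t`
  have hk : ∀ i, ∃ k : ℕ, (c i : G → ℂ) t = (dg (c i) : ℂ) - 4 * k ∧ k ≤ dg (c i) / 2 := by
    intro i
    obtain ⟨k, hk⟩ := involution_value hperf (c i) (z := t) (by rw [pow_two]; exact ht2)
    refine ⟨k, hk, ?_⟩
    obtain ⟨m, hm, hm2⟩ := CharBase.norm_le_of_isCharacter (CharBase.irr_isCharacter (c i)) t
    have hm' : m = dg (c i) := by
      rw [dg_eq] at hm
      exact_mod_cast hm.symm
    rw [hm', hk] at hm2
    have h1 : ((dg (c i) : ℂ) - 4 * k) = (((dg (c i) : ℝ) - 4 * k : ℝ) : ℂ) := by push_cast; ring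
    rw [h1, Complex.norm_real, Real.norm_eq_abs, abs_le] at hm2
    have h2 : (4 * k : ℝ) ≤ 2 * dg (c i) := by linarith [hm2.1]
    have h3 : 4 * k ≤ 2 * dg (c i) := by exact_mod_cast h2
    omega
  choose k hk1 hk2 using hk
  -- degrees
  have hdeg1 : ∀ i, dg (c i) ≠ 1 := fun i h => hc1 i (eq_one_of_perfect hperf h)
  have hsumsq : ∑ i, dg (c i) * dg (c i) ≤ 719 := by
    have h1 := CharBase.sum_sq_degree (G := G)
    have h2 : ∑ χ : IrrCharacter G, (dg χ : ℂ) ^ 2 = 720 := by
      rw [hG] at h1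
      rw [← show ((720 : ℕ) : ℂ) = 720 by norm_num, ← h1]
      exact Finset.sum_congr rfl (fun χ _ => by rw [dg_eq])
    have h3 : ∑ χ : IrrCharacter G, dg χ ^ 2 = 720 := by exact_mod_cast h2
    have h4 : ∑ χ ∈ insert (oneIrr G) (Finset.univ.image c), dg χ ^ 2 ≤ 720 := by
      rw [← h3]
      exact Finset.sum_le_sum_of_subset (Finset.subset_univ _)
    rw [Finset.sum_insert, Finset.sum_image (fun a _ b _ h => hinj h)] at h4
    · have h5 : dg (oneIrr G) = 1 := by
        have h3 := dg_eq (oneIrr G)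
        rw [CharBase.oneIrr_apply] at h3
        exact_mod_cast h3.symm
      rw [h5] at h4
      simp only [pow_two] at h4
      omega
    · rw [Finset.mem_image]
      rintro ⟨i, -, hi⟩
      exact hc1 i hi
  have hdeg : ∀ i, dg (c i) ∈ L5 ∧ sg (dg (c i)) = s i := by
    intro i
    have h1 := hdvd i
    rw [hidx] at h1
    have h2 : dg (c i) * dg (c i) ≤ 719 :=
      (Finset.single_le_sum (f := fun i => dg (c i) * dg (c i)) (fun _ _ => Nat.zero_le _) (Finset.mem_univ i)).trans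
        hsumsq
    have h3 := deg720 _ (Nat.mem_divisors.2 ⟨h1, by norm_num⟩) (hdeg1 i) h2
    have h4 := hmod i
    rcases hs i with h5 | h5
    · rw [h5] at h4 ⊢
      exact h3.1 (by omega)
    · rw [h5] at h4 ⊢
      exact h3.2 (by omega)
  have hreg1 := hreg 1 (by rw [orderOf_one]; norm_num)
  have hregt := hreg t hto
  have hE1 : 1 + ∑ i, sg (dg (c i)) * (dg (c i) : ℤ) = 0 := by
    have h1 : ((1 + ∑ i, sg (dg (c i)) * (dg (c i) : ℤ) : ℤ) : ℂ) = 0 := by
      rw [← hreg1]
      push_cast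
      congr 1
      refine Finset.sum_congr rfl (fun i _ => ?_)
      rw [(hdeg i).2, dg_eq]
    exact_mod_cast h1
  have hE2 : ∑ i, sg (dg (c i)) * (k i : ℤ) = 0 := by
    have h1 : ((4 * ∑ i, sg (dg (c i)) * (k i : ℤ) : ℤ) : ℂ) = 0 := by
      have h2 : ((4 * ∑ i, sg (dg (c i)) * (k i : ℤ) : ℤ) : ℂ) =
          (1 + ∑ i, (s i : ℂ) * (c i : G → ℂ) 1) - (1 + ∑ i, (s i : ℂ) * (c i : G → ℂ) t) := by
        push_cast
        rw [Finset.mul_sum, add_sub_add_left_eq_sub, ← Finset.sum_sub_distrib]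
        refine Finset.sum_congr rfl (fun i _ => ?_)
        rw [(hdeg i).2, dg_eq, hk1 i]
        ring
      rw [h2, hreg1, hregt, sub_zero]
    have h2 : (4 * ∑ i, sg (dg (c i)) * (k i : ℤ) : ℤ) = 0 := by exact_mod_cast h1
    omega
  have hE3 : (C : ℚ) ^ 2 = 144 * (1 + ∑ i, (sg (dg (c i)) : ℚ) * ((dg (c i) : ℚ) - 4 * k i) ^ 2 / (dg (c i) : ℚ)) := by
    have h1 := card_PairSet t x
    rw [hpairs, hG, hsum] at h1
    · have h2 : ((C : ℚ) ^ 2 * 5 : ℚ) = 720 * (1 + ∑ i, (sg (dg (c i)) : ℚ) * ((dg (c i) : ℚ) - 4 * k i) ^ 2 / (dg (c i) : ℚ)) := by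
        have h3 : (((C : ℚ) ^ 2 * 5 : ℚ) : ℂ) = ((720 * (1 + ∑ i, (sg (dg (c i)) : ℚ) * ((dg (c i) : ℚ) - 4 * k i) ^ 2 / (dg (c i) : ℚ)) : ℚ) : ℂ) := by
          push_cast at h1 ⊢
          have h4 : (C : ℂ) ^ 2 * 5 = 5 * ((C : ℂ) * C) := by ring
          rw [h4, h1, CharBase.oneIrr_apply, CharBase.oneIrr_apply, CharBase.oneIrr_apply]
          congr 2
          · norm_num
          · refine Finset.sum_congr rfl (fun i _ => ?_)
            rw [hval x⁻¹ (inv_mem hx) (by simpa using hx1) i, hk1 i, dg_eq, (hdeg i).2]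
            ring
        exact_mod_cast h3
      linarith
    · intro χ hχ hi
      rw [hout x⁻¹ (inv_mem hx) (by simpa using hx1) χ hχ hi, mul_zero, zero_div]
  have hC12 : C = 12 := num720 (fun i => dg (c i)) k C (fun i => (hdeg i).1) hE1 hsumsq hk2 hE2 hC0 hE3
  apply no_twelve hG hy4 (by rw [← htd]; exact ht1)
  rw [← htd, ← hCd, hC12]

end

end Cfsg.Agent.H74.O7
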