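import Mathlib
import Cfsg.Agent.H74.Ord720C
import Cfsg.Agent.H17.SylowInter
import Cfsg.Agent.S0144
import Cfsg.Agent.S0997
import Cfsg.Agent.S0999
import Cfsg.Agent.S1010
import Cfsg.Agent.H14.SubField

/-!
# Simple groups of order at most 1092
-/

set_option autoImplicit false

namespace Cfsg.Agent.H74.Sv

open Cfsg Subgroup

universe u

def okSyl (n p m : ℕ) : Bool := (List.range (m + 1)).any fun d =>
  (m % d == 0) && (d % p == 1) && !(d == 1) && (decide (9 < d) || (d.factorial % (2 * n) == 0))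

def left : List ℕ := [180, 240, 360, 420, 480, 504, 525, 540, 560, 630, 672, 720, 735, 756, 810, 840, 900, 960,
  1008, 1050, 1080]

def chk (a b c d : ℕ) : Bool :=
  let n := 2 ^ a * 3 ^ b * 5 ^ c * 7 ^ d
  decide (1092 < n) || (c == 0 && d == 0) || (b == 0 && d == 0) || (b == 0 && c == 0) ||
  (a == 0 && d == 0) || (a == 0 && c == 0) || (a == 0 && b == 0) ||
  (!(d == 0) && decide (n < 343)) || (!(c == 0) && decide (n < 125)) ||
  (!(a == 0) && !(okSyl n 2 (3 ^ b * 5 ^ c * 7 ^ d))) ||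
  (!(b == 0) && !(okSyl n 3 (2 ^ a * 5 ^ c * 7 ^ d))) ||
  (!(c == 0) && !(okSyl n 5 (2 ^ a * 3 ^ b * 7 ^ d))) ||
  (!(d == 0) && !(okSyl n 7 (2 ^ a * 3 ^ b * 5 ^ c))) || left.elem n

def chkAll : Bool := (List.range 11).all fun a => (List.range 7).all fun b => (List.range 5).all fun c =>
  (List.range 4).all fun d => chk a b c d

theorem chkAll_eq : chkAll = true := by decide +kernel

theorem chk_eq {a b c d : ℕ} (ha : a < 11) (hb : b < 7) (hc : c < 5) (hd : d < 4) : chk a b c d = true := by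
  have h := chkAll_eq
  unfold chkAll at h
  rw [List.all_eq_true] at h
  have h1 := h a (List.mem_range.2 ha)
  rw [List.all_eq_true] at h1
  have h2 := h1 b (List.mem_range.2 hb)
  rw [List.all_eq_true] at h2
  have h3 := h2 c (List.mem_range.2 hc)
  rw [List.all_eq_true] at h3
  exact h3 d (List.mem_range.2 hd)

section

variable {G : Type u} [Group G] [Finite G] [IsSimpleGroup G]

theorem okSyl_of (hG : ¬ IsMulCommutative G) {p k m : ℕ} [hp : Fact p.Prime] (h : Nat.card G = p ^ k * m)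
    (hm : ¬ p ∣ m) (hk : k ≠ 0) : okSyl (Nat.card G) p m = true := by
  have hpd : p ∣ Nat.card G := by
    rw [h]
    exact Dvd.dvd.mul_right (dvd_pow_self p hk) m
  have h1 := H17.card_sylow_mem (p := p) (G := G) (k := k) (m := m) h hm
  have h2 := H17.card_sylow_ne_one (p := p) hG hpd
  have h3 := H17.two_mul_card_dvd_factorial_card_sylow (p := p) hG hpd
  rw [Finset.mem_filter, Nat.mem_divisors] at h1
  obtain ⟨⟨h4, h5⟩, h6⟩ := h1
  unfold okSyl
  rw [List.any_eq_true]
  refine ⟨Nat.card (Sylow p G), List.mem_range.2 (Nat.lt_succ_of_le (Nat.le_of_dvd (Nat.pos_of_ne_zero h5) h4)), ?_⟩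
  simp only [Bool.and_eq_true, beq_iff_eq, Bool.or_eq_true, Bool.not_eq_true', beq_eq_false_iff_ne]
  exact ⟨⟨⟨Nat.mod_eq_zero_of_dvd h4, h6⟩, h2⟩, Or.inr (Nat.mod_eq_zero_of_dvd h3)⟩

theorem not_two_primes (hG : ¬ IsMulCommutative G) (p q a b : ℕ) (hp : p.Prime) (hq : q.Prime) :
    Nat.card G ≠ p ^ a * q ^ b := by
  intro h
  have h1 : Group.IsSolvable G := Cfsg.Agent.S0144.result p q a b hp hq h
  have h2 : IsSimpleGroup G := inferInstance
  have h3 := H17.commutator_eq_top hG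
  have h4 : commutator G < ⊤ := Group.IsSolvable.commutator_lt_top_of_nontrivial G
  exact h4.ne h3

theorem not_cyclic (hG : ¬ IsMulCommutative G) : ¬ IsCyclic G := fun h => hG inferInstance

/-- the small order consequence of the Brauer–Reynolds theorem. -/
theorem big_prime (hG : ¬ IsMulCommutative G) {p : ℕ} (hp : p.Prime) (hd : p ∣ Nat.card G)
    (hb : Nat.card G < p ^ 3) : 2 * Nat.card G = p * ((p - 1) * (p + 1)) ∨
      ∃ m, p = 2 ^ m + 1 ∧ Nat.card G = 2 ^ m * ((2 ^ m - 1) * (2 ^ m + 1)) := by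
  rcases Cfsg.Agent.S0999.result (G := G) (not_cyclic hG) p hp hd hb with
    ⟨K, iK, iKf, hK, h3, ⟨φ⟩⟩ | ⟨m, K, iK, iKf, hK, hm, h3, ⟨φ⟩⟩
  · left
    have hodd : Odd p := hp.odd_of_ne_two (by omega)
    have h1 := Cfsg.Agent.H14.SubField.card_PSL2_odd (F := K) (by rw [hK]; exact hodd)
    rwa [← Nat.card_congr φ.toEquiv, hK] at h1
  · right
    refine ⟨m, hm, ?_⟩
    have hm0 : m ≠ 0 := by
      rintro rfl
      omega
    have h1 := Cfsg.Agent.H14.SubField.card_PSL2_even (F := K) (by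
      rw [hK]; exact (Nat.even_pow.2 ⟨by norm_num, hm0⟩))
    rwa [← Nat.card_congr φ.toEquiv, hK] at h1

theorem mem_left (hG : ¬ IsMulCommutative G) (h : Nat.card G ≤ 1092) :
    Nat.card G = 60 ∨ Nat.card G = 168 ∨ Nat.card G = 660 ∨ Nat.card G = 1092 ∨ Nat.card G ∈ left := by
  classical
  have hpow : ∀ m : ℕ, m < 4 ∨ 16 ≤ 2 ^ m := by
    intro m
    by_cases hm : m < 4
    · exact Or.inl hm
    · right
      calc 16 = 2 ^ 4 := by norm_num
        _ ≤ 2 ^ m := Nat.pow_le_pow_right (by norm_num) (by omega)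
  by_cases h11 : ∃ p : ℕ, p.Prime ∧ 11 ≤ p ∧ p ∣ Nat.card G
  · obtain ⟨p, hp, hp11, hpd⟩ := h11
    have hb : Nat.card G < p ^ 3 := by
      have : 11 ^ 3 ≤ p ^ 3 := Nat.pow_le_pow_left hp11 3
      omega
    rcases big_prime hG hp hpd hb with h1 | ⟨m, hm, h1⟩
    · have hp13 : p ≤ 13 := by
        by_contra hcon
        push Not at hcon
        obtain ⟨q, rfl⟩ : ∃ q, p = q + 1 := ⟨p - 1, by omega⟩
        rw [Nat.add_sub_cancel] at h1
        have : 14 * (13 * 15) ≤ (q + 1) * (q * (q + 1 + 1)) := by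
          have h2 : 13 ≤ q := by omega
          gcongr <;> omega
        omega
      interval_cases p
      · right; right; left; omega
      · exact absurd hp (by norm_num)
      · right; right; right; left; omega
    · exfalso
      rcases hpow m with h2 | h2
      · interval_cases m <;> omega
      · obtain ⟨q, hq⟩ : ∃ q, q = 2 ^ m := ⟨_, rfl⟩
        rw [← hq] at h1 h2
        have : 16 * (15 * 17) ≤ q * ((q - 1) * (q + 1)) := by
          gcongr <;> omega
        omega
  push Not at h11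
  have hsupp : ∀ p : ℕ, p.Prime → p ∣ Nat.card G → p = 2 ∨ p = 3 ∨ p = 5 ∨ p = 7 := by
    intro p hp hd
    have h1 : p < 11 := by
      by_contra hcon
      exact h11 p hp (by omega) hd
    interval_cases p <;> first | omega | exact absurd hp (by norm_num)
  have hn0 : Nat.card G ≠ 0 := Nat.card_pos.ne'
  obtain ⟨a, ha⟩ : ∃ a, a = (Nat.card G).factorization 2 := ⟨_, rfl⟩
  obtain ⟨b, hb⟩ : ∃ b, b = (Nat.card G).factorization 3 := ⟨_, rfl⟩
  obtain ⟨c, hc⟩ : ∃ c, c = (Nat.card G).factorization 5 := ⟨_, rfl⟩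
  obtain ⟨d, hd⟩ : ∃ d, d = (Nat.card G).factorization 7 := ⟨_, rfl⟩
  have hcard : Nat.card G = 2 ^ a * 3 ^ b * 5 ^ c * 7 ^ d := by
    have h1 := Nat.factorization_prod_pow_eq_self hn0
    have h2 : (Nat.card G).factorization.support ⊆ ({2, 3, 5, 7} : Finset ℕ) := by
      intro p hp
      rw [Nat.support_factorization, Nat.mem_primeFactors] at hp
      have := hsupp p hp.1 hp.2.1
      simp only [Finset.mem_insert, Finset.mem_singleton]
      exact this
    rw [Finsupp.prod_of_support_subset _ h2 _ (fun _ _ => pow_zero _)] at h1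
    rw [Finset.prod_insert (by decide), Finset.prod_insert (by decide), Finset.prod_insert (by decide),
      Finset.prod_singleton, ← ha, ← hb, ← hc, ← hd] at h1
    rw [← h1]
    ring
  have hle : ∀ p k : ℕ, p ^ k ∣ Nat.card G → p ^ k ≤ 1092 := fun p k hk =>
    (Nat.le_of_dvd (Nat.pos_of_ne_zero hn0) hk).trans h
  have ha11 : a < 11 := by
    by_contra hcon
    have h1 := hle 2 a ⟨3 ^ b * 5 ^ c * 7 ^ d, by rw [hcard]; ring⟩
    have h2 : 2 ^ 11 ≤ 2 ^ a := Nat.pow_le_pow_right (by norm_num) (by omega)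
    omega
  have hb7 : b < 7 := by
    by_contra hcon
    have h1 := hle 3 b ⟨2 ^ a * 5 ^ c * 7 ^ d, by rw [hcard]; ring⟩
    have h2 : 3 ^ 7 ≤ 3 ^ b := Nat.pow_le_pow_right (by norm_num) (by omega)
    omega
  have hc5 : c < 5 := by
    by_contra hcon
    have h1 := hle 5 c ⟨2 ^ a * 3 ^ b * 7 ^ d, by rw [hcard]; ring⟩
    have h2 : 5 ^ 5 ≤ 5 ^ c := Nat.pow_le_pow_right (by norm_num) (by omega)
    omega
  have hd4 : d < 4 := by
    by_contra hcon
    have h1 := hle 7 d ⟨2 ^ a * 3 ^ b * 5 ^ c, by rw [hcard]; ring⟩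
    have h2 : 7 ^ 4 ≤ 7 ^ d := Nat.pow_le_pow_right (by norm_num) (by omega)
    omega
  have hchk := chk_eq ha11 hb7 hc5 hd4
  unfold chk at hchk
  rw [← hcard] at hchk
  have hp2 : Fact (Nat.Prime 2) := ⟨by norm_num⟩
  have hp3 : Fact (Nat.Prime 3) := ⟨by norm_num⟩
  have hp5 : Fact (Nat.Prime 5) := ⟨by norm_num⟩
  have hp7 : Fact (Nat.Prime 7) := ⟨by norm_num⟩
  have hnd : ∀ p q r s e f g : ℕ, p.Prime → q.Prime → r.Prime → s.Prime → p ≠ q → p ≠ r → p ≠ s →
      ¬ p ∣ q ^ e * r ^ f * s ^ g := by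
    intro p q r s e f g hp hq hr hs h1 h2 h3 h4
    rcases hp.dvd_mul.1 h4 with h5 | h5
    · rcases hp.dvd_mul.1 h5 with h6 | h6
      · exact h1 ((Nat.prime_dvd_prime_iff_eq hp hq).1 (hp.dvd_of_dvd_pow h6))
      · exact h2 ((Nat.prime_dvd_prime_iff_eq hp hr).1 (hp.dvd_of_dvd_pow h6))
    · exact h3 ((Nat.prime_dvd_prime_iff_eq hp hs).1 (hp.dvd_of_dvd_pow h5))
  have key2 : a ≠ 0 → okSyl (Nat.card G) 2 (3 ^ b * 5 ^ c * 7 ^ d) = true := fun ha0 =>
    okSyl_of hG (k := a) (by rw [hcard]; ring) (hnd 2 3 5 7 b c d (by norm_num) (by norm_num) (by norm_num)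
      (by norm_num) (by norm_num) (by norm_num) (by norm_num)) ha0
  have key3 : b ≠ 0 → okSyl (Nat.card G) 3 (2 ^ a * 5 ^ c * 7 ^ d) = true := fun ha0 =>
    okSyl_of hG (k := b) (by rw [hcard]; ring) (hnd 3 2 5 7 a c d (by norm_num) (by norm_num) (by norm_num)
      (by norm_num) (by norm_num) (by norm_num) (by norm_num)) ha0
  have key5 : c ≠ 0 → okSyl (Nat.card G) 5 (2 ^ a * 3 ^ b * 7 ^ d) = true := fun ha0 =>
    okSyl_of hG (k := c) (by rw [hcard]; ring) (hnd 5 2 3 7 a b d (by norm_num) (by norm_num) (by norm_num)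
      (by norm_num) (by norm_num) (by norm_num) (by norm_num)) ha0
  have key7 : d ≠ 0 → okSyl (Nat.card G) 7 (2 ^ a * 3 ^ b * 5 ^ c) = true := fun ha0 =>
    okSyl_of hG (k := d) (by rw [hcard]; ring) (hnd 7 2 3 5 a b c (by norm_num) (by norm_num) (by norm_num)
      (by norm_num) (by norm_num) (by norm_num) (by norm_num)) ha0
  have k7 : d ≠ 0 → Nat.card G < 343 → Nat.card G = 168 := by
    intro hd0 hlt
    have hdv : 7 ∣ Nat.card G := by
      rw [hcard]
      exact Dvd.dvd.mul_left (dvd_pow_self 7 hd0) _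
    rcases big_prime hG (p := 7) (by norm_num) hdv (by norm_num; exact hlt) with h1 | ⟨m, hm, h1⟩
    · omega
    · exfalso
      rcases hpow m with h2 | h2
      · interval_cases m <;> omega
      · omega
  have k5 : c ≠ 0 → Nat.card G < 125 → Nat.card G = 60 := by
    intro hd0 hlt
    have hdv : 5 ∣ Nat.card G := by
      rw [hcard]
      exact Dvd.dvd.mul_right (Dvd.dvd.mul_left (dvd_pow_self 5 hd0) _) _
    rcases big_prime hG (p := 5) (by norm_num) hdv (by norm_num; exact hlt) with h1 | ⟨m, hm, h1⟩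
    · omega
    · rcases hpow m with h2 | h2
      · interval_cases m <;> omega
      · omega
  have ntp := not_two_primes (G := G) hG
  simp only [Bool.or_eq_true, Bool.and_eq_true, beq_iff_eq, decide_eq_true_eq, Bool.not_eq_true',
    beq_eq_false_iff_ne, List.elem_iff] at hchk
  rcases hchk with (((((((((((((h1 | h1) | h1) | h1) | h1) | h1) | h1) | h1) | h1) | h1) | h1) | h1) | h1) | h1)
  · omega
  · exact absurd (by rw [hcard, h1.1, h1.2]; ring) (ntp 2 3 a b (by norm_num) (by norm_num))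
  · exact absurd (by rw [hcard, h1.1, h1.2]; ring) (ntp 2 5 a c (by norm_num) (by norm_num))
  · exact absurd (by rw [hcard, h1.1, h1.2]; ring) (ntp 2 7 a d (by norm_num) (by norm_num))
  · exact absurd (by rw [hcard, h1.1, h1.2]; ring) (ntp 3 5 b c (by norm_num) (by norm_num))
  · exact absurd (by rw [hcard, h1.1, h1.2]; ring) (ntp 3 7 b d (by norm_num) (by norm_num))
  · exact absurd (by rw [hcard, h1.1, h1.2]; ring) (ntp 5 7 c d (by norm_num) (by norm_num))
  · exact Or.inr (Or.inl (k7 h1.1 h1.2))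
  · exact Or.inl (k5 h1.1 h1.2)
  · rw [key2 h1.1] at h1
    exact absurd h1.2 (by simp)
  · rw [key3 h1.1] at h1
    exact absurd h1.2 (by simp)
  · rw [key5 h1.1] at h1
    exact absurd h1.2 (by simp)
  · rw [key7 h1.1] at h1
    exact absurd h1.2 (by simp)
  · exact Or.inr (Or.inr (Or.inr (Or.inr h1)))

end

end Cfsg.Agent.H74.Sv
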