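import Mathlib
import Cfsg.Agent.H74.Sieve1092
import Cfsg.Agent.H37.OrdC

/-!
# Simple groups of order at most 1092: the individual orders
-/

set_option autoImplicit false

namespace Cfsg.Agent.H74.Sv

open Cfsg Subgroup
open Cfsg.Agent.BR (Sp ind)
open Cfsg.Agent.H37.Ord (Arith arith arith_one)

universe u

section

variable {G : Type u} [Group G] [Finite G] [IsSimpleGroup G]

/-- `|G| = 2^a 3^b 5`: the arithmetic when the only obstruction is divisibility. -/
theorem kill_one (r a b : ℕ) [hr : Fact r.Prime] (h2 : 2 ≠ r) (h3 : 3 ≠ r) (hcard : Nat.card G = 2 ^ a * 3 ^ b * r)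
    (hnp : ¬ (Nat.card G).Prime) : ∃ n e, Arith r (2 ^ a * 3 ^ b) n e 1 := by
  obtain ⟨S⟩ : Nonempty (Sylow r G) := inferInstance
  obtain ⟨-, -, n, -, h⟩ := arith_one (G := G) 2 3 r a b (by norm_num) (by norm_num) (by norm_num)
    h2 h3 hcard hnp S
  exact ⟨n, _, h⟩

theorem kill_gen (p m : ℕ) [hp : Fact p.Prime] (hm : Nat.card G = p * m) (hpm : ¬ p ∣ m)
    (hnp : ¬ (Nat.card G).Prime) : ∃ n e v, n = Nat.card (Sylow p G) ∧ Arith p m n e v := by
  obtain ⟨S⟩ : Nonempty (Sylow p G) := inferInstance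
  obtain ⟨-, n, v, hn, -, h⟩ := arith (G := G) hm hpm hnp S
  refine ⟨n, _, v, ?_, h⟩
  rw [hn]
  exact (Sylow.card_eq_index_normalizer S).symm

theorem n180 : Nat.card G ≠ 180 := by
  intro hG
  have : Fact (Nat.Prime 5) := ⟨by norm_num⟩
  obtain ⟨n, e, h⟩ := kill_one (G := G) 5 2 2 (by norm_num) (by norm_num) (by rw [hG]; norm_num) (by rw [hG]; norm_num)
  have hm := h.hm
  have h1 := h.n_mod
  have h2 := h.e_two
  have h3 : e ≤ 4 := Nat.le_of_dvd (by norm_num) h.e_dvd
  have h4 := h.e_dvd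
  interval_cases e <;> omega

theorem n240 : Nat.card G ≠ 240 := by
  intro hG
  have : Fact (Nat.Prime 5) := ⟨by norm_num⟩
  obtain ⟨n, e, h⟩ := kill_one (G := G) 5 4 1 (by norm_num) (by norm_num) (by rw [hG]; norm_num) (by rw [hG]; norm_num)
  have hm := h.hm
  have h1 := h.n_mod
  have h2 := h.e_two
  have h3 : e ≤ 4 := Nat.le_of_dvd (by norm_num) h.e_dvd
  have h4 := h.e_dvd
  interval_cases e <;> omega

theorem n480 : Nat.card G ≠ 480 := by
  intro hG
  have : Fact (Nat.Prime 5) := ⟨by norm_num⟩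
  obtain ⟨n, e, h⟩ := kill_one (G := G) 5 5 1 (by norm_num) (by norm_num) (by rw [hG]; norm_num) (by rw [hG]; norm_num)
  have hm := h.hm
  have h1 := h.n_mod
  have h2 := h.e_two
  have h3 : e ≤ 4 := Nat.le_of_dvd (by norm_num) h.e_dvd
  have h4 := h.e_dvd
  interval_cases e <;> omega

theorem n540 : Nat.card G ≠ 540 := by
  intro hG
  have : Fact (Nat.Prime 5) := ⟨by norm_num⟩
  obtain ⟨n, e, h⟩ := kill_one (G := G) 5 2 3 (by norm_num) (by norm_num) (by rw [hG]; norm_num) (by rw [hG]; norm_num)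
  have hm := h.hm
  have h1 := h.n_mod
  have h2 := h.e_two
  have h3 : e ≤ 4 := Nat.le_of_dvd (by norm_num) h.e_dvd
  have h4 := h.e_dvd
  interval_cases e <;> omega

theorem n1080 : Nat.card G ≠ 1080 := by
  intro hG
  have : Fact (Nat.Prime 5) := ⟨by norm_num⟩
  obtain ⟨n, e, h⟩ := kill_one (G := G) 5 3 3 (by norm_num) (by norm_num) (by rw [hG]; norm_num) (by rw [hG]; norm_num)
  have hm := h.hm
  have h1 := h.n_mod
  have h2 := h.e_two
  have h3 : e ≤ 4 := Nat.le_of_dvd (by norm_num) h.e_dvd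
  have h4 := h.e_dvd
  interval_cases e <;> omega

theorem n672 : Nat.card G ≠ 672 := by
  intro hG
  have : Fact (Nat.Prime 7) := ⟨by norm_num⟩
  obtain ⟨n, e, h⟩ := kill_one (G := G) 7 5 1 (by norm_num) (by norm_num) (by rw [hG]; norm_num) (by rw [hG]; norm_num)
  have hm := h.hm
  have h1 := h.n_mod
  have h2 := h.e_two
  have h3 : e ≤ 6 := Nat.le_of_dvd (by norm_num) h.e_dvd
  have h4 := h.e_dvd
  interval_cases e <;> omega

theorem n1008 : Nat.card G ≠ 1008 := by
  intro hG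
  have : Fact (Nat.Prime 7) := ⟨by norm_num⟩
  obtain ⟨n, e, h⟩ := kill_one (G := G) 7 4 2 (by norm_num) (by norm_num) (by rw [hG]; norm_num) (by rw [hG]; norm_num)
  have hm := h.hm
  have h1 := h.n_mod
  have h2 := h.e_two
  have h3 : e ≤ 6 := Nat.le_of_dvd (by norm_num) h.e_dvd
  have h4 := h.e_dvd
  interval_cases e <;> omega

theorem n810 : Nat.card G ≠ 810 := by
  intro hG
  have : Fact (Nat.Prime 5) := ⟨by norm_num⟩
  obtain ⟨n, e, h⟩ := kill_one (G := G) 5 1 4 (by norm_num) (by norm_num) (by rw [hG]; norm_num) (by rw [hG]; norm_num)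
  have hm := h.hm
  have h1 := h.n_mod
  have h2 := h.e_two
  have h3 : e ≤ 4 := Nat.le_of_dvd (by norm_num) h.e_dvd
  have h4 := h.e_dvd
  obtain ⟨he, hn⟩ : e = 2 ∧ n = 81 := by
    interval_cases e <;> omega
  obtain ⟨F, h5, h6, h7, h8, h9⟩ := h.two he
  rw [hn] at h5 h6
  have hd : ∀ d ∈ Nat.divisors (2 * 81), 1 < d → (d % 5 = 1 → d = 6 ∨ d = 81) ∧ (d % 5 = 4 → d = 9 ∨ d = 54) := by
    decide
  have hF := hd F.natAbs (Nat.mem_divisors.2 ⟨h5, by norm_num⟩) h7
  have h10 : F = 6 ∨ F = 81 ∨ F = -9 ∨ F = -54 := by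
    push_cast at h9
    rcases Int.natAbs_eq F with h11 | h11
    · have : F.natAbs % 5 = 1 := by omega
      have := hF.1 this
      omega
    · have : F.natAbs % 5 = 4 := by omega
      have := hF.2 this
      omega
  rcases h10 with rfl | rfl | rfl | rfl <;> revert h6 <;> decide

theorem n756 : Nat.card G ≠ 756 := by
  intro hG
  have : Fact (Nat.Prime 7) := ⟨by norm_num⟩
  obtain ⟨n, e, h⟩ := kill_one (G := G) 7 2 3 (by norm_num) (by norm_num) (by rw [hG]; norm_num) (by rw [hG]; norm_num)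
  have hm := h.hm
  have h1 := h.n_mod
  have h2 := h.e_two
  have h3 : e ≤ 6 := Nat.le_of_dvd (by norm_num) h.e_dvd
  have h4 := h.e_dvd
  obtain ⟨he, hn⟩ : e = 3 ∧ n = 36 := by
    interval_cases e <;> omega
  obtain ⟨F, F', h5, h6, h7, h8, h9, h10, h11, h12⟩ := h.three he
  rw [hn] at h5 h6 h7
  have hd : ∀ d ∈ Nat.divisors (3 * 36), 1 < d → (d % 7 = 1 → d = 36) ∧ (d % 7 = 6 → d = 6 ∨ d = 27) := by
    decide
  have hFd : ∀ F : ℤ, F.natAbs ∣ 3 * 36 → 1 < F.natAbs → F % (7 : ℕ) = 1 → F = 36 ∨ F = -6 ∨ F = -27 := by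
    intro F h5 h7 h9
    have hF := hd F.natAbs (Nat.mem_divisors.2 ⟨h5, by norm_num⟩) h7
    push_cast at h9
    rcases Int.natAbs_eq F with h11 | h11
    · have : F.natAbs % 7 = 1 := by omega
      have := hF.1 this
      omega
    · have : F.natAbs % 7 = 6 := by omega
      have := hF.2 this
      omega
  have k1 := hFd F h5 h8 h11
  have k2 := hFd F' h6 h9 h12
  rcases k1 with rfl | rfl | rfl <;> rcases k2 with rfl | rfl | rfl <;> revert h7 <;> decide

theorem n525 : Nat.card G ≠ 525 := by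
  intro hG
  have : Fact (Nat.Prime 7) := ⟨by norm_num⟩
  obtain ⟨n, e, v, -, h⟩ := kill_gen (G := G) 7 75 (by rw [hG]) (by norm_num) (by rw [hG]; norm_num)
  have hn : n = 15 := by
    have h1 : n ∈ Nat.divisors 75 := Nat.mem_divisors.2 ⟨⟨e * v, h.hm⟩, by norm_num⟩
    have h2 : ∀ n ∈ Nat.divisors 75, n % 7 = 1 → n ≠ 1 → n = 15 := by decide
    exact h2 n h1 h.n_mod h.n_ne
  have hm := h.hm
  rw [hn] at hm
  have hev : e * v = 5 := by omega
  have he : e ∣ 5 := ⟨v, hev.symm⟩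
  have he' := h.e_dvd
  have h2 := h.e_two
  have h3 := Nat.dvd_gcd he he'
  norm_num at h3
  omega

theorem n735 : Nat.card G ≠ 735 := by
  intro hG
  have : Fact (Nat.Prime 5) := ⟨by norm_num⟩
  obtain ⟨n, e, v, -, h⟩ := kill_gen (G := G) 5 147 (by rw [hG]) (by norm_num) (by rw [hG]; norm_num)
  have hn : n = 21 := by
    have h1 : n ∈ Nat.divisors 147 := Nat.mem_divisors.2 ⟨⟨e * v, h.hm⟩, by norm_num⟩
    have h2 : ∀ n ∈ Nat.divisors 147, n % 5 = 1 → n ≠ 1 → n = 21 := by decide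
    exact h2 n h1 h.n_mod h.n_ne
  have hm := h.hm
  rw [hn] at hm
  have hev : e * v = 7 := by omega
  have he : e ∣ 7 := ⟨v, hev.symm⟩
  have he' := h.e_dvd
  have h2 := h.e_two
  have h3 := Nat.dvd_gcd he he'
  norm_num at h3
  omega

theorem n560 : Nat.card G ≠ 560 := by
  intro hG
  have : Fact (Nat.Prime 7) := ⟨by norm_num⟩
  obtain ⟨n, e, v, -, h⟩ := kill_gen (G := G) 7 80 (by rw [hG]) (by norm_num) (by rw [hG]; norm_num)
  have hn : n = 8 := by
    have h1 : n ∈ Nat.divisors 80 := Nat.mem_divisors.2 ⟨⟨e * v, h.hm⟩, by norm_num⟩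
    have h2 : ∀ n ∈ Nat.divisors 80, n % 7 = 1 → n ≠ 1 → n = 8 := by decide
    exact h2 n h1 h.n_mod h.n_ne
  have hm := h.hm
  rw [hn] at hm
  have hev : e * v = 10 := by omega
  have he2 : e = 2 := by
    have he : e ∣ 10 := ⟨v, hev.symm⟩
    have he' := h.e_dvd
    have h2 := h.e_two
    have h3 := Nat.dvd_gcd he he'
    norm_num at h3
    have := Nat.le_of_dvd (by norm_num) h3
    omega
  obtain ⟨F, h5, h6, h7, h8, h9⟩ := h.two he2
  rw [hn] at h5 h6
  have hd : ∀ d ∈ Nat.divisors (2 * 8), 1 < d → (d % 7 = 1 → d = 8) ∧ (d % 7 ≠ 6) := by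
    decide
  have hF := hd F.natAbs (Nat.mem_divisors.2 ⟨h5, by norm_num⟩) h7
  have h10 : F = 8 := by
    push_cast at h9
    rcases Int.natAbs_eq F with h11 | h11
    · have : F.natAbs % 7 = 1 := by omega
      have := hF.1 this
      omega
    · have : F.natAbs % 7 = 6 := by omega
      exact absurd this hF.2
  rw [h10] at h6
  revert h6
  decide

theorem n420 (hc : ¬ IsMulCommutative G) : Nat.card G ≠ 420 := by
  intro hG
  have : Fact (Nat.Prime 5) := ⟨by norm_num⟩
  have h1 := H17.card_sylow_mem (p := 5) (G := G) (k := 1) (m := 84) (by rw [hG]; rfl) (by norm_num)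
  rw [show (Nat.divisors 84).filter (· % 5 = 1) = {1, 6, 21} by decide +kernel] at h1
  have h2 := H17.card_sylow_ne_one (p := 5) hc (by rw [hG]; norm_num)
  have h3 := H17.two_mul_card_dvd_factorial_card_sylow (p := 5) hc (by rw [hG]; norm_num)
  simp only [Finset.mem_insert, Finset.mem_singleton] at h1
  rcases h1 with h1 | h1 | h1
  · exact h2 h1
  · rw [h1, hG] at h3
    revert h3
    decide
  · exact Cfsg.Agent.S1010.result h1

theorem n1050 (hc : ¬ IsMulCommutative G) : Nat.card G ≠ 1050 := by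
  intro hG
  have : Fact (Nat.Prime 5) := ⟨by norm_num⟩
  have h1 := H17.card_sylow_mem (p := 5) (G := G) (k := 2) (m := 42) (by rw [hG]; rfl) (by norm_num)
  rw [show (Nat.divisors 42).filter (· % 5 = 1) = {1, 6, 21} by decide +kernel] at h1
  have h2 := H17.card_sylow_ne_one (p := 5) hc (by rw [hG]; norm_num)
  have h3 := H17.two_mul_card_dvd_factorial_card_sylow (p := 5) hc (by rw [hG]; norm_num)
  simp only [Finset.mem_insert, Finset.mem_singleton] at h1
  rcases h1 with h1 | h1 | h1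
  · exact h2 h1
  · rw [h1, hG] at h3
    revert h3
    decide
  · exact Cfsg.Agent.S1010.result h1

theorem n630 (hc : ¬ IsMulCommutative G) : Nat.card G ≠ 630 := by
  intro hG
  have : Fact (Nat.Prime 5) := ⟨by norm_num⟩
  obtain ⟨n, e, v, hn, h⟩ := kill_gen (G := G) 5 126 (by rw [hG]) (by norm_num) (by rw [hG]; norm_num)
  have h1 : n = 6 ∨ n = 21 ∨ n = 126 := by
    have h1 : n ∈ Nat.divisors 126 := Nat.mem_divisors.2 ⟨⟨e * v, h.hm⟩, by norm_num⟩
    have h2 : ∀ n ∈ Nat.divisors 126, n % 5 = 1 → n ≠ 1 → n = 6 ∨ n = 21 ∨ n = 126 := by decide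
    exact h2 n h1 h.n_mod h.n_ne
  have h3 := H17.two_mul_card_dvd_factorial_card_sylow (p := 5) hc (by rw [hG]; norm_num)
  rcases h1 with h1 | h1 | h1
  · rw [← hn, h1, hG] at h3
    revert h3
    decide
  · exact Cfsg.Agent.S1010.result (hn.symm.trans h1)
  · have hm := h.hm
    have h2 := h.e_two
    rw [h1] at hm
    have hev : e * v = 1 := by omega
    have : e ∣ 1 := ⟨v, hev.symm⟩
    have := Nat.le_of_dvd (by norm_num) this
    omega

theorem n840 (hc : ¬ IsMulCommutative G) : Nat.card G ≠ 840 := by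
  intro hG
  have : Fact (Nat.Prime 5) := ⟨by norm_num⟩
  obtain ⟨n, e, v, hn, h⟩ := kill_gen (G := G) 5 168 (by rw [hG]) (by norm_num) (by rw [hG]; norm_num)
  have h1 : n = 6 ∨ n = 21 ∨ n = 56 := by
    have h1 : n ∈ Nat.divisors 168 := Nat.mem_divisors.2 ⟨⟨e * v, h.hm⟩, by norm_num⟩
    have h2 : ∀ n ∈ Nat.divisors 168, n % 5 = 1 → n ≠ 1 → n = 6 ∨ n = 21 ∨ n = 56 := by decide
    exact h2 n h1 h.n_mod h.n_ne
  have h3 := H17.two_mul_card_dvd_factorial_card_sylow (p := 5) hc (by rw [hG]; norm_num)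
  rcases h1 with h1 | h1 | h1
  · rw [← hn, h1, hG] at h3
    revert h3
    decide
  · exact Cfsg.Agent.S1010.result (hn.symm.trans h1)
  · have hm := h.hm
    have h2 := h.e_two
    rw [h1] at hm
    have hev : e * v = 3 := by omega
    have h4 : e ∣ 3 := ⟨v, hev.symm⟩
    have h5 := Nat.dvd_gcd h4 h.e_dvd
    norm_num at h5
    omega

theorem n900 (hc : ¬ IsMulCommutative G) : Nat.card G ≠ 900 := by
  intro hG
  have : Fact (Nat.Prime 5) := ⟨by norm_num⟩
  have h1 := H17.card_sylow_mem (p := 5) (G := G) (k := 2) (m := 36) (by rw [hG]; rfl) (by norm_num)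
  rw [show (Nat.divisors 36).filter (· % 5 = 1) = {1, 6, 36} by decide +kernel] at h1
  have h2 := H17.card_sylow_ne_one (p := 5) hc (by rw [hG]; norm_num)
  have h3 := H17.two_mul_card_dvd_factorial_card_sylow (p := 5) hc (by rw [hG]; norm_num)
  simp only [Finset.mem_insert, Finset.mem_singleton] at h1
  rcases h1 with h1 | h1 | h1
  · exact h2 h1
  · rw [h1, hG] at h3
    revert h3
    decide
  · obtain ⟨P⟩ : Nonempty (Sylow 5 G) := inferInstance
    have h4 := H17.card_normalizer_mul P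
    rw [h1, hG] at h4
    have hP : Nat.card P = 5 ^ 2 := H17.card_sylow_eq P (k := 2) (m := 36) (by rw [hG]; rfl) (by norm_num)
    have h5 : Nat.card (normalizer ((P : Subgroup G) : Set G)) = 25 := by omega
    have h6 : (P : Subgroup G) = normalizer ((P : Subgroup G) : Set G) := by
      apply Subgroup.eq_of_le_of_card_ge Subgroup.le_normalizer
      rw [h5]
      have : Nat.card (P : Subgroup G) = 25 := hP
      rw [this]
    apply H17.not_normalizer_le_centralizer (p := 5) hc (by rw [hG]; norm_num) P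
    rw [← h6]
    have h7 : IsMulCommutative P := IsPGroup.isMulCommutative_of_card_eq_prime_sq hP
    exact Subgroup.le_centralizer P.1

theorem n960 (hc : ¬ IsMulCommutative G) : Nat.card G ≠ 960 := by
  intro hG
  rcases Cfsg.Agent.S0997.result (G := G) (not_cyclic hc) 5 2 6 3 (by norm_num) (by norm_num) (by norm_num)
    (by rw [hG]; norm_num) (by norm_num) with
    ⟨m, K, iK, iKf, hK, -, ⟨φ⟩⟩ | ⟨m, K, iK, iKf, hK, hm, h3, ⟨φ⟩⟩
  · have h1 := Cfsg.Agent.H14.SubField.card_PSL2_odd (F := K) (by rw [hK]; decide)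
    rw [← Nat.card_congr φ.toEquiv, hK, hG] at h1
    omega
  · have hm4 : 2 ^ m = 4 := by omega
    rw [hm4] at hK
    have h1 := Cfsg.Agent.H14.SubField.card_PSL2_even (F := K) (by rw [hK]; decide)
    rw [← Nat.card_congr φ.toEquiv, hK, hG] at h1
    omega

end

end Cfsg.Agent.H74.Sv
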