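import Mathlib
import Cfsg.Agent.H74.CInv
import Cfsg.Agent.H74.Sieve1092B
import Cfsg.Agent.BR.SelfCent

/-!
# There is no simple group of order 5040
-/

set_option autoImplicit false

namespace Cfsg.Agent.H74.CInv

open Cfsg Subgroup Cfsg.Agent.BR
open Cfsg.Agent.CharBase (oneIrr)

universe u

section

variable {G : Type u} [Group G] [Finite G] {p : ℕ} [hp : Fact p.Prime] {P : Subgroup G}

theorem exists_inv {H : Subgroup G} (h : 2 ∣ Nat.card H) : ∃ v ∈ H, orderOf v = 2 := by
  have : Fact (Nat.Prime 2) := ⟨Nat.prime_two⟩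
  obtain ⟨v, hv⟩ := exists_prime_orderOf_dvd_card' (G := H) 2 h
  exact ⟨v, v.2, by rw [Subgroup.orderOf_coe]; exact hv⟩

theorem dg_oneIrr : dg (oneIrr G) = 1 := by
  have h3 := dg_eq (oneIrr G)
  rw [CharBase.oneIrr_apply] at h3
  exact_mod_cast h3.symm

theorem sq_le (χ : IrrCharacter G) : dg χ * dg χ ≤ Nat.card G := by
  have : Fintype (IrrCharacter G) := Fintype.ofFinite _
  have h1 := CharBase.sum_sq_degree (G := G)
  have h2 : ∑ χ : IrrCharacter G, (dg χ : ℂ) ^ 2 = Nat.card G := by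
    rw [← h1]
    exact Finset.sum_congr rfl (fun χ _ => by rw [dg_eq])
  have h3 : ∑ χ : IrrCharacter G, dg χ ^ 2 = Nat.card G := by exact_mod_cast h2
  rw [← h3, ← pow_two]
  exact Finset.single_le_sum (f := fun χ : IrrCharacter G => dg χ ^ 2) (fun _ _ => Nat.zero_le _) (Finset.mem_univ χ)

/-- the principal block for inertial index two. -/
theorem two_chars (B : Data p P) (hP : Sp p P) (hp3 : 3 ≤ p) (he : ind P = 2) :
    ∃ χ ψ : IrrCharacter G, χ ∈ B.X ∧ χ ≠ oneIrr G ∧ ψ ∈ B.Y ∧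
      1 + B.δ χ * (dg χ : ℤ) + B.δ₀ * (dg ψ : ℤ) = 0 := by
  classical
  have hcX : (B.X.erase (oneIrr G)).card = 1 := by
    rw [Finset.card_erase_of_mem B.one_mem, B.cardX, he]
  obtain ⟨χ, hX⟩ := Finset.card_eq_one.1 hcX
  obtain ⟨ψ, hψ⟩ := B.Y_nonempty (by omega)
  have h1 : χ ∈ B.X.erase (oneIrr G) := by rw [hX]; simp
  refine ⟨χ, ψ, Finset.mem_of_mem_erase h1, Finset.ne_of_mem_erase h1, hψ, ?_⟩
  have h2 := B.degEq hψ
  rw [← Finset.add_sum_erase _ _ B.one_mem, B.δ_one hP, hX, Finset.sum_singleton, dg_oneIrr] at h2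
  push_cast at h2
  linarith

theorem four_chars [hp5 : Fact (Nat.Prime 5)] {P : Subgroup G} (B : Data 5 P) (hP : Sp 5 P) (he : ind P = 4) :
    ∃ χ1 χ2 χ3 ψ : IrrCharacter G, (χ1 ∈ B.X ∧ χ1 ≠ oneIrr G) ∧ (χ2 ∈ B.X ∧ χ2 ≠ oneIrr G) ∧
      (χ3 ∈ B.X ∧ χ3 ≠ oneIrr G) ∧ ψ ∈ B.Y ∧
      1 + (B.δ χ1 * (dg χ1 : ℤ) + B.δ χ2 * (dg χ2 : ℤ) + B.δ χ3 * (dg χ3 : ℤ) + B.δ₀ * (dg ψ : ℤ)) = 0 := by
  classical
  have hcX : (B.X.erase (oneIrr G)).card = 3 := by
    rw [Finset.card_erase_of_mem B.one_mem, B.cardX, he]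
  obtain ⟨χ1, χ2, χ3, h12, h13, h23, hX⟩ := Finset.card_eq_three.1 hcX
  obtain ⟨ψ, hψ⟩ := B.Y_nonempty (by omega)
  have hm : ∀ χ ∈ B.X.erase (oneIrr G), χ ∈ B.X ∧ χ ≠ oneIrr G := fun χ hχ =>
    ⟨Finset.mem_of_mem_erase hχ, Finset.ne_of_mem_erase hχ⟩
  refine ⟨χ1, χ2, χ3, ψ, hm _ (by rw [hX]; simp), hm _ (by rw [hX]; simp), hm _ (by rw [hX]; simp), hψ, ?_⟩
  have h2 := B.degEq hψ
  rw [← Finset.add_sum_erase _ _ B.one_mem, B.δ_one hP, hX, Finset.sum_insert (by simp [h12, h13]),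
    Finset.sum_insert (by simp [h23]), Finset.sum_singleton, dg_oneIrr] at h2
  push_cast at h2
  linarith

end

section

variable {G : Type u} [Group G] [Finite G] [IsSimpleGroup G]

def s5 (f : ℕ) : ℤ := if f % 5 = 1 then 1 else -1

theorem arith126 : ∀ f1 ∈ [14, 21, 24, 36, 56], ∀ f2 ∈ [14, 21, 24, 36, 56], ∀ f3 ∈ [14, 21, 24, 36, 56],
    ∀ f4 ∈ [14, 21, 24, 36, 56], 1 + (s5 f1 * (f1 : ℕ) + s5 f2 * (f2 : ℕ) + s5 f3 * (f3 : ℕ) + s5 f4 * (f4 : ℕ)) ≠ 0 := by
  decide +kernel

theorem deg504 : ∀ f ∈ Nat.divisors 504, 10 ≤ f → f * f ≤ 5040 → (f % 5 = 1 ∨ f % 5 = 4) →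
    f ∈ [14, 21, 24, 36, 56] := by decide +kernel

theorem not5040 (hc : ¬ IsMulCommutative G) : Nat.card G ≠ 5040 := by
  classical
  intro hG
  have hp5 : Fact (Nat.Prime 5) := ⟨by norm_num⟩
  have hp7 : Fact (Nat.Prime 7) := ⟨by norm_num⟩
  have hnp : ¬ (Nat.card G).Prime := by rw [hG]; norm_num
  have hperf : commutator G = ⊤ := perfect_of_simple hc
  -- the prime 5
  obtain ⟨S⟩ : Nonempty (Sylow 5 G) := inferInstance
  obtain ⟨hSp, n, v, hn, hCc, h⟩ := Cfsg.Agent.H37.Ord.arith (G := G) (p := 5) (m := 1008) hG (by norm_num) hnp S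
  obtain ⟨B⟩ := CycG.nonempty_data hSp
  have hsyl : n = Nat.card (Sylow 5 G) := by
    rw [hn]
    exact (Sylow.card_eq_index_normalizer S).symm
  have hfac := H17.two_mul_card_dvd_factorial_card_sylow (p := 5) hc (by rw [hG]; norm_num)
  obtain ⟨e, he⟩ : ∃ e, e = ind (S : Subgroup G) := ⟨_, rfl⟩
  rw [← he] at h
  have hm := h.hm
  have h2 := h.e_two
  have h4 := h.e_dvd
  have he4 : e = 2 ∨ e = 4 := by
    have := Nat.le_of_dvd (by norm_num) h4
    interval_cases e <;> omega
  have hncases : n = 6 ∨ n = 16 ∨ n = 21 ∨ n = 36 ∨ n = 56 ∨ n = 126 ∨ n = 336 := by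
    have h1 : n ∈ Nat.divisors 1008 := Nat.mem_divisors.2 ⟨⟨e * v, h.hm⟩, by norm_num⟩
    have h2 : ∀ n ∈ Nat.divisors 1008, n % 5 = 1 → n ≠ 1 →
        n = 6 ∨ n = 16 ∨ n = 21 ∨ n = 36 ∨ n = 56 ∨ n = 126 ∨ n = 336 := by decide +kernel
    exact h2 n h1 h.n_mod h.n_ne
  have h7v : 7 ∣ v := by
    rcases hncases with h1 | h1 | h1 | h1 | h1 | h1 | h1
    · exfalso
      rw [← hsyl, h1, hG] at hfac
      revert hfac
      decide
    · exfalso
      rcases he4 with h3 | h3 <;> rw [h1, h3] at hm <;> omega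
    · exact absurd (hsyl.symm.trans h1) Cfsg.Agent.S1010.result
    · rcases he4 with h3 | h3 <;> rw [h1, h3] at hm <;> omega
    · exfalso
      rcases he4 with h3 | h3
      · obtain ⟨F, h5, h6, h7, h8, h9⟩ := h.two h3
        rw [h1] at h5 h6
        have hd : ∀ d ∈ Nat.divisors (2 * 56), 1 < d → (d % 5 = 1 → d = 16 ∨ d = 56) ∧ (d % 5 = 4 → d = 4 ∨ d = 14) := by
          decide
        have hF := hd F.natAbs (Nat.mem_divisors.2 ⟨h5, by norm_num⟩) h7
        have h10 : F = 16 ∨ F = 56 ∨ F = -4 ∨ F = -14 := by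
          push_cast at h9
          rcases Int.natAbs_eq F with h11 | h11
          · have : F.natAbs % 5 = 1 := by omega
            have := hF.1 this
            omega
          · have : F.natAbs % 5 = 4 := by omega
            have := hF.2 this
            omega
        rcases h10 with rfl | rfl | rfl | rfl <;> revert h6 <;> decide
      · rw [h1, h3] at hm
        omega
    · exfalso
      have h2v : 2 ∣ v := by
        rcases he4 with h3 | h3 <;> rw [h1, h3] at hm <;> omega
      obtain ⟨w, hw, hw2⟩ := exists_inv (H := centralizer ((S : Subgroup G) : Set G)) (by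
        rw [hCc]
        exact Dvd.dvd.mul_left h2v 5)
      have hidx : (normalizer ((S : Subgroup G) : Set G)).index = 126 := by rw [← hn, h1]
      rcases he4 with h3 | h3
      · obtain ⟨χ, ψ, hχ, hχ1, hψ, hsum⟩ := two_chars B hSp (by norm_num) (by rw [← he, h3])
        have k1 := big_X B hSp (by norm_num) hperf hχ hχ1 hw hw2
        have k2 := B.dvd_X hSp hχ
        have k3 := B.dvd_Y hSp hψ
        have k4 := B.congr_X hSp hχ
        rw [hidx, ← he, h3] at k2 k3
        have hd : ∀ d ∈ Nat.divisors (2 * 126), 10 ≤ d → (d % 5 = 1 → (d + 1) ∉ Nat.divisors (2 * 126)) ∧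
            (d % 5 = 4 → (d - 1) ∉ Nat.divisors (2 * 126)) := by
          decide +kernel
        have hd1 := hd _ (Nat.mem_divisors.2 ⟨k2, by norm_num⟩) (by omega)
        rcases B.sgn χ hχ with h5 | h5
        · rw [h5] at hsum k4
          rcases B.sgn₀ with h6 | h6
          · rw [h6] at hsum
            omega
          · rw [h6] at hsum
            have h7 : dg ψ = dg χ + 1 := by omega
            apply hd1.1 (by omega)
            rw [← h7]
            exact Nat.mem_divisors.2 ⟨k3, by norm_num⟩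
        · rw [h5] at hsum k4
          rcases B.sgn₀ with h6 | h6
          · rw [h6] at hsum
            have h7 : dg ψ = dg χ - 1 := by omega
            apply hd1.2 (by omega)
            rw [← h7]
            exact Nat.mem_divisors.2 ⟨k3, by norm_num⟩
          · rw [h6] at hsum
            omega
      · have he' : ind (S : Subgroup G) = 4 := by rw [← he, h3]
        obtain ⟨χ1, χ2, χ3, ψ, hχ1, hχ2, hχ3, hψ, hsum⟩ := four_chars B hSp he'
        have key : ∀ χ ∈ B.X, χ ≠ oneIrr G → dg χ ∈ [14, 21, 24, 36, 56] ∧ B.δ χ = s5 (dg χ) := by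
          intro χ hχ hχ1
          have k1 := big_X B hSp (by norm_num) hperf hχ hχ1 hw hw2
          have k2 := B.dvd_X hSp hχ
          have k4 := B.congr_X hSp hχ
          have k5 := sq_le χ
          rw [hidx, he'] at k2
          rw [hG] at k5
          have k6 : (dg χ % 5 = 1 ∨ dg χ % 5 = 4) ∧ B.δ χ = s5 (dg χ) := by
            unfold s5
            rcases B.sgn χ hχ with h5 | h5
            · rw [h5] at k4 ⊢
              have : dg χ % 5 = 1 := by omega
              rw [if_pos this]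
              exact ⟨Or.inl this, rfl⟩
            · rw [h5] at k4 ⊢
              have : dg χ % 5 = 4 := by omega
              rw [if_neg (by omega)]
              exact ⟨Or.inr this, rfl⟩
          exact ⟨deg504 _ (Nat.mem_divisors.2 ⟨k2, by norm_num⟩) (by omega) k5 k6.1, k6.2⟩
        have keyψ : dg ψ ∈ [14, 21, 24, 36, 56] ∧ B.δ₀ = s5 (dg ψ) := by
          have k1 := big_Y B hSp (by norm_num) hperf hψ hw hw2
          have k2 := B.dvd_Y hSp hψ
          have k4 := B.congr_Y hSp hψ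
          have k5 := sq_le ψ
          rw [hidx, he'] at k2
          rw [hG] at k5
          rw [he'] at k4
          have k6 : (dg ψ % 5 = 1 ∨ dg ψ % 5 = 4) ∧ B.δ₀ = s5 (dg ψ) := by
            unfold s5
            rcases B.sgn₀ with h5 | h5
            · rw [h5] at k4 ⊢
              have : dg ψ % 5 = 1 := by omega
              rw [if_pos this]
              exact ⟨Or.inl this, rfl⟩
            · rw [h5] at k4 ⊢
              have : dg ψ % 5 = 4 := by omega
              rw [if_neg (by omega)]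
              exact ⟨Or.inr this, rfl⟩
          exact ⟨deg504 _ (Nat.mem_divisors.2 ⟨k2, by norm_num⟩) (by omega) k5 k6.1, k6.2⟩
        have k1 := key _ hχ1.1 hχ1.2
        have k2 := key _ hχ2.1 hχ2.2
        have k3 := key _ hχ3.1 hχ3.2
        rw [k1.2, k2.2, k3.2, keyψ.2] at hsum
        exact arith126 _ k1.1 _ k2.1 _ k3.1 _ keyψ.1 hsum
    · exfalso
      rcases he4 with h3 | h3 <;> rw [h1, h3] at hm <;> omega
  -- the prime 7
  obtain ⟨T⟩ : Nonempty (Sylow 7 G) := inferInstance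
  obtain ⟨hTp, n', v', hn', hCc', h'⟩ := Cfsg.Agent.H37.Ord.arith (G := G) (p := 7) (m := 720) hG (by norm_num) hnp T
  -- an element of order 5 centralizing an element of order 7
  have h5v : 5 ∣ v' := by
    obtain ⟨z, hz⟩ := exists_prime_orderOf_dvd_card' (G := centralizer ((S : Subgroup G) : Set G)) 7 (by
      rw [hCc]
      exact Dvd.dvd.mul_left h7v 5)
    have hzo : orderOf (z : G) = 7 := by rw [Subgroup.orderOf_coe]; exact hz
    obtain ⟨x, hx⟩ := hTp.exists_conj hzo
    have hx1 : x⁻¹ * z * x ≠ 1 := by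
      intro h
      have : (z : G) = 1 := by
        calc (z : G) = x * (x⁻¹ * z * x) * x⁻¹ := by group
          _ = 1 := by rw [h]; group
      rw [this, orderOf_one] at hzo
      omega
    have hC1 := hTp.centralizer_eq hx hx1
    obtain ⟨s, hs, hs1⟩ := exists_ne_one hSp
    have hso := hSp.orderOf_eq hs hs1
    have hsz : (z : G) * s = s * z := (mem_centralizer_iff.1 z.2 s hs).symm
    have hmem : x⁻¹ * s * x ∈ centralizer ((T : Subgroup G) : Set G) := by
      rw [← hC1, mem_centralizer_singleton_iff]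
      calc x⁻¹ * s * x * (x⁻¹ * z * x) = x⁻¹ * (s * z) * x := by group
        _ = x⁻¹ * (z * s) * x := by rw [hsz]
        _ = x⁻¹ * z * x * (x⁻¹ * s * x) := by group
    have ho : orderOf (x⁻¹ * s * x) = 5 := by
      rw [← hso]
      have := (MulAut.conj x⁻¹).orderOf_eq s
      rw [MulAut.conj_apply, inv_inv] at this
      exact this
    have h5 : 5 ∣ Nat.card (centralizer ((T : Subgroup G) : Set G)) := by
      have := orderOf_dvd_natCard (⟨_, hmem⟩ : centralizer ((T : Subgroup G) : Set G))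
      rwa [← Subgroup.orderOf_coe, ho] at this
    rw [hCc'] at h5
    omega
  obtain ⟨e', he'⟩ : ∃ e', e' = ind (T : Subgroup G) := ⟨_, rfl⟩
  rw [← he'] at h'
  have hm' := h'.hm
  have h2' := h'.e_two
  have h4' := h'.e_dvd
  have he4' : e' = 2 ∨ e' = 3 ∨ e' = 6 := by
    have := Nat.le_of_dvd (by norm_num) h4'
    interval_cases e' <;> omega
  have hncases' : n' = 8 ∨ n' = 15 ∨ n' = 36 ∨ n' = 120 := by
    have h1 : n' ∈ Nat.divisors 720 := Nat.mem_divisors.2 ⟨⟨e' * v', h'.hm⟩, by norm_num⟩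
    have h2 : ∀ n ∈ Nat.divisors 720, n % 7 = 1 → n ≠ 1 →
        n = 8 ∨ n = 15 ∨ n = 36 ∨ n = 120 := by decide +kernel
    exact h2 n' h1 h'.n_mod h'.n_ne
  obtain ⟨B'⟩ := CycG.nonempty_data hTp
  have hcore : pPrimeCore 7 G = ⊥ := by
    have hN : (pPrimeCore 7 G).Normal := inferInstance
    rcases hN.eq_bot_or_eq_top with h | h
    · exact h
    · exfalso
      have h1 := Solv.pPrimeCore_card_coprime (G := G) 7
      rw [h, Subgroup.card_top, hG] at h1
      revert h1
      norm_num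
  have hself : ∀ m : ℕ, 1 ≤ m → n' = 1 + m * 7 → ¬ Third 7 m → False := by
    intro m hm1 hm2 hm3
    have h1 := B'.self_cent hTp (by norm_num) hperf hm1 (by rw [← hn', hm2]) hm3 hcore
    rw [h1] at hCc'
    have h3 : Nat.card (T : Subgroup G) = 7 := hTp.card
    rw [h3] at hCc'
    omega
  rcases hncases' with h1 | h1 | h1 | h1
  · refine hself 1 le_rfl (by rw [h1]) ?_
    rintro ⟨h, u, hh, hu, heq⟩
    nlinarith
  · refine hself 2 (by norm_num) (by rw [h1]) ?_
    rintro ⟨h, u, hh, hu, heq⟩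
    nlinarith
  · have hv10 : e' = 2 ∧ v' = 10 := by
      rcases he4' with h3 | h3 | h3 <;> rw [h1, h3] at hm' <;> omega
    obtain ⟨w, hw, hw2⟩ := exists_inv (H := centralizer ((T : Subgroup G) : Set G)) (by
      rw [hCc', hv10.2]
      norm_num)
    have hidx : (normalizer ((T : Subgroup G) : Set G)).index = 36 := by rw [← hn', h1]
    obtain ⟨χ, ψ, hχ, hχ1, hψ, hsum⟩ := two_chars B' hTp (by norm_num) (by rw [← he', hv10.1])
    have k1 := big_X B' hTp (by norm_num) hperf hχ hχ1 hw hw2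
    have k2 := B'.dvd_X hTp hχ
    have k3 := B'.dvd_Y hTp hψ
    have k4 := B'.congr_X hTp hχ
    rw [hidx, ← he', hv10.1] at k2 k3
    have hd : ∀ d ∈ Nat.divisors (2 * 36), 14 ≤ d → (d % 7 = 1 → (d + 1) ∉ Nat.divisors (2 * 36)) ∧
        (d % 7 = 6 → (d - 1) ∉ Nat.divisors (2 * 36)) := by
      decide +kernel
    have hd1 := hd _ (Nat.mem_divisors.2 ⟨k2, by norm_num⟩) (by omega)
    rcases B'.sgn χ hχ with h5 | h5
    · rw [h5] at hsum k4
      rcases B'.sgn₀ with h6 | h6
      · rw [h6] at hsum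
        omega
      · rw [h6] at hsum
        have h7 : dg ψ = dg χ + 1 := by omega
        apply hd1.1 (by omega)
        rw [← h7]
        exact Nat.mem_divisors.2 ⟨k3, by norm_num⟩
    · rw [h5] at hsum k4
      rcases B'.sgn₀ with h6 | h6
      · rw [h6] at hsum
        have h7 : dg ψ = dg χ - 1 := by omega
        apply hd1.2 (by omega)
        rw [← h7]
        exact Nat.mem_divisors.2 ⟨k3, by norm_num⟩
      · rw [h6] at hsum
        omega
  · rcases he4' with h3 | h3 | h3 <;> rw [h1, h3] at hm' <;> omega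

end

end Cfsg.Agent.H74.CInv
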