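import Mathlib
import Cfsg.Agent.H74.Sieve1092B
import Cfsg.Agent.BR.Rows2
import Cfsg.Agent.BR.Final
import Cfsg.Agent.Solv.Core

/-!
# The finite check of a sieve for the orders of simple groups between 3640 and 6233
-/

set_option autoImplicit false

namespace Cfsg.Agent.H74.SvB

open Cfsg Subgroup
open Cfsg.Agent.BR (Sp ind Third Concl)
open Cfsg.Agent.H37.Ord (Arith arith arith_one)

universe u

def okSyl (n p m : ℕ) : Bool := (List.range (m + 1)).any fun d =>
  (m % d == 0) && (d % p == 1) && !(d == 1) && (decide (19 < d) || (d.factorial % (2 * n) == 0)) &&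
    !(p == 5 && d == 21)

def t2 (p N : ℕ) : Bool := (List.range (2 * N + 1)).any fun d =>
  ((2 * N) % d == 0) && decide (1 < d) && ((d % p == 1 && (2 * N) % (d + 1) == 0) ||
    ((d + 1) % p == 0 && decide (2 < d) && (2 * N) % (d - 1) == 0))

def thirdB (p k : ℕ) : Bool := (List.range (k + 1)).any fun u =>
  decide (0 < u) && decide (u * u + u < k * (u + 1)) && ((k * (u + 1) - (u * u + u)) % (u * p + 1) == 0)

def okAr (n p m : ℕ) (one : Bool) : Bool := (List.range (m + 1)).any fun N =>
  (m % N == 0) && (N % p == 1) && !(N == 1) && (decide (19 < N) || (N.factorial % (2 * n) == 0)) &&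
    !(p == 5 && N == 21) && thirdB p ((N - 1) / p) &&
    (List.range p).any fun e => decide (1 < e) && ((p - 1) % e == 0) && ((m / N) % e == 0) &&
      (!one || (m / N / e == 1)) && (!(e == 2) || t2 p N)

def kill (n p k : ℕ) (one : Bool) : Bool := !(k == 0) && (!(okSyl n p (n / p ^ k)) ||
  ((k == 1) && !(okAr n p (n / p) one)))

def nz (a : ℕ) : ℕ := if a = 0 then 0 else 1

def left : List ℕ := [3780, 4032, 4080, 4200, 4320, 4500, 4620, 4900, 5040, 5292, 5400, 5460, 5616, 5760, 6000, 6048]

def chk (a b c d e f g : ℕ) : Bool :=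
  let n := 2 ^ a * 3 ^ b * 5 ^ c * 7 ^ d * 11 ^ e * 13 ^ f * 17 ^ g
  let r := nz a + nz b + nz c + nz d + nz e + nz f + nz g
  let one := r == 3
  decide (n < 3641) || decide (6232 < n) || decide (r < 3) || kill n 2 a one || kill n 3 b one || kill n 5 c one ||
    kill n 7 d one || kill n 11 e one || kill n 13 f one || kill n 17 g one || left.elem n

def chkAll : Bool := (List.range 13).all fun a => (List.range 8).all fun b => decide (6232 < 2 ^ a * 3 ^ b) ||
  (List.range 6).all fun c => decide (6232 < 2 ^ a * 3 ^ b * 5 ^ c) ||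
  (List.range 5).all fun d => decide (6232 < 2 ^ a * 3 ^ b * 5 ^ c * 7 ^ d) ||
  (List.range 4).all fun e => decide (6232 < 2 ^ a * 3 ^ b * 5 ^ c * 7 ^ d * 11 ^ e) ||
  (List.range 4).all fun f => decide (6232 < 2 ^ a * 3 ^ b * 5 ^ c * 7 ^ d * 11 ^ e * 13 ^ f) ||
  (List.range 4).all fun g => chk a b c d e f g

set_option maxRecDepth 100000 in
theorem chkAll_eq : chkAll = true := by decide +kernel

end Cfsg.Agent.H74.SvB
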