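import Mathlib
import Cfsg.Agent.H74.SieveB0

/-!
# A sieve for the orders of simple groups between 3640 and 6233
-/

set_option autoImplicit false

namespace Cfsg.Agent.H74.SvB

open Cfsg Subgroup
open Cfsg.Agent.BR (Sp ind Third Concl)
open Cfsg.Agent.H37.Ord (Arith arith arith_one)

universe u

theorem t2_of {p N : ℕ} (hp : 2 ≤ p) (h : ∃ F : ℤ, F.natAbs ∣ 2 * N ∧ (1 + F).natAbs ∣ 2 * N ∧ 1 < F.natAbs ∧
    1 < (1 + F).natAbs ∧ F % p = 1) (hN : 0 < N) : t2 p N = true := by
  obtain ⟨F, h1, h2, h3, h4, h5⟩ := h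
  unfold t2
  rw [List.any_eq_true]
  refine ⟨F.natAbs, List.mem_range.2 (Nat.lt_succ_of_le (Nat.le_of_dvd (by omega) h1)), ?_⟩
  simp only [Bool.and_eq_true, beq_iff_eq, Bool.or_eq_true, decide_eq_true_eq]
  refine ⟨⟨Nat.mod_eq_zero_of_dvd h1, h3⟩, ?_⟩
  rcases Int.natAbs_eq F with h6 | h6
  · left
    constructor
    · rw [h6] at h5
      exact_mod_cast h5
    · have : (1 + F).natAbs = F.natAbs + 1 := by omega
      rw [this] at h2
      exact Nat.mod_eq_zero_of_dvd h2
  · right
    have h7 : (1 + F).natAbs = F.natAbs - 1 := by omega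
    refine ⟨⟨?_, by omega⟩, ?_⟩
    · have h8 : (p : ℤ) ∣ F - 1 := by
        have := Int.emod_add_mul_ediv F p
        rw [h5] at this
        exact ⟨F / p, by linarith⟩
      have h9 : (p : ℤ) ∣ ((F.natAbs + 1 : ℕ) : ℤ) := by
        have e : ((F.natAbs + 1 : ℕ) : ℤ) = -(F - 1) := by
          rw [Nat.cast_add, Nat.cast_one]
          omega
        rw [e]
        exact (dvd_neg).2 h8
      exact Nat.mod_eq_zero_of_dvd (by exact_mod_cast h9)
    · rw [h7] at h2
      exact Nat.mod_eq_zero_of_dvd h2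

theorem thirdB_of {p k : ℕ} (h : Third p k) : thirdB p k = true := by
  obtain ⟨h, u, hh, hu, heq⟩ := h
  have e1 : k * (u + 1) = u * u + u + h * (u * p + 1) := by rw [heq]; ring
  have h1 : u * u + u < k * (u + 1) := by
    rw [e1]
    have : 0 < h * (u * p + 1) := by positivity
    omega
  unfold thirdB
  rw [List.any_eq_true]
  have h2 : u < k + 1 := by
    by_contra hcon
    have h3 : k ≤ u := by omega
    have : k * (u + 1) ≤ u * (u + 1) := Nat.mul_le_mul_right _ h3
    nlinarith
  refine ⟨u, List.mem_range.2 h2, ?_⟩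
  simp only [Bool.and_eq_true, beq_iff_eq, decide_eq_true_eq]
  refine ⟨⟨hu, h1⟩, ?_⟩
  rw [e1, Nat.add_sub_cancel_left, Nat.mul_mod_left]

section

variable {G : Type u} [Group G] [Finite G] [IsSimpleGroup G]

theorem okSyl_of (hG : ¬ IsMulCommutative G) {p k m : ℕ} [hp : Fact p.Prime] (h : Nat.card G = p ^ k * m)
    (hm : ¬ p ∣ m) (hk : k ≠ 0) : okSyl (Nat.card G) p m = true := by
  have hpd : p ∣ Nat.card G := by
    rw [h]
    exact Dvd.dvd.mul_right (dvd_pow_self p hk) m
  have h1 := H17.card_sylow_mem (p := p) (G := G) (k := k) (m := m) h hm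
  have h2 := H17.card_sylow_ne_one (p := p) hG hpd
  have h3 := H17.two_mul_card_dvd_factorial_card_sylow (p := p) hG hpd
  rw [Finset.mem_filter, Nat.mem_divisors] at h1
  obtain ⟨⟨h4, h5⟩, h6⟩ := h1
  unfold okSyl
  rw [List.any_eq_true]
  refine ⟨Nat.card (Sylow p G), List.mem_range.2 (Nat.lt_succ_of_le (Nat.le_of_dvd (Nat.pos_of_ne_zero h5) h4)), ?_⟩
  simp only [Bool.and_eq_true, beq_iff_eq, Bool.or_eq_true, Bool.not_eq_true', beq_eq_false_iff_ne,
    Bool.and_eq_false_iff]
  refine ⟨⟨⟨⟨Nat.mod_eq_zero_of_dvd h4, h6⟩, h2⟩, Or.inr (Nat.mod_eq_zero_of_dvd h3)⟩, ?_⟩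
  by_cases h7 : p = 5
  · right
    subst h7
    exact Cfsg.Agent.S1010.result
  · left
    exact h7

theorem exists_two {n : ℕ} (hn : n ≠ 0) {p : ℕ} (hp : p.Prime) (hpn : n.factorization p = 1)
    (h3 : n.primeFactors.card = 3) : ∃ q r a b : ℕ, q.Prime ∧ r.Prime ∧ q ≠ r ∧ q ≠ p ∧ r ≠ p ∧
      n = q ^ a * r ^ b * p := by
  have hpm : p ∈ n.primeFactors := by
    rw [← Nat.support_factorization, Finsupp.mem_support_iff, hpn]
    norm_num
  have h4 : (n.primeFactors.erase p).card = 2 := by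
    rw [Finset.card_erase_of_mem hpm, h3]
  obtain ⟨q, r, hqr, he⟩ := Finset.card_eq_two.1 h4
  have hq : q ∈ n.primeFactors.erase p := by rw [he]; simp
  have hr : r ∈ n.primeFactors.erase p := by rw [he]; simp
  refine ⟨q, r, n.factorization q, n.factorization r, Nat.prime_of_mem_primeFactors (Finset.mem_of_mem_erase hq),
    Nat.prime_of_mem_primeFactors (Finset.mem_of_mem_erase hr), hqr, Finset.ne_of_mem_erase hq,
    Finset.ne_of_mem_erase hr, ?_⟩
  have h5 := Nat.prod_factorization_pow_eq_self hn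
  rw [Finsupp.prod, Nat.support_factorization, ← Finset.mul_prod_erase _ _ hpm, he, Finset.prod_pair hqr, hpn,
    pow_one] at h5
  conv_lhs => rw [← h5]
  ring

theorem v_eq_one {p m : ℕ} [hp : Fact p.Prime] (h : Nat.card G = p * m) (hpm : ¬ p ∣ m)
    (hnp : ¬ (Nat.card G).Prime) (h3 : (Nat.card G).primeFactors.card = 3) (P : Sylow p G) {v : ℕ}
    (hv : Nat.card (centralizer ((P : Subgroup G) : Set G)) = p * v) : v = 1 := by
  have hn0 : Nat.card G ≠ 0 := Nat.card_pos.ne'
  have hf : (Nat.card G).factorization p = 1 := by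
    rw [h, Nat.factorization_mul hp.out.ne_zero (by rintro rfl; exact hpm (dvd_zero p))]
    rw [Finsupp.add_apply, hp.out.factorization_self, Nat.factorization_eq_zero_of_not_dvd hpm]
  obtain ⟨q, r, a, b, hq, hr, hqr, hqp, hrp, hc⟩ := exists_two hn0 hp.out hf h3
  obtain ⟨hSp, hC, -⟩ := arith_one (G := G) q r p a b hq hr hqr hqp hrp hc hnp P
  rw [hC] at hv
  have h4 : Nat.card (P : Subgroup G) = p := hSp.card
  rw [h4] at hv
  have : p * v = p * 1 := by rw [← hv, mul_one]
  exact Nat.eq_of_mul_eq_mul_left hp.out.pos this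

theorem okAr_of (hG : ¬ IsMulCommutative G) {p m : ℕ} [hp : Fact p.Prime] (h : Nat.card G = p * m)
    (hpm : ¬ p ∣ m) (hnp : ¬ (Nat.card G).Prime) (one : Bool)
    (hone : one = true → (Nat.card G).primeFactors.card = 3) (hcon : ¬ Concl p G) :
    okAr (Nat.card G) p m one = true := by
  obtain ⟨P⟩ : Nonempty (Sylow p G) := inferInstance
  obtain ⟨hSp, n, v, hn, hCc, hA⟩ := arith (G := G) h hpm hnp P
  have hperf := Cfsg.Agent.BR.perfect_of_simple hG
  have hsyl : Nat.card (Sylow p G) = n := by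
    rw [hn]
    exact Sylow.card_eq_index_normalizer P
  have hpd : p ∣ Nat.card G := ⟨m, h⟩
  have hfac := H17.two_mul_card_dvd_factorial_card_sylow (p := p) hG hpd
  obtain ⟨e, he⟩ : ∃ e, e = ind (P : Subgroup G) := ⟨_, rfl⟩
  rw [← he] at hA
  have hm0 : 0 < m := Nat.pos_of_ne_zero (by rintro rfl; exact hpm (dvd_zero p))
  have hm := hA.hm
  have hnm : n ∣ m := ⟨e * v, hm⟩
  have hn0 : 0 < n := Nat.pos_of_dvd_of_pos hnm hm0
  have hp2 := hp.out.two_le
  have hep : e ∣ p - 1 := hA.e_dvd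
  have he2 := hA.e_two
  have hmn : m / n = e * v := by rw [hm, Nat.mul_div_cancel_left _ hn0]
  unfold okAr
  rw [List.any_eq_true]
  refine ⟨n, List.mem_range.2 (Nat.lt_succ_of_le (Nat.le_of_dvd hm0 hnm)), ?_⟩
  rw [Bool.and_eq_true, Bool.and_eq_true, Bool.and_eq_true, Bool.and_eq_true, Bool.and_eq_true, Bool.and_eq_true]
  refine ⟨⟨⟨⟨⟨⟨?_, ?_⟩, ?_⟩, ?_⟩, ?_⟩, ?_⟩, ?_⟩
  · rw [beq_iff_eq]
    exact Nat.mod_eq_zero_of_dvd hnm
  · rw [beq_iff_eq]
    exact hA.n_mod
  · simpa using hA.n_ne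
  · rw [Bool.or_eq_true]
    right
    rw [beq_iff_eq, ← hsyl]
    exact Nat.mod_eq_zero_of_dvd hfac
  · simp only [Bool.not_eq_true', Bool.and_eq_false_iff, beq_eq_false_iff_ne]
    by_cases h7 : p = 5
    · right
      subst h7
      rw [← hsyl]
      exact Cfsg.Agent.S1010.result
    · left
      exact h7
  · apply thirdB_of
    by_contra hT
    apply hcon
    have hmod := hA.n_mod
    have hdec : n = 1 + (n - 1) / p * p := by
      have h1 : n = p * (n / p) + 1 := by
        have := Nat.div_add_mod n p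
        rw [hmod] at this
        exact this.symm
      have h2 : (n - 1) / p = n / p := by
        have h3 : n - 1 = p * (n / p) := by omega
        rw [h3, Nat.mul_div_cancel_left _ hp.out.pos]
      rw [h2]
      conv_lhs => rw [h1]
      ring
    refine Cfsg.Agent.BR.core_concl (n := (n - 1) / p) hperf hSp (by rw [← hn, ← hdec]) hT ?_
    have hN : (pPrimeCore p G).Normal := inferInstance
    rcases hN.eq_bot_or_eq_top with h | h'
    · exact h
    · exfalso
      have h1 := Solv.pPrimeCore_card_coprime (G := G) p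
      rw [h', Subgroup.card_top] at h1
      have h2 := Nat.Coprime.eq_one_of_dvd h1.symm hpd
      omega
  · rw [List.any_eq_true]
    have hele := Nat.le_of_dvd (by omega) hep
    refine ⟨e, List.mem_range.2 (by omega), ?_⟩
    rw [Bool.and_eq_true, Bool.and_eq_true, Bool.and_eq_true, Bool.and_eq_true]
    refine ⟨⟨⟨⟨?_, ?_⟩, ?_⟩, ?_⟩, ?_⟩
    · rw [decide_eq_true_eq]
      omega
    · rw [beq_iff_eq]
      exact Nat.mod_eq_zero_of_dvd hep
    · rw [beq_iff_eq, hmn]
      exact Nat.mul_mod_right e v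
    · cases hb : one with
      | false => rfl
      | true =>
        have h1 := v_eq_one h hpm hnp (hone hb) P hCc
        rw [hmn, h1, mul_one, Nat.div_self (by omega)]
        rfl
    · rw [Bool.or_eq_true]
      by_cases h7 : e = 2
      · right
        exact t2_of hp2 (hA.two h7) hn0
      · left
        simpa using h7

theorem kill_false (hG : ¬ IsMulCommutative G) {p k m : ℕ} [hp : Fact p.Prime] (h : Nat.card G = p ^ k * m)
    (hpm : ¬ p ∣ m) (hnp : ¬ (Nat.card G).Prime) (one : Bool)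
    (hone : one = true → (Nat.card G).primeFactors.card = 3) (hcon : ¬ Concl p G) :
    kill (Nat.card G) p k one = false := by
  unfold kill
  have hdiv : Nat.card G / p ^ k = m := by
    rw [h, Nat.mul_div_cancel_left _ (pow_pos hp.out.pos k)]
  by_cases hk : k = 0
  · simp [hk]
  · rw [Bool.and_eq_false_iff]
    right
    rw [Bool.or_eq_false_iff]
    constructor
    · rw [hdiv, okSyl_of hG h hpm hk]
      rfl
    · by_cases hk1 : k = 1
      · subst hk1
        rw [pow_one] at h hdiv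
        rw [hdiv, okAr_of hG h hpm hnp one hone hcon]
        rfl
      · rw [Bool.and_eq_false_iff]
        left
        simpa using hk1

end

end Cfsg.Agent.H74.SvB
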