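import Mathlib
import Cfsg.Agent.H74.SieveC
import Cfsg.Agent.H74.Ord5040
import Cfsg.Agent.S0985

/-!
# Individual orders between 3640 and 6233
-/

set_option autoImplicit false

namespace Cfsg.Agent.H74.SvB

open Cfsg Subgroup
open Cfsg.Agent.BR
open Cfsg.Agent.H37.Ord (Arith arith arith_one)
open Cfsg.Agent.CharBase (oneIrr)
open Cfsg.Agent.H74.CInv (two_chars exists_inv big_X big_Y sq_le dg_oneIrr)

universe u

section

variable {G : Type u} [Group G] [Finite G]

/-- if `q` divides `|C(P)|` then `p` divides `|C(Q)|`. -/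
theorem dvd_symm {p q : ℕ} [hp : Fact p.Prime] [hq : Fact q.Prime] {P Q : Subgroup G} (hP : Sp p P) (hQ : Sp q Q)
    (h : q ∣ Nat.card (centralizer (P : Set G))) : p ∣ Nat.card (centralizer (Q : Set G)) := by
  obtain ⟨z, hz⟩ := exists_prime_orderOf_dvd_card' (G := centralizer (P : Set G)) q h
  have hzo : orderOf (z : G) = q := by rw [Subgroup.orderOf_coe]; exact hz
  obtain ⟨x, hx⟩ := hQ.exists_conj hzo
  have hx1 : x⁻¹ * z * x ≠ 1 := by
    intro h
    have : (z : G) = 1 := by
      calc (z : G) = x * (x⁻¹ * z * x) * x⁻¹ := by group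
        _ = 1 := by rw [h]; group
    rw [this, orderOf_one] at hzo
    exact hq.out.one_lt.ne hzo
  have hC1 := hQ.centralizer_eq hx hx1
  obtain ⟨s, hs, hs1⟩ := exists_ne_one hP
  have hso := hP.orderOf_eq hs hs1
  have hsz : (z : G) * s = s * z := (mem_centralizer_iff.1 z.2 s hs).symm
  have hmem : x⁻¹ * s * x ∈ centralizer (Q : Set G) := by
    rw [← hC1, mem_centralizer_singleton_iff]
    calc x⁻¹ * s * x * (x⁻¹ * z * x) = x⁻¹ * (s * z) * x := by group
      _ = x⁻¹ * (z * s) * x := by rw [hsz]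
      _ = x⁻¹ * z * x * (x⁻¹ * s * x) := by group
  have ho : orderOf (x⁻¹ * s * x) = p := by
    rw [← hso]
    have := (MulAut.conj x⁻¹).orderOf_eq s
    rw [MulAut.conj_apply, inv_inv] at this
    exact this
  have := orderOf_dvd_natCard (⟨_, hmem⟩ : centralizer (Q : Set G))
  rwa [← Subgroup.orderOf_coe, ho] at this

variable [IsSimpleGroup G]

/-- the arithmetic with the Brauer–Reynolds condition. -/
theorem full {p m : ℕ} [hp : Fact p.Prime] (hG : ¬ IsMulCommutative G) (h : Nat.card G = p * m) (hpm : ¬ p ∣ m)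
    (hnp : ¬ (Nat.card G).Prime) (hbig : 3640 < Nat.card G) (hne : Nat.card G ≠ 4080) (hp19 : p < 19)
    (P : Sylow p G) : Sp p (P : Subgroup G) ∧ ∃ n v : ℕ, n = (normalizer ((P : Subgroup G) : Set G)).index ∧
      Nat.card (centralizer ((P : Subgroup G) : Set G)) = p * v ∧ Arith p m n (ind (P : Subgroup G)) v ∧
      n ∈ Nat.divisors m ∧ 2 * Nat.card G ∣ n.factorial ∧ thirdB p ((n - 1) / p) = true ∧ (p = 5 → n ≠ 21) := by
  obtain ⟨hSp, n, v, hn, hCc, hA⟩ := arith (G := G) h hpm hnp P
  have hperf := perfect_of_simple hG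
  have hsyl : Nat.card (Sylow p G) = n := by
    rw [hn]
    exact Sylow.card_eq_index_normalizer P
  have hpd : p ∣ Nat.card G := ⟨m, h⟩
  have hm0 : m ≠ 0 := by rintro rfl; exact hpm (dvd_zero p)
  refine ⟨hSp, n, v, hn, hCc, hA, Nat.mem_divisors.2 ⟨⟨_, hA.hm⟩, hm0⟩, ?_, ?_, ?_⟩
  · rw [← hsyl]
    exact H17.two_mul_card_dvd_factorial_card_sylow (p := p) hG hpd
  · apply thirdB_of
    by_contra hT
    have hmod := hA.n_mod
    have hdec : n = 1 + (n - 1) / p * p := by
      have h1 : n = p * (n / p) + 1 := by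
        have := Nat.div_add_mod n p
        rw [hmod] at this
        exact this.symm
      have h2 : (n - 1) / p = n / p := by
        have h3 : n - 1 = p * (n / p) := by omega
        rw [h3, Nat.mul_div_cancel_left _ hp.out.pos]
      rw [h2]
      conv_lhs => rw [h1]
      ring
    have hc : Concl p G := by
      refine core_concl (n := (n - 1) / p) hperf hSp (by rw [← hn, ← hdec]) hT ?_
      have hN : (pPrimeCore p G).Normal := inferInstance
      rcases hN.eq_bot_or_eq_top with h | h'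
      · exact h
      · exfalso
        have h1 := Solv.pPrimeCore_card_coprime (G := G) p
        rw [h', Subgroup.card_top] at h1
        have h2 := Nat.Coprime.eq_one_of_dvd h1.symm hpd
        exact hp.out.one_lt.ne' h2
    rcases card_of_concl hp.out hc with h3 | ⟨m, hm, h3⟩
    · have h5 : p ≠ 18 := by rintro rfl; exact absurd hp.out (by norm_num)
      have h6 : p * ((p - 1) * (p + 1)) ≤ 17 * (16 * 18) := by
        gcongr <;> omega
      omega
    · rcases pow_cases m with h4 | h4 | h4 | h4 | h4 | h4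
      · subst h4; omega
      · subst h4; omega
      · subst h4; omega
      · subst h4; omega
      · subst h4; omega
      · omega
  · intro h5
    subst h5
    rw [← hsyl]
    exact Cfsg.Agent.S1010.result

theorem n3780 (hG : ¬ IsMulCommutative G) : Nat.card G ≠ 3780 := by
  intro h
  have hp5 : Fact (Nat.Prime 5) := ⟨by norm_num⟩
  have hp7 : Fact (Nat.Prime 7) := ⟨by norm_num⟩
  obtain ⟨S⟩ : Nonempty (Sylow 5 G) := inferInstance
  obtain ⟨T⟩ : Nonempty (Sylow 7 G) := inferInstance
  obtain ⟨hS, n, v, hn, hC, hA, hnm, hf, hT, h21⟩ := full (p := 5) (m := 756) hG h (by norm_num)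
    (by rw [h]; norm_num) (by omega) (by omega) (by norm_num) S
  obtain ⟨hT', n', v', hn', hC', hA', hnm', hf', hT7, -⟩ := full (p := 7) (m := 540) hG h (by norm_num)
    (by rw [h]; norm_num) (by omega) (by omega) (by norm_num) T
  have k1 : ∀ n ∈ Nat.divisors 756, n % 5 = 1 → n ≠ 1 → n ≠ 21 → n = 6 ∨ n = 36 ∨ n = 126 ∨ n = 756 := by
    decide +kernel
  have k2 : ∀ n ∈ Nat.divisors 540, n % 7 = 1 → n ≠ 1 → thirdB 7 ((n - 1) / 7) = true → n = 36 ∨ n = 540 := by
    decide +kernel
  have e1 := k1 n hnm hA.n_mod hA.n_ne (h21 rfl)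
  have e2 := k2 n' hnm' hA'.n_mod hA'.n_ne hT7
  have hm := hA.hm
  have hm' := hA'.hm
  have he := hA.e_two
  have he' := hA'.e_two
  have hd := hA.e_dvd
  have hd' := hA'.e_dvd
  rw [h] at hf
  have h5 : 5 ∣ v' := by
    generalize ind (T : Subgroup G) = e' at hm' he' hd'
    have : e' ≤ 6 := Nat.le_of_dvd (by norm_num) hd'
    rcases e2 with e2 | e2
    · rw [e2] at hm'
      interval_cases e' <;> omega
    · rw [e2] at hm'
      interval_cases e' <;> omega
  have h7 : ¬ 7 ∣ v := by
    generalize ind (S : Subgroup G) = e at hm he hd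
    have : e ≤ 4 := Nat.le_of_dvd (by norm_num) hd
    rcases e1 with e1 | e1 | e1 | e1
    · exfalso
      rw [e1] at hf
      revert hf
      decide
    · rw [e1] at hm
      interval_cases e <;> omega
    · rw [e1] at hm
      interval_cases e <;> omega
    · rw [e1] at hm
      interval_cases e <;> omega
  have h8 := dvd_symm hT' hS (by rw [hC']; exact Dvd.dvd.mul_left h5 7)
  rw [hC] at h8
  omega

theorem deg_five [hp7 : Fact (Nat.Prime 7)] {P : Subgroup G} (hP : Sp 7 P) (B : Data 7 P)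
    (h : ∀ χ, (χ ∈ B.X ∨ χ ∈ B.Y) → χ ≠ oneIrr G → 5 ∣ dg χ) : False := by
  classical
  obtain ⟨ψ, hψ⟩ := B.Y_nonempty (by norm_num)
  have h2 := B.degEq hψ
  rw [← Finset.add_sum_erase _ _ B.one_mem, B.δ_one hP, dg_oneIrr] at h2
  have h3 : (5 : ℤ) ∣ ∑ χ ∈ B.X.erase (oneIrr G), B.δ χ * (dg χ : ℤ) := by
    apply Finset.dvd_sum
    intro χ hχ
    have h4 := h χ (Or.inl (Finset.mem_of_mem_erase hχ)) (Finset.ne_of_mem_erase hχ)
    exact Dvd.dvd.mul_left (by exact_mod_cast h4) _
  have h4 : (5 : ℤ) ∣ B.δ₀ * (dg ψ : ℤ) := by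
    have h4 := h ψ (Or.inr hψ) (by
      rintro rfl
      exact (Finset.disjoint_left.1 B.disj) B.one_mem hψ)
    exact Dvd.dvd.mul_left (by exact_mod_cast h4) _
  push_cast at h2
  omega

theorem n4200 (hG : ¬ IsMulCommutative G) : Nat.card G ≠ 4200 := by
  classical
  intro h
  have hp7 : Fact (Nat.Prime 7) := ⟨by norm_num⟩
  obtain ⟨T⟩ : Nonempty (Sylow 7 G) := inferInstance
  obtain ⟨hT', n', v', hn', hC', hA', hnm', hf', hT7, -⟩ := full (p := 7) (m := 600) hG h (by norm_num)
    (by rw [h]; norm_num) (by omega) (by omega) (by norm_num) T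
  have k2 : ∀ n ∈ Nat.divisors 600, n % 7 = 1 → n ≠ 1 → thirdB 7 ((n - 1) / 7) = true → n = 50 ∨ n = 120 := by
    decide +kernel
  have e2 := k2 n' hnm' hA'.n_mod hA'.n_ne hT7
  have hm' := hA'.hm
  have he' := hA'.e_two
  have hd' := hA'.e_dvd
  obtain ⟨B⟩ := CycG.nonempty_data hT'
  have hperf := perfect_of_simple hG
  have hidx : (normalizer ((T : Subgroup G) : Set G)).index = n' := hn'.symm
  have hX : ∀ χ ∈ B.X, dg χ ∣ ind (T : Subgroup G) * n' := fun χ hχ => by
    rw [← hidx]; exact B.dvd_X hT' hχ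
  have hY : ∀ χ ∈ B.Y, dg χ ∣ ind (T : Subgroup G) * n' := fun χ hχ => by
    rw [← hidx]; exact B.dvd_Y hT' hχ
  have hv : 2 ∣ v' ∧ n' = 50 ∧ ind (T : Subgroup G) * n' ∣ 300 := by
    generalize ind (T : Subgroup G) = e' at hm' he' hd'
    have : e' ≤ 6 := Nat.le_of_dvd (by norm_num) hd'
    rcases e2 with e2 | e2
    · rw [e2] at hm' ⊢
      interval_cases e'
      · refine ⟨by omega, rfl, by norm_num⟩
      · refine ⟨by omega, rfl, by norm_num⟩
      · omega
      · omega
      · refine ⟨by omega, rfl, by norm_num⟩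
    · rw [e2] at hm'
      interval_cases e' <;> omega
  obtain ⟨w, hw, hw2⟩ := exists_inv (H := centralizer ((T : Subgroup G) : Set G)) (by
    rw [hC']
    exact Dvd.dvd.mul_left hv.1 7)
  have hd : ∀ d ∈ Nat.divisors 300, 14 ≤ d → 5 ∣ d := by decide +kernel
  apply deg_five hT' B
  intro χ hχ hχ1
  rcases hχ with h1 | h1
  · have h2 := big_X B hT' (by norm_num) hperf h1 hχ1 hw hw2
    exact hd _ (Nat.mem_divisors.2 ⟨(hX χ h1).trans hv.2.2, by norm_num⟩) (by omega)
  · have h2 := big_Y B hT' (by norm_num) hperf h1 hw hw2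
    exact hd _ (Nat.mem_divisors.2 ⟨(hY χ h1).trans hv.2.2, by norm_num⟩) (by omega)

theorem n4900 (hG : ¬ IsMulCommutative G) : Nat.card G ≠ 4900 := by
  intro h
  have : Fact (Nat.Prime 5) := ⟨by norm_num⟩
  have h1 := H17.card_sylow_mem (p := 5) (G := G) (k := 2) (m := 196) (by rw [h]; rfl) (by norm_num)
  rw [show (Nat.divisors 196).filter (· % 5 = 1) = {1, 196} by decide +kernel] at h1
  have h2 := H17.card_sylow_ne_one (p := 5) hG (by rw [h]; norm_num)
  simp only [Finset.mem_insert, Finset.mem_singleton] at h1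
  rcases h1 with h1 | h1
  · exact h2 h1
  · obtain ⟨P⟩ : Nonempty (Sylow 5 G) := inferInstance
    have h4 := H17.card_normalizer_mul P
    rw [h1, h] at h4
    have hP : Nat.card P = 5 ^ 2 := H17.card_sylow_eq P (k := 2) (m := 196) (by rw [h]; rfl) (by norm_num)
    have h5 : Nat.card (normalizer ((P : Subgroup G) : Set G)) = 25 := by omega
    have h6 : (P : Subgroup G) = normalizer ((P : Subgroup G) : Set G) := by
      apply Subgroup.eq_of_le_of_card_ge Subgroup.le_normalizer
      rw [h5]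
      have : Nat.card (P : Subgroup G) = 25 := hP
      rw [this]
    apply H17.not_normalizer_le_centralizer (p := 5) hG (by rw [h]; norm_num) P
    rw [← h6]
    have h7 : IsMulCommutative P := IsPGroup.isMulCommutative_of_card_eq_prime_sq hP
    exact Subgroup.le_centralizer P.1

theorem n5292 (hG : ¬ IsMulCommutative G) : Nat.card G ≠ 5292 := by
  intro h
  have : Fact (Nat.Prime 7) := ⟨by norm_num⟩
  have h1 := H17.card_sylow_mem (p := 7) (G := G) (k := 2) (m := 108) (by rw [h]; rfl) (by norm_num)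
  rw [show (Nat.divisors 108).filter (· % 7 = 1) = {1, 36} by decide +kernel] at h1
  have h2 := H17.card_sylow_ne_one (p := 7) hG (by rw [h]; norm_num)
  have h4 : Nat.card (Sylow 7 G) = 36 := by
    simp only [Finset.mem_insert, Finset.mem_singleton] at h1
    exact h1.resolve_left h2
  obtain ⟨P, D, hDc, hDP, hPC, hNt, hN1, hN2, hN3⟩ := H17.exists_subgroup_of_sq (p := 7) (G := G) (m := 108)
    (by rw [h]; rfl) (by norm_num) (by rw [h4]; decide)
  have h5 := H17.two_mul_card_dvd_factorial hG _ hNt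
  rw [h] at h5
  have h6 : 8 ≤ Nat.card (Sylow 7 (Subgroup.normalizer (D : Set G))) := by omega
  have h7 : (Subgroup.normalizer (D : Set G)).index ≤ 13 := by
    have := Nat.le_of_dvd (by norm_num) hN3
    nlinarith
  have h8 : 0 < (Subgroup.normalizer (D : Set G)).index := Nat.pos_of_ne_zero Subgroup.FiniteIndex.index_ne_zero
  revert h5
  generalize (Subgroup.normalizer (D : Set G)).index = i at *
  interval_cases i <;> decide

/-- `|G| = p^3 m` with `n_p ≢ 1 mod p^2`. -/
theorem cube {p m : ℕ} [hp : Fact p.Prime] (hG : ¬ IsMulCommutative G) (h : Nat.card G = p ^ 3 * m) (hm : ¬ p ∣ m)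
    (hn : ¬ Nat.card (Sylow p G) ≡ 1 [MOD p ^ 2]) : ∃ i s : ℕ, s * i ∣ m ∧ 1 < s ∧ s % p = 1 ∧
      2 * Nat.card G ∣ i.factorial := by
  obtain ⟨P, R, hPR, hle⟩ := Cfsg.Agent.S0985.result (G := G) p 2 hn
  have hPc : Nat.card P = p ^ 3 := H17.card_sylow_eq P (k := 3) (m := m) h hm
  have hRc : Nat.card R = p ^ 3 := H17.card_sylow_eq R (k := 3) (m := m) h hm
  have hPc' : Nat.card (P : Subgroup G) = p ^ 3 := hPc
  have hRc' : Nat.card (R : Subgroup G) = p ^ 3 := hRc
  have hne : (R : Subgroup G).relIndex (P : Subgroup G) ≠ 1 := by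
    intro h1
    rw [Subgroup.relIndex_eq_one] at h1
    apply hPR
    apply Sylow.ext
    apply Subgroup.eq_of_le_of_card_ge h1
    rw [hPc', hRc']
  have hle' : (R : Subgroup G).relIndex (P : Subgroup G) ≤ p := by
    have h1 : (R : Subgroup G).relIndex (P : Subgroup G) ≤ p ^ (2 - 1) := hle
    rwa [show 2 - 1 = 1 from rfl, pow_one] at h1
  have hmul : Nat.card ((P : Subgroup G) ⊓ (R : Subgroup G) : Subgroup G) * (R : Subgroup G).relIndex (P : Subgroup G) = p ^ 3 := by
    have h1 := Subgroup.card_mul_index ((R : Subgroup G).subgroupOf (P : Subgroup G))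
    rw [hPc'] at h1
    rw [← h1]
    have h2 : Nat.card ((R : Subgroup G).subgroupOf (P : Subgroup G)) =
        Nat.card ((P : Subgroup G) ⊓ (R : Subgroup G) : Subgroup G) := by
      have h3 : ((P : Subgroup G) ⊓ (R : Subgroup G)).subgroupOf (P : Subgroup G) =
          (R : Subgroup G).subgroupOf (P : Subgroup G) := Subgroup.inf_subgroupOf_left _ _
      rw [← h3]
      exact Nat.card_congr (Subgroup.subgroupOfEquivOfLe inf_le_left).toEquiv
    rw [h2]
    rfl
  have hri : (R : Subgroup G).relIndex (P : Subgroup G) = p := by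
    have h1 : (R : Subgroup G).relIndex (P : Subgroup G) ∣ p ^ 3 := ⟨_, by rw [← hmul]; ring⟩
    obtain ⟨k, hk, hk2⟩ := (Nat.dvd_prime_pow hp.out).1 h1
    have hk1 : k = 1 := by
      rcases Nat.lt_trichotomy k 1 with h2 | h2 | h2
      · exfalso
        apply hne
        rw [hk2, show k = 0 by omega, pow_zero]
      · exact h2
      · exfalso
        have h3 : p ^ 2 ≤ p ^ k := Nat.pow_le_pow_right hp.out.pos h2
        have h4 := hp.out.two_le
        rw [hk2] at hle'
        nlinarith
    rw [hk2, hk1, pow_one]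
  have hDc : Nat.card ((P : Subgroup G) ⊓ (R : Subgroup G) : Subgroup G) = p ^ 2 := by
    rw [hri] at hmul
    have : Nat.card ((P : Subgroup G) ⊓ (R : Subgroup G) : Subgroup G) * p = p ^ 2 * p := by rw [hmul]; ring
    exact Nat.eq_of_mul_eq_mul_right hp.out.pos this
  have hnorm : ∀ T : Sylow p G, Nat.card (T : Subgroup G) = p ^ 3 →
      (P : Subgroup G) ⊓ (R : Subgroup G) ≤ (T : Subgroup G) →
      (T : Subgroup G) ≤ normalizer (((P : Subgroup G) ⊓ (R : Subgroup G) : Subgroup G) : Set G) := by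
    intro T hT hle
    rw [← Subgroup.normal_subgroupOf_iff_le_normalizer hle]
    apply Subgroup.normal_of_index_eq_minFac_card
    have h1 := Subgroup.card_mul_index (((P : Subgroup G) ⊓ (R : Subgroup G)).subgroupOf (T : Subgroup G))
    rw [Nat.card_congr (Subgroup.subgroupOfEquivOfLe hle).toEquiv, hDc, hT] at h1
    rw [hT, Nat.pow_minFac (by norm_num), hp.out.minFac_eq]
    have h2 : p ^ 2 * (((P : Subgroup G) ⊓ (R : Subgroup G)).subgroupOf (T : Subgroup G)).index = p ^ 2 * p := by
      rw [h1]; ring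
    exact Nat.eq_of_mul_eq_mul_left (pow_pos hp.out.pos 2) h2
  have hPN := hnorm P hPc' inf_le_left
  have hRN := hnorm R hRc' inf_le_right
  have hDb : (P : Subgroup G) ⊓ (R : Subgroup G) ≠ ⊥ := by
    intro h1
    rw [h1, Subgroup.card_bot] at hDc
    have := hp.out.one_lt
    nlinarith [pow_pos hp.out.pos 2]
  have hNt := H17.exists_subgroup_of_inter hPR hDb hPN hRN
  have h5 := H17.two_mul_card_dvd_factorial hG _ hNt
  have h6 := H17.one_lt_card_sylow_of_two hPR hPN hRN
  have h7 := H17.card_sylow_mul_index_dvd P hPN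
  have h8 : (P : Subgroup G).index = m := H17.card_sylow_mul P h hm
  rw [h8] at h7
  exact ⟨_, _, h7, h6, H17.card_sylow_mod, h5⟩

theorem n4500 (hG : ¬ IsMulCommutative G) : Nat.card G ≠ 4500 := by
  intro h
  have : Fact (Nat.Prime 5) := ⟨by norm_num⟩
  have h1 := H17.card_sylow_mem (p := 5) (G := G) (k := 3) (m := 36) (by rw [h]; rfl) (by norm_num)
  rw [show (Nat.divisors 36).filter (· % 5 = 1) = {1, 6, 36} by decide +kernel] at h1
  have h2 := H17.card_sylow_ne_one (p := 5) hG (by rw [h]; norm_num)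
  have h3 := H17.two_mul_card_dvd_factorial_card_sylow (p := 5) hG (by rw [h]; norm_num)
  have h4 : ¬ Nat.card (Sylow 5 G) ≡ 1 [MOD 5 ^ 2] := by
    simp only [Finset.mem_insert, Finset.mem_singleton] at h1
    rcases h1 with h1 | h1 | h1
    · exact absurd h1 h2
    · rw [h1]; decide
    · rw [h1]; decide
  obtain ⟨i, s, hi, hs1, hs2, hf⟩ := cube (p := 5) (m := 36) hG (by rw [h]; rfl) (by norm_num) h4
  have h6 : 6 ≤ s := by omega
  have h7 : i ≤ 6 := by
    have := Nat.le_of_dvd (by norm_num) hi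
    nlinarith
  rw [h] at hf
  revert hf
  interval_cases i <;> decide

theorem n6000 (hG : ¬ IsMulCommutative G) : Nat.card G ≠ 6000 := by
  intro h
  have : Fact (Nat.Prime 5) := ⟨by norm_num⟩
  have h1 := H17.card_sylow_mem (p := 5) (G := G) (k := 3) (m := 48) (by rw [h]; rfl) (by norm_num)
  rw [show (Nat.divisors 48).filter (· % 5 = 1) = {1, 6, 16} by decide +kernel] at h1
  have h2 := H17.card_sylow_ne_one (p := 5) hG (by rw [h]; norm_num)
  have h4 : ¬ Nat.card (Sylow 5 G) ≡ 1 [MOD 5 ^ 2] := by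
    simp only [Finset.mem_insert, Finset.mem_singleton] at h1
    rcases h1 with h1 | h1 | h1
    · exact absurd h1 h2
    · rw [h1]; decide
    · rw [h1]; decide
  obtain ⟨i, s, hi, hs1, hs2, hf⟩ := cube (p := 5) (m := 48) hG (by rw [h]; rfl) (by norm_num) h4
  have h6 : 6 ≤ s := by omega
  have h7 : i ≤ 8 := by
    have := Nat.le_of_dvd (by norm_num) hi
    nlinarith
  rw [h] at hf
  revert hf
  interval_cases i <;> decide

end

end Cfsg.Agent.H74.SvB
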