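import Mathlib
import Cfsg.Agent.H74.OrdersB

/-!
# Orders 4620 and 5460
-/

set_option autoImplicit false

namespace Cfsg.Agent.H74.SvB

open Cfsg Subgroup
open Cfsg.Agent.BR
open Cfsg.Agent.H37.Ord (Arith arith arith_one)
open Cfsg.Agent.CharBase (oneIrr)
open Cfsg.Agent.H74.CInv (two_chars exists_inv big_X big_Y sq_le dg_oneIrr)

universe u

section

variable {G : Type u} [Group G] [Finite G] {p : ℕ} [hp : Fact p.Prime] {P : Subgroup G}

theorem out_dvd (B : Data p P) (hP : Sp p P) (hC : centralizer (P : Set G) = P) {χ : IrrCharacter G}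
    (h1 : χ ∉ B.X) (h2 : χ ∉ B.Y) : p ∣ dg χ := by
  classical
  have := Fintype.ofFinite P
  obtain ⟨m, hm⟩ := hP.exists_sum (CharBase.irr_isCharacter χ)
  rw [sum_P_split (fun x : P => (χ : G → ℂ) x), Finset.sum_eq_zero (s := (Finset.univ : Finset P).erase 1),
    add_zero, Subgroup.coe_one, dg_eq] at hm
  · exact ⟨m, by exact_mod_cast hm⟩
  · intro x hx
    exact B.out hC χ h1 h2 x x.2 (fun h => (Finset.mem_erase.mp hx).1 (Subtype.ext h))

theorem mod_cases (B : Data p P) (hP : Sp p P) (hC : centralizer (P : Set G) = P) (χ : IrrCharacter G) :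
    (p : ℤ) ∣ dg χ ∨ (p : ℤ) ∣ dg χ - 1 ∨ (p : ℤ) ∣ dg χ + 1 ∨ (p : ℤ) ∣ dg χ + ind P ∨ (p : ℤ) ∣ dg χ - ind P := by
  by_cases h1 : χ ∈ B.X
  · have h3 := B.congr_X hP h1
    rcases B.sgn χ h1 with h4 | h4
    · rw [h4] at h3
      exact Or.inr (Or.inl h3)
    · rw [h4] at h3
      right; right; left
      simpa using h3
  by_cases h2 : χ ∈ B.Y
  · have h3 := B.congr_Y hP h2
    rcases B.sgn₀ with h4 | h4
    · rw [h4, one_mul] at h3
      right; right; right; left
      exact h3
    · rw [h4, neg_one_mul, ← sub_eq_add_neg] at h3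
      right; right; right; right
      exact h3
  · left
    exact_mod_cast out_dvd B hP hC h1 h2

theorem le_cent (hP : Sp p P) : P ≤ centralizer (P : Set G) := by
  have h1 : IsCyclic P := isCyclic_of_prime_card hP.card
  have h2 : IsMulCommutative P := inferInstance
  exact Subgroup.le_centralizer P

/-- the principal block for inertial index three. -/
theorem three_chars (B : Data p P) (hP : Sp p P) (hp3 : 3 ≤ p) (he : ind P = 3) :
    ∃ χ1 χ2 ψ : IrrCharacter G, (χ1 ∈ B.X ∧ χ1 ≠ oneIrr G) ∧ (χ2 ∈ B.X ∧ χ2 ≠ oneIrr G) ∧ ψ ∈ B.Y ∧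
      1 + (B.δ χ1 * (dg χ1 : ℤ) + B.δ χ2 * (dg χ2 : ℤ) + B.δ₀ * (dg ψ : ℤ)) = 0 := by
  classical
  have hcX : (B.X.erase (oneIrr G)).card = 2 := by
    rw [Finset.card_erase_of_mem B.one_mem, B.cardX, he]
  obtain ⟨χ1, χ2, h12, hX⟩ := Finset.card_eq_two.1 hcX
  obtain ⟨ψ, hψ⟩ := B.Y_nonempty (by omega)
  have hm : ∀ χ ∈ B.X.erase (oneIrr G), χ ∈ B.X ∧ χ ≠ oneIrr G := fun χ hχ =>
    ⟨Finset.mem_of_mem_erase hχ, Finset.ne_of_mem_erase hχ⟩
  refine ⟨χ1, χ2, ψ, hm _ (by rw [hX]; simp), hm _ (by rw [hX]; simp), hψ, ?_⟩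
  have h2 := B.degEq hψ
  rw [← Finset.add_sum_erase _ _ B.one_mem, B.δ_one hP, hX, Finset.sum_insert (by simp [h12]),
    Finset.sum_singleton, dg_oneIrr] at h2
  push_cast at h2
  linarith

theorem cent_eq {v : ℕ} (hP : Sp p P) (h : Nat.card (centralizer (P : Set G)) = p * v) (hv : v = 1) :
    centralizer (P : Set G) = P := by
  symm
  apply Subgroup.eq_of_le_of_card_ge (le_cent hP)
  rw [h, hv, hP.card, mul_one]

end

variable {G : Type u} [Group G] [Finite G] [IsSimpleGroup G]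

theorem n4620 (hG : ¬ IsMulCommutative G) : Nat.card G ≠ 4620 := by
  classical
  intro h
  have hp11 : Fact (Nat.Prime 11) := ⟨by norm_num⟩
  have hp7 : Fact (Nat.Prime 7) := ⟨by norm_num⟩
  obtain ⟨S⟩ : Nonempty (Sylow 11 G) := inferInstance
  obtain ⟨T⟩ : Nonempty (Sylow 7 G) := inferInstance
  obtain ⟨hS, n, v, hn, hC, hA, hnm, hf, hT, -⟩ := full (p := 11) (m := 420) hG h (by norm_num)
    (by rw [h]; norm_num) (by omega) (by omega) (by norm_num) S
  obtain ⟨hT', n', v', hn', hC', hA', hnm', hf', hT7, -⟩ := full (p := 7) (m := 660) hG h (by norm_num)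
    (by rw [h]; norm_num) (by omega) (by omega) (by norm_num) T
  have k1 : ∀ n ∈ Nat.divisors 420, n % 11 = 1 → n ≠ 1 → thirdB 11 ((n - 1) / 11) = true → n = 210 := by
    decide +kernel
  have k2 : ∀ n ∈ Nat.divisors 660, n % 7 = 1 → n ≠ 1 → thirdB 7 ((n - 1) / 7) = true → n = 330 := by
    decide +kernel
  have e1 := k1 n hnm hA.n_mod hA.n_ne hT
  have e2 := k2 n' hnm' hA'.n_mod hA'.n_ne hT7
  have hm := hA.hm
  have hm' := hA'.hm
  have he := hA.e_two
  have he' := hA'.e_two
  obtain ⟨B⟩ := CycG.nonempty_data hS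
  obtain ⟨B'⟩ := CycG.nonempty_data hT'
  have hv : v = 1 ∧ ind (S : Subgroup G) = 2 := by
    generalize ind (S : Subgroup G) = e at hm he
    rw [e1] at hm
    have h1 : e * v = 2 := by omega
    have h2 : e ∣ 2 := ⟨v, h1.symm⟩
    have h3 := Nat.le_of_dvd (by norm_num) h2
    have h4 : e = 2 := by omega
    subst h4
    omega
  have hv' : ind (T : Subgroup G) = 2 := by
    generalize ind (T : Subgroup G) = e at hm' he'
    rw [e2] at hm'
    have h1 : e * v' = 2 := by omega
    have h2 : e ∣ 2 := ⟨v', h1.symm⟩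
    have h3 := Nat.le_of_dvd (by norm_num) h2
    omega
  obtain ⟨χ, ψ, hχ, hχ1, hψ, hsum⟩ := two_chars B' hT' (by norm_num) hv'
  have k2 := B'.dvd_X hT' hχ
  have k3 := B'.dvd_Y hT' hψ
  have k4 := B'.congr_X hT' hχ
  have k5 := sq_le χ
  rw [h] at k5
  rw [← hn', hv', e2] at k2 k3
  have hχ1' : dg χ ≠ 1 := fun h => hχ1 (eq_one_of_perfect (perfect_of_simple hG) h)
  have hd : ∀ d ∈ Nat.divisors 660, d ≠ 1 → d * d ≤ 4620 →
      (d % 7 = 1 → (d + 1) ∉ Nat.divisors 660) ∧
      (d % 7 = 6 → (d - 1) ∈ Nat.divisors 660 → d = 6) := by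
    decide +kernel
  have hd1 := hd _ (Nat.mem_divisors.2 ⟨k2, by norm_num⟩) hχ1' k5
  have hψ5 : dg ψ = 5 := by
    rcases B'.sgn χ hχ with h5 | h5
    · rw [h5] at hsum k4
      rcases B'.sgn₀ with h6 | h6
      · rw [h6] at hsum
        omega
      · rw [h6] at hsum
        have h7 : dg ψ = dg χ + 1 := by omega
        exfalso
        apply hd1.1 (by omega)
        rw [← h7]
        exact Nat.mem_divisors.2 ⟨k3, by norm_num⟩
    · rw [h5] at hsum k4
      rcases B'.sgn₀ with h6 | h6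
      · rw [h6] at hsum
        have h7 : dg ψ = dg χ - 1 := by omega
        have h8 := hd1.2 (by omega) (by
          rw [← h7]
          exact Nat.mem_divisors.2 ⟨k3, by norm_num⟩)
        omega
      · rw [h6] at hsum
        have := dg_pos χ
        have := dg_pos ψ
        omega
  have hmc := mod_cases B hS (cent_eq hS hC hv.1) ψ
  rw [hψ5, hv.2] at hmc
  norm_num at hmc

theorem n5460 (hG : ¬ IsMulCommutative G) : Nat.card G ≠ 5460 := by
  classical
  intro h
  have hp13 : Fact (Nat.Prime 13) := ⟨by norm_num⟩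
  have hp7 : Fact (Nat.Prime 7) := ⟨by norm_num⟩
  have hp5 : Fact (Nat.Prime 5) := ⟨by norm_num⟩
  obtain ⟨S⟩ : Nonempty (Sylow 13 G) := inferInstance
  obtain ⟨T⟩ : Nonempty (Sylow 7 G) := inferInstance
  obtain ⟨U⟩ : Nonempty (Sylow 5 G) := inferInstance
  obtain ⟨hS, n, v, hn, hC, hA, hnm, hf, hT, -⟩ := full (p := 13) (m := 420) hG h (by norm_num)
    (by rw [h]; norm_num) (by omega) (by omega) (by norm_num) S
  obtain ⟨hT', n', v', hn', hC', hA', hnm', hf', hT7, -⟩ := full (p := 7) (m := 780) hG h (by norm_num)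
    (by rw [h]; norm_num) (by omega) (by omega) (by norm_num) T
  obtain ⟨hU, n5, v5, hn5, hC5, hA5, hnm5, hf5, hT5, h21⟩ := full (p := 5) (m := 1092) hG h (by norm_num)
    (by rw [h]; norm_num) (by omega) (by omega) (by norm_num) U
  have k1 : ∀ n ∈ Nat.divisors 420, n % 13 = 1 → n ≠ 1 → thirdB 13 ((n - 1) / 13) = true → n = 105 := by
    decide +kernel
  have k2 : ∀ n ∈ Nat.divisors 780, n % 7 = 1 → n ≠ 1 → thirdB 7 ((n - 1) / 7) = true → n = 78 ∨ n = 260 := by
    decide +kernel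
  have k3 : ∀ n ∈ Nat.divisors 1092, n % 5 = 1 → n ≠ 1 → n ≠ 21 → thirdB 5 ((n - 1) / 5) = true →
      n = 6 ∨ n = 91 ∨ n = 156 ∨ n = 546 := by
    decide +kernel
  have e1 := k1 n hnm hA.n_mod hA.n_ne hT
  have e2 := k2 n' hnm' hA'.n_mod hA'.n_ne hT7
  have e3 := k3 n5 hnm5 hA5.n_mod hA5.n_ne (h21 rfl) hT5
  have hm := hA.hm
  have hm' := hA'.hm
  have hm5 := hA5.hm
  have he := hA.e_two
  have he' := hA'.e_two
  have he5 := hA5.e_two
  have hd := hA.e_dvd
  have hd' := hA'.e_dvd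
  have hd5 := hA5.e_dvd
  obtain ⟨B⟩ := CycG.nonempty_data hS
  obtain ⟨B'⟩ := CycG.nonempty_data hT'
  have hperf := perfect_of_simple hG
  rw [h] at hf5
  rcases e2 with e2 | e2
  · have h5 : 5 ∣ v' := by
      generalize ind (T : Subgroup G) = e' at hm' he' hd'
      have : e' ≤ 6 := Nat.le_of_dvd (by norm_num) hd'
      rw [e2] at hm'
      interval_cases e' <;> omega
    have h7 : ¬ 7 ∣ v5 := by
      generalize ind (U : Subgroup G) = e at hm5 he5 hd5
      have : e ≤ 4 := Nat.le_of_dvd (by norm_num) hd5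
      rcases e3 with e3 | e3 | e3 | e3
      · exfalso
        rw [e3] at hf5
        revert hf5
        decide
      · rw [e3] at hm5
        interval_cases e <;> omega
      · rw [e3] at hm5
        interval_cases e <;> omega
      · rw [e3] at hm5
        interval_cases e <;> omega
    have h8 := dvd_symm hT' hU (by rw [hC']; exact Dvd.dvd.mul_left h5 7)
    rw [hC5] at h8
    omega
  · have hv' : ind (T : Subgroup G) = 3 := by
      generalize ind (T : Subgroup G) = e' at hm' he' hd'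
      have : e' ≤ 6 := Nat.le_of_dvd (by norm_num) hd'
      rw [e2] at hm'
      interval_cases e' <;> omega
    have hv : (ind (S : Subgroup G) = 2 ∧ v = 2) ∨ (ind (S : Subgroup G) = 4 ∧ v = 1) := by
      generalize ind (S : Subgroup G) = e at hm he hd
      have : e ≤ 12 := Nat.le_of_dvd (by norm_num) hd
      rw [e1] at hm
      interval_cases e <;> omega
    rcases hv with ⟨hv, hv2⟩ | ⟨hv, hv2⟩
    · obtain ⟨w, hw, hw2⟩ := exists_inv (H := centralizer ((S : Subgroup G) : Set G)) (by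
        rw [hC, hv2]; norm_num)
      obtain ⟨χ, ψ, hχ, hχ1, hψ, hsum⟩ := two_chars B hS (by norm_num) hv
      have k1 := big_X B hS (by norm_num) hperf hχ hχ1 hw hw2
      have k1' := big_Y B hS (by norm_num) hperf hψ hw hw2
      have k2 := B.dvd_X hS hχ
      have k3 := B.dvd_Y hS hψ
      rw [← hn, hv, e1] at k2 k3
      have hd : ∀ d ∈ Nat.divisors (2 * 105), 26 ≤ d → (d + 1) ∉ Nat.divisors (2 * 105) := by
        decide +kernel
      rcases B.sgn χ hχ with h5 | h5
      · rw [h5] at hsum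
        rcases B.sgn₀ with h6 | h6
        · rw [h6] at hsum
          omega
        · rw [h6] at hsum
          have h7 : dg ψ = dg χ + 1 := by omega
          apply hd _ (Nat.mem_divisors.2 ⟨k2, by norm_num⟩) (by omega)
          rw [← h7]
          exact Nat.mem_divisors.2 ⟨k3, by norm_num⟩
      · rw [h5] at hsum
        rcases B.sgn₀ with h6 | h6
        · rw [h6] at hsum
          have h7 : dg χ = dg ψ + 1 := by omega
          apply hd _ (Nat.mem_divisors.2 ⟨k3, by norm_num⟩) (by omega)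
          rw [← h7]
          exact Nat.mem_divisors.2 ⟨k2, by norm_num⟩
        · rw [h6] at hsum
          omega
    · have hcent := cent_eq hS hC hv2
      obtain ⟨χ1, χ2, ψ, hχ1, hχ2, hψ, hsum⟩ := three_chars B' hT' (by norm_num) hv'
      have key : ∀ χ ∈ B'.X, χ ≠ oneIrr G → dg χ = 13 ∧ B'.δ χ = -1 := by
        intro χ hχ hχ1
        have k1 : dg χ ≠ 1 := fun h => hχ1 (eq_one_of_perfect hperf h)
        have k2 := B'.dvd_X hT' hχ
        have k4 := B'.congr_X hT' hχ
        have k5 := sq_le χ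
        have k6 := mod_cases B hS hcent χ
        rw [h] at k5
        rw [← hn', hv', e2] at k2
        rw [hv] at k6
        have hd : ∀ d ∈ Nat.divisors (3 * 260), d ≠ 1 → d * d ≤ 5460 →
            (d % 13 = 0 ∨ d % 13 = 1 ∨ d % 13 = 12 ∨ d % 13 = 9 ∨ d % 13 = 4) →
            (d % 7 = 1 ∨ d % 7 = 6) → d = 13 := by
          decide +kernel
        have k7 := hd _ (Nat.mem_divisors.2 ⟨k2, by norm_num⟩) k1 k5 (by omega) (by
          rcases B'.sgn χ hχ with h5 | h5 <;> rw [h5] at k4 <;> omega)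
        refine ⟨k7, ?_⟩
        rw [k7] at k4
        rcases B'.sgn χ hχ with h5 | h5
        · rw [h5] at k4
          norm_num at k4
        · exact h5
      have k1 := key _ hχ1.1 hχ1.2
      have k2 := key _ hχ2.1 hχ2.2
      rw [k1.1, k1.2, k2.1, k2.2] at hsum
      have k3 := B'.dvd_Y hT' hψ
      rw [← hn', hv', e2] at k3
      rcases B'.sgn₀ with h6 | h6
      · rw [h6] at hsum
        have : dg ψ = 25 := by omega
        rw [this] at k3
        norm_num at k3
      · rw [h6] at hsum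
        omega

end Cfsg.Agent.H74.SvB
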