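import Mathlib
import Cfsg.Agent.H74.OrdersB
import Cfsg.Agent.F5.Complete

/-!
# Order 5400
-/

set_option autoImplicit false

namespace Cfsg.Agent.H74.SvB

open Cfsg Subgroup MulAction

universe u

section

variable {G : Type u} [Group G] [Finite G]

/-- groups of order `2 m`, `m = 75` or `225`, have a normal Sylow 5-subgroup. -/
theorem one_of_two_mul [Fact (Nat.Prime 5)] {m : ℕ} (hm : m = 75 ∨ m = 225) (hG : Nat.card G = 2 * m) :
    Nat.card (Sylow 5 G) = 1 := by
  obtain ⟨K, hK, hKc, hKo⟩ := Cfsg.Agent.F5.exists_index_two (N := G) (m := m) (by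
    rcases hm with h | h <;> rw [h] <;> decide) hG
  have h5 : ∀ S : Sylow 5 G, (S : Subgroup G) ≤ K := by
    intro S x hx
    apply hKo
    obtain ⟨k, hk⟩ := (IsPGroup.iff_orderOf.1 S.2) ⟨x, hx⟩
    have h1 : orderOf x = 5 ^ k := by
      rw [← hk]
      exact (Subgroup.orderOf_mk x hx).symm
    rw [h1]
    exact Odd.pow (by decide)
  have hn : Nat.card (Sylow 5 K) = 1 := by
    rcases hm with h | h
    · have h1 := H17.card_sylow_mem (p := 5) (G := K) (k := 2) (m := 3) (by rw [hKc, h]; rfl) (by norm_num)
      rw [show (Nat.divisors 3).filter (· % 5 = 1) = {1} by decide +kernel] at h1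
      simpa using h1
    · have h1 := H17.card_sylow_mem (p := 5) (G := K) (k := 2) (m := 9) (by rw [hKc, h]; rfl) (by norm_num)
      rw [show (Nat.divisors 9).filter (· % 5 = 1) = {1} by decide +kernel] at h1
      simpa using h1
  have : Subsingleton (Sylow 5 G) := by
    constructor
    intro S T
    by_contra hST
    have := H17.one_lt_card_sylow_of_two hST (h5 S) (h5 T)
    omega
  exact Nat.card_unique

variable {p : ℕ} [hp : Fact p.Prime]

/-- number of Sylow subgroups containing `x`. -/
noncomputable def fs (p : ℕ) (x : G) : ℕ := Nat.card {R : Sylow p G // x ∈ (R : Subgroup G)}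

theorem fs_conj (x y : G) : fs p (y * x * y⁻¹) = fs p x := by
  unfold fs
  refine (Nat.card_congr ((MulAction.toPerm y : Equiv.Perm (Sylow p G)).subtypeEquiv ?_)).symm
  intro R
  rw [MulAction.toPerm_apply, Sylow.coe_subgroup_smul, ← MulAut.conj_apply]
  exact (Subgroup.smul_mem_pointwise_smul_iff (a := MulAut.conj y) (S := (R : Subgroup G)) (x := x)).symm

theorem fs_eq (hab : ∀ R : Sylow p G, IsMulCommutative (R : Subgroup G)) (P : Sylow p G) {x : G}
    (hx : x ∈ (P : Subgroup G)) : fs p x = Nat.card (Sylow p (centralizer ({x} : Set G))) := by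
  have hle : ∀ R : Sylow p G, x ∈ (R : Subgroup G) → (R : Subgroup G) ≤ centralizer ({x} : Set G) := by
    intro R hR y hy
    rw [mem_centralizer_singleton_iff]
    have := hab R
    exact congrArg Subtype.val (mul_comm' (⟨y, hy⟩ : (R : Subgroup G)) ⟨x, hR⟩)
  unfold fs
  refine Nat.card_congr (Equiv.ofBijective (fun R => R.1.subtype (hle R.1 R.2)) ⟨?_, ?_⟩)
  · intro R S h
    apply Subtype.ext
    exact Sylow.subtype_injective h
  · intro S
    obtain ⟨c, hc⟩ := exists_smul_eq (centralizer ({x} : Set G)) (P.subtype (hle P hx)) S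
    rw [Sylow.smul_subtype] at hc
    refine ⟨⟨(c : G) • P, ?_⟩, hc⟩
    rw [Sylow.coe_subgroup_smul]
    have h1 : x = MulAut.conj (c : G) • x := by
      rw [MulAut.smul_def, MulAut.conj_apply]
      have := mem_centralizer_singleton_iff.1 c.2
      rw [this]
      group
    have h2 := Subgroup.smul_mem_pointwise_smul x (MulAut.conj (c : G)) (P : Subgroup G) hx
    rwa [← h1] at h2

theorem card_cent (P : Sylow p G) {C : Subgroup G} (hC : (P : Subgroup G) ≤ C) :
    Nat.card (Sylow p C) * Nat.card (C ⊓ normalizer ((P : Subgroup G) : Set G) : Subgroup G) = Nat.card C := by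
  have h1 := H17.card_normalizer_mul (P.subtype hC)
  rw [← h1, mul_comm]
  congr 1
  have h2 : normalizer (((P.subtype hC : Sylow p C) : Subgroup C) : Set C) =
      (normalizer ((P : Subgroup G) : Set G)).subgroupOf C := (Subgroup.subgroupOf_normalizer_eq hC).symm
  rw [h2, ← Subgroup.inf_subgroupOf_left, Nat.card_congr (Subgroup.subgroupOfEquivOfLe inf_le_left).toEquiv]

end

variable {G : Type u} [Group G] [Finite G] [IsSimpleGroup G]

theorem n5400_aux (hG : ¬ IsMulCommutative G) (h : Nat.card G = 5400) [Fact (Nat.Prime 5)] (P : Sylow 5 G)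
    (hPc : Nat.card (P : Subgroup G) = 25)
    (hNc : Nat.card (normalizer ((P : Subgroup G) : Set G)) = 150)
    (hab : ∀ R : Sylow 5 G, IsMulCommutative (R : Subgroup G)) {x : G} (hx : x ∈ (P : Subgroup G)) (hx1 : x ≠ 1)
    (hf : fs 5 x ≠ 1) : fs 5 x = 6 ∧
      Nat.card (centralizer ({x} : Set G) ⊓ normalizer ((P : Subgroup G) : Set G) : Subgroup G) = 50 := by
  have hPC : (P : Subgroup G) ≤ centralizer ({x} : Set G) := by
    intro y hy
    rw [mem_centralizer_singleton_iff]
    have := hab P
    exact congrArg Subtype.val (mul_comm' (⟨y, hy⟩ : (P : Subgroup G)) ⟨x, hx⟩)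
  have hfe := fs_eq hab P hx
  have h1 := card_cent P hPC
  have h2 := H17.card_sylow_mul_index_dvd P hPC
  have h3 : (P : Subgroup G).index = 216 := H17.card_sylow_mul P (k := 2) (m := 216) (by rw [h]; rfl) (by norm_num)
  rw [h3] at h2
  have h4 := H17.card_sylow_mod (p := 5) (G := centralizer ({x} : Set G))
  have hCt : centralizer ({x} : Set G) ≠ ⊤ := by
    intro h5
    apply hx1
    have h6 : x ∈ center G := by
      rw [mem_center_iff]
      intro g
      have : g ∈ centralizer ({x} : Set G) := by rw [h5]; exact mem_top g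
      exact mem_centralizer_singleton_iff.1 this
    rw [H17.center_eq_bot hG] at h6
    exact h6
  have h5 := H17.two_mul_card_dvd_factorial hG _ hCt
  rw [h] at h5
  have h6 := Subgroup.card_mul_index (centralizer ({x} : Set G))
  rw [h] at h6
  have h7 : Nat.card (centralizer ({x} : Set G) ⊓ normalizer ((P : Subgroup G) : Set G) : Subgroup G) ∣ 150 := by
    rw [← hNc]
    exact Subgroup.card_dvd_of_le inf_le_right
  have h8 : 25 ∣ Nat.card (centralizer ({x} : Set G) ⊓ normalizer ((P : Subgroup G) : Set G) : Subgroup G) := by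
    rw [← hPc]
    exact Subgroup.card_dvd_of_le (le_inf hPC le_normalizer)
  have h9 : 10 ≤ (centralizer ({x} : Set G)).index := by
    by_contra h10
    have h11 : 0 < (centralizer ({x} : Set G)).index := Nat.pos_of_ne_zero Subgroup.FiniteIndex.index_ne_zero
    revert h5
    generalize (centralizer ({x} : Set G)).index = i at *
    interval_cases i <;> decide
  have h10 := one_of_two_mul (G := centralizer ({x} : Set G)) (m := 75) (Or.inl rfl)
  have h11 := one_of_two_mul (G := centralizer ({x} : Set G)) (m := 225) (Or.inr rfl)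
  rw [hfe] at hf ⊢
  generalize Nat.card (Sylow 5 (centralizer ({x} : Set G))) = s at *
  generalize (centralizer ({x} : Set G)).index = i at *
  generalize Nat.card (centralizer ({x} : Set G) ⊓ normalizer ((P : Subgroup G) : Set G) : Subgroup G) = k at *
  generalize Nat.card (centralizer ({x} : Set G)) = c at *
  have h12 : s ∣ 216 := (Dvd.intro _ rfl).trans h2
  have h13 : s = 6 := by
    have h14 : s * i ≤ 216 := Nat.le_of_dvd (by norm_num) h2
    have h15 : s ≤ 21 := by nlinarith
    interval_cases s <;> omega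
  subst h13
  refine ⟨rfl, ?_⟩
  obtain ⟨j, rfl⟩ := h8
  have h14 : j ∣ 6 := by
    obtain ⟨t, ht⟩ := h7
    exact ⟨t, by nlinarith⟩
  have h15 : j ≤ 6 := Nat.le_of_dvd (by norm_num) h14
  interval_cases j
  · omega
  · exfalso
    have := h10 (by omega)
    omega
  · rfl
  · exfalso
    have := h11 (by omega)
    omega
  · omega
  · omega
  · exfalso
    rw [← h1] at h6
    omega

theorem n5400 (hG : ¬ IsMulCommutative G) : Nat.card G ≠ 5400 := by
  classical
  intro h
  have := Fintype.ofFinite G
  have hp5 : Fact (Nat.Prime 5) := ⟨by norm_num⟩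
  have hp3 : Fact (Nat.Prime 3) := ⟨by norm_num⟩
  have h1 := H17.card_sylow_mem (p := 5) (G := G) (k := 2) (m := 216) (by rw [h]; rfl) (by norm_num)
  rw [show (Nat.divisors 216).filter (· % 5 = 1) = {1, 6, 36, 216} by decide +kernel] at h1
  have h2 := H17.card_sylow_ne_one (p := 5) hG (by rw [h]; norm_num)
  have h3 := H17.two_mul_card_dvd_factorial_card_sylow (p := 5) hG (by rw [h]; norm_num)
  obtain ⟨P⟩ : Nonempty (Sylow 5 G) := inferInstance
  have hcard : ∀ R : Sylow 5 G, Nat.card (R : Subgroup G) = 25 := fun R =>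
    H17.card_sylow_eq R (k := 2) (m := 216) (by rw [h]; rfl) (by norm_num)
  have hab : ∀ R : Sylow 5 G, IsMulCommutative (R : Subgroup G) := fun R =>
    IsPGroup.isMulCommutative_of_card_eq_prime_sq (p := 5) (hcard R)
  have hn := H17.card_normalizer_mul P
  have hs : Nat.card (Sylow 5 G) = 36 := by
    simp only [Finset.mem_insert, Finset.mem_singleton] at h1
    rcases h1 with h1 | h1 | h1 | h1
    · exact absurd h1 h2
    · exfalso
      rw [h, h1] at h3
      revert h3
      decide
    · exact h1
    · exfalso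
      rw [h1, h] at hn
      have h5 : Nat.card (normalizer ((P : Subgroup G) : Set G)) = 25 := by omega
      have h6 : (P : Subgroup G) = normalizer ((P : Subgroup G) : Set G) := by
        apply Subgroup.eq_of_le_of_card_ge Subgroup.le_normalizer
        rw [h5, hcard]
      apply H17.not_normalizer_le_centralizer (p := 5) hG (by rw [h]; norm_num) P
      rw [← h6]
      have h7 := hab P
      exact Subgroup.le_centralizer P.1
  have hNc : Nat.card (normalizer ((P : Subgroup G) : Set G)) = 150 := by
    rw [hs, h] at hn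
    omega
  have haux := fun (x : G) hx hx1 hf => n5400_aux hG h P (hcard P) hNc hab (x := x) hx hx1 hf
  -- the bad elements
  set E : Finset G := Finset.univ.filter (fun x : G => x ∈ (P : Subgroup G) ∧ x ≠ 1 ∧ fs 5 x ≠ 1) with hE
  have hmE : ∀ x : G, x ∈ E ↔ x ∈ (P : Subgroup G) ∧ x ≠ 1 ∧ fs 5 x ≠ 1 := by
    intro x
    rw [hE, Finset.mem_filter]
    exact ⟨fun h => h.2, fun h => ⟨Finset.mem_univ _, h⟩⟩
  -- divisible by three
  obtain ⟨y, hyN, hy3⟩ : ∃ y ∈ normalizer ((P : Subgroup G) : Set G), orderOf y = 3 := by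
    obtain ⟨v, hv⟩ := exists_prime_orderOf_dvd_card' (G := normalizer ((P : Subgroup G) : Set G)) 3 (by
      rw [hNc]; norm_num)
    exact ⟨v, v.2, by rw [Subgroup.orderOf_coe]; exact hv⟩
  have hE3 : 3 ∣ E.card := by
    have hmem : ∀ x : E, y * x * y⁻¹ ∈ E := by
      intro x
      have hx := (hmE x).1 x.2
      rw [hmE]
      refine ⟨(mem_normalizer_iff.1 hyN _).1 hx.1, ?_, ?_⟩
      · intro h1
        apply hx.2.1
        have : (x : G) = y⁻¹ * (y * x * y⁻¹) * y := by group
        rw [this, h1]
        group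
      · rw [fs_conj]
        exact hx.2.2
    let f : Function.End E := fun x => ⟨y * x * y⁻¹, hmem x⟩
    have hf : ∀ n : ℕ, ∀ x : E, ((f ^ n) x : G) = y ^ n * x * (y ^ n)⁻¹ := by
      intro n
      induction n with
      | zero =>
        intro x
        rw [pow_zero, pow_zero, one_mul, inv_one, mul_one]
        rfl
      | succ n ih =>
        intro x
        rw [pow_succ]
        change ((f ^ n) (f x) : G) = _
        rw [ih (f x)]
        change y ^ n * (y * x * y⁻¹) * (y ^ n)⁻¹ = _
        rw [pow_succ]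
        group
    have hf3 : f ^ 3 ^ 1 = 1 := by
      funext x
      apply Subtype.ext
      rw [hf, pow_one, ← hy3, pow_orderOf_eq_one, one_mul, inv_one, mul_one]
      rfl
    have h4 := Equiv.Perm.card_fixedPoints_modEq hf3
    have h5 : IsEmpty f.fixedPoints := by
      constructor
      rintro ⟨x, hx⟩
      have h6 : f x = x := hx
      have h7 : y * (x : G) * y⁻¹ = x := congrArg Subtype.val h6
      have h8 := (hmE x).1 x.2
      have h9 := (haux x h8.1 h8.2.1 h8.2.2).2
      have h10 : y ∈ centralizer ({(x : G)} : Set G) ⊓ normalizer ((P : Subgroup G) : Set G) := by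
        refine Subgroup.mem_inf.2 ⟨mem_centralizer_singleton_iff.2 ?_, hyN⟩
        calc y * (x : G) = y * x * y⁻¹ * y := by group
          _ = x * y := by rw [h7]
      have h11 := orderOf_dvd_natCard (⟨y, h10⟩ : (centralizer ({(x : G)} : Set G) ⊓
        normalizer ((P : Subgroup G) : Set G) : Subgroup G))
      rw [Subgroup.orderOf_mk, hy3, h9] at h11
      norm_num at h11
    have h6 : Fintype.card f.fixedPoints = 0 := Fintype.card_eq_zero_iff.2 h5
    rw [h6, Fintype.card_coe] at h4
    exact (Nat.modEq_zero_iff_dvd.1 h4)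
  -- the sum
  have := Fintype.ofFinite (Sylow 5 G)
  have hfilt : ∀ x : G, (Finset.univ.filter (fun R : Sylow 5 G => x ∈ (R : Subgroup G))).card = fs 5 x := by
    intro x
    unfold fs
    rw [Nat.card_eq_fintype_card, Fintype.card_subtype]
  set PF : Finset G := Finset.univ.filter (fun x : G => x ∈ (P : Subgroup G)) with hPF
  have hmP : ∀ x : G, x ∈ PF ↔ x ∈ (P : Subgroup G) := by
    intro x
    rw [hPF, Finset.mem_filter]
    exact ⟨fun h => h.2, fun h => ⟨Finset.mem_univ _, h⟩⟩
  have hPFc : PF.card = 25 := by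
    rw [← hcard P, Nat.card_eq_fintype_card, Fintype.card_subtype]
  have hone : (1 : G) ∈ PF := (hmP 1).2 (one_mem _)
  have hEP : E ⊆ PF := fun x hx => (hmP x).2 ((hmE x).1 hx).1
  have hE1 : (1 : G) ∉ E := fun h => ((hmE 1).1 h).2.1 rfl
  have hEc : E.card ≤ 24 := by
    have h4 : E ⊆ PF.erase 1 := fun x hx => Finset.mem_erase.2 ⟨((hmE x).1 hx).2.1, hEP hx⟩
    have h5 := Finset.card_le_card h4
    rw [Finset.card_erase_of_mem hone, hPFc] at h5
    exact h5
  have hf1 : fs 5 (1 : G) = 36 := by
    unfold fs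
    rw [← hs]
    exact Nat.card_congr (Equiv.subtypeUnivEquiv (fun R => one_mem _))
  have hT1 : ∑ x ∈ PF, fs 5 x = 60 + 5 * E.card := by
    have h4 : ∀ x ∈ PF, fs 5 x = 1 + (if x ∈ E then 5 else 0) + (if x = 1 then 35 else 0) := by
      intro x hx
      by_cases h5 : x = 1
      · subst h5
        rw [if_neg hE1, if_pos rfl, hf1]
      · rw [if_neg h5]
        by_cases h6 : x ∈ E
        · rw [if_pos h6]
          have h7 := (hmE x).1 h6
          rw [(haux x h7.1 h7.2.1 h7.2.2).1]
        · rw [if_neg h6]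
          by_contra h7
          exact h6 ((hmE x).2 ⟨(hmP x).1 hx, h5, h7⟩)
    have h8 : (PF.filter (fun x => x = 1)).card = 1 := by
      rw [Finset.card_eq_one]
      refine ⟨1, ?_⟩
      ext x
      rw [Finset.mem_filter, Finset.mem_singleton]
      exact ⟨fun h => h.2, fun h => ⟨h ▸ hone, h⟩⟩
    rw [Finset.sum_congr rfl h4, Finset.sum_add_distrib, Finset.sum_add_distrib, Finset.sum_const, hPFc,
      ← Finset.sum_filter, ← Finset.sum_filter, Finset.sum_const, Finset.sum_const,
      Finset.filter_mem_eq_inter, Finset.inter_eq_right.2 hEP, h8]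
    simp only [smul_eq_mul]
    ring
  have hT2 : (∑ x ∈ PF, fs 5 x) % 4 = 0 := by
    have h4 : ∑ x ∈ PF, fs 5 x = ∑ R : Sylow 5 G, (PF.filter (fun x => x ∈ (R : Subgroup G))).card := by
      rw [← Finset.sum_congr rfl (fun x _ => hfilt x)]
      exact Finset.sum_card_bipartiteAbove_eq_sum_card_bipartiteBelow
        (r := fun (x : G) (R : Sylow 5 G) => x ∈ (R : Subgroup G)) (s := PF) (t := Finset.univ)
    have h5 : ∀ R : Sylow 5 G, (PF.filter (fun x => x ∈ (R : Subgroup G))).card % 4 = 1 := by
      intro R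
      have h6 : (PF.filter (fun x => x ∈ (R : Subgroup G))).card =
          Nat.card ((P : Subgroup G) ⊓ (R : Subgroup G) : Subgroup G) := by
        rw [Nat.card_eq_fintype_card, hPF, Finset.filter_filter, Fintype.card_subtype]
        congr 1
        ext x
        simp only [Finset.mem_filter, Finset.mem_univ, true_and, Subgroup.mem_inf]
      have h7 : Nat.card ((P : Subgroup G) ⊓ (R : Subgroup G) : Subgroup G) ∣ 25 := by
        rw [← hcard P]
        exact Subgroup.card_dvd_of_le inf_le_left
      have h8 : ∀ d ∈ Nat.divisors 25, d % 4 = 1 := by decide +kernel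
      rw [h6]
      exact h8 _ (Nat.mem_divisors.2 ⟨h7, by norm_num⟩)
    rw [h4, Finset.sum_nat_mod, Finset.sum_congr rfl (fun R _ => h5 R), Finset.sum_const, Finset.card_univ,
      ← Nat.card_eq_fintype_card, hs]
    rfl
  have hT3 : 25 ∣ ∑ x ∈ PF, fs 5 x := by
    have h4 := MulAction.sum_card_fixedBy_eq_card_orbits_mul_card_group (P : Subgroup G) (Sylow 5 G)
    rw [Finset.sum_subtype PF hmP]
    have h5 : ∀ x : (P : Subgroup G), Fintype.card (fixedBy (Sylow 5 G) x) = fs 5 (x : G) := by
      intro x
      unfold fs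
      rw [← Nat.card_eq_fintype_card]
      apply Nat.card_congr
      refine Equiv.subtypeEquivRight ?_
      intro R
      rw [mem_fixedBy, ← mem_stabilizer_iff, H17.stabilizer_sylow_eq, mem_subgroupOf]
    rw [← Finset.sum_congr rfl (fun x _ => h5 x), h4, ← Nat.card_eq_fintype_card (α := (P : Subgroup G)), hcard P]
    exact Dvd.intro_left _ rfl
  omega

end Cfsg.Agent.H74.SvB
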