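import Cfsg.Agent.H74.AltCore

/-!
# Normal `r`-subgroups with orbits of length `1` or `r`

General versions of the lemmas of `AltCore` (no restriction on the degree).
-/

set_option autoImplicit false
set_option linter.unusedSectionVars false
set_option linter.style.haveILetI false

namespace Cfsg.Agent.H74.AG

open MulAction
open scoped Pointwise

section act
variable {Γ Ω : Type*} [Group Γ] [Finite Γ] [MulAction Γ Ω] [FaithfulSMul Γ Ω] [Finite Ω]
  {r : ℕ} [hr : Fact r.Prime] {R : Subgroup Γ}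

theorem sub_orbit_card (hR : IsPGroup r R) (hlt : ∀ y : Ω, Nat.card (orbit R y) = 1 ∨ Nat.card (orbit R y) = r)
    {Z : Subgroup Γ} (hZ : Z ≤ R) (y : Ω) :
    Nat.card (orbit Z y) = 1 ∨ Nat.card (orbit Z y) = r := by
  obtain ⟨n, hn⟩ := (hR.to_le hZ).card_orbit y
  have hsub : orbit Z y ⊆ orbit R y := by
    rintro _ ⟨⟨g, hg⟩, rfl⟩
    exact ⟨⟨g, hZ hg⟩, rfl⟩
  have hle : Nat.card (orbit Z y) ≤ Nat.card (orbit R y) :=
    Nat.card_le_card_of_injective _ (Set.inclusion_injective hsub)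
  have hr1 := hr.out.one_lt
  have hle' : Nat.card (orbit Z y) ≤ r := by
    rcases hlt y with h | h <;> omega
  rcases n with _ | _ | n
  · left; simpa using hn
  · right; simpa using hn
  · exfalso
    have h1 : r * r ≤ r ^ (n + 1 + 1) := by
      rw [← pow_two]; exact Nat.pow_le_pow_right hr.out.pos (by omega)
    have h2 : r * 2 ≤ r * r := Nat.mul_le_mul_left _ hr1
    have := hr.out.pos
    omega

theorem smul_eq_of_orbit_card {y : Ω} (h : Nat.card (orbit R y) = 1) {g : Γ} (hg : g ∈ R) :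
    g • y = y := by
  obtain ⟨z, hz⟩ := Nat.card_eq_one_iff_exists.1 h
  have h1 := hz ⟨y, mem_orbit_self y⟩
  have h2 := hz ⟨g • y, ⟨⟨g, hg⟩, rfl⟩⟩
  exact congrArg Subtype.val (h2.trans h1.symm)

theorem comm_pow (hR : IsPGroup r R) (hlt : ∀ y : Ω, Nat.card (orbit R y) = 1 ∨ Nat.card (orbit R y) = r) (y : Ω) :
    (∀ g ∈ R, ∀ h ∈ R, (g * h) • y = (h * g) • y) ∧ ∀ g ∈ R, g ^ r • y = y := by
  rcases hlt y with h1 | h1
  · exact ⟨fun g hg h hh => by
      rw [smul_eq_of_orbit_card h1 (R.mul_mem hg hh), smul_eq_of_orbit_card h1 (R.mul_mem hh hg)],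
      fun g hg => smul_eq_of_orbit_card h1 (R.pow_mem hg r)⟩
  · set φ := toPermHom R (orbit R y) with hφ
    have hpg : IsPGroup r φ.range := by
      have := hR.to_quotient φ.ker
      exact this.of_equiv (QuotientGroup.quotientKerEquivRange φ)
    obtain ⟨n, hn⟩ := IsPGroup.iff_card.1 hpg
    have hdvd : r ^ n ∣ r.factorial := by
      rw [← hn]
      have h2 := Subgroup.card_subgroup_dvd_card φ.range
      rwa [Nat.card_perm, h1] at h2
    have hn1 : n ≤ 1 := by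
      by_contra hcon
      push Not at hcon
      have h3 : r * r ∣ r * (r - 1).factorial := by
        rw [Nat.mul_factorial_pred hr.out.ne_zero]
        exact (dvd_trans (by rw [← pow_two]; exact pow_dvd_pow r hcon) hdvd)
      have h4 := Nat.dvd_of_mul_dvd_mul_left hr.out.pos h3
      have h5 := (Nat.Prime.dvd_factorial hr.out).1 h4
      have := hr.out.pos
      omega
    have hcard : Nat.card φ.range ∣ r := by
      rw [hn]
      calc r ^ n ∣ r ^ 1 := pow_dvd_pow r hn1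
        _ = r := pow_one r
    have hcomm : ∀ a b : φ.range, a * b = b * a := by
      have h6 : Nat.card φ.range = 1 ∨ Nat.card φ.range = r := (Nat.dvd_prime hr.out).1 hcard
      rcases h6 with h6 | h6
      · intro a b
        haveI := (Nat.card_eq_one_iff_unique.1 h6).1
        exact Subsingleton.elim _ _
      · haveI := isCyclic_of_prime_card h6
        intro a b
        exact (IsCyclic.isMulCommutative (α := φ.range)).is_comm.comm a b
    refine ⟨fun g hg h hh => ?_, fun g hg => ?_⟩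
    · have h7 := hcomm ⟨φ ⟨g, hg⟩, ⟨_, rfl⟩⟩ ⟨φ ⟨h, hh⟩, ⟨_, rfl⟩⟩
      have h8 : φ ⟨g, hg⟩ * φ ⟨h, hh⟩ = φ ⟨h, hh⟩ * φ ⟨g, hg⟩ := congrArg Subtype.val h7
      rw [← map_mul, ← map_mul] at h8
      have h9 := congrArg (fun σ : Equiv.Perm (orbit R y) => ((σ ⟨y, mem_orbit_self y⟩ : orbit R y) : Ω)) h8
      exact h9
    · have h7 : (⟨φ ⟨g, hg⟩, ⟨_, rfl⟩⟩ : φ.range) ^ r = 1 := by
        obtain ⟨k, hk⟩ := hcard
        rw [hk, pow_mul, pow_card_eq_one', one_pow]
      have h8 : φ ⟨g, hg⟩ ^ r = 1 := congrArg Subtype.val h7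
      rw [← map_pow] at h8
      have h9 := congrArg (fun σ : Equiv.Perm (orbit R y) => ((σ ⟨y, mem_orbit_self y⟩ : orbit R y) : Ω)) h8
      exact h9

theorem comm_of (hR : IsPGroup r R) (hlt : ∀ y : Ω, Nat.card (orbit R y) = 1 ∨ Nat.card (orbit R y) = r) {g h : Γ} (hg : g ∈ R)
    (hh : h ∈ R) : g * h = h * g :=
  FaithfulSMul.eq_of_smul_eq_smul (α := Ω) fun y => (comm_pow hR hlt y).1 g hg h hh

theorem pow_of (hR : IsPGroup r R) (hlt : ∀ y : Ω, Nat.card (orbit R y) = 1 ∨ Nat.card (orbit R y) = r) {g : Γ} (hg : g ∈ R) :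
    g ^ r = 1 :=
  FaithfulSMul.eq_of_smul_eq_smul (α := Ω) fun y => by
    rw [(comm_pow hR hlt y).2 g hg, one_smul]

/-- an element fixing `y` fixes its orbit pointwise -/
theorem fix_orbit (hR : IsPGroup r R) (hlt : ∀ y : Ω, Nat.card (orbit R y) = 1 ∨ Nat.card (orbit R y) = r) {g : Γ} (hg : g ∈ R) {y z : Ω}
    (hy : g • y = y) (hz : z ∈ orbit R y) : g • z = z := by
  obtain ⟨⟨h, hh⟩, rfl⟩ := hz
  change g • h • y = h • y
  rw [← mul_smul, comm_of hR hlt hg hh, mul_smul, hy]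

/-- the orbits are those of any element moving the point -/
theorem exists_pow (hR : IsPGroup r R) (hlt : ∀ y : Ω, Nat.card (orbit R y) = 1 ∨ Nat.card (orbit R y) = r) {x : Γ} (hx : x ∈ R) {y z : Ω}
    (hy : x • y ≠ y) (hz : z ∈ orbit R y) : ∃ m : ℤ, z = x ^ m • y := by
  classical
  have hzp : IsPGroup r (Subgroup.zpowers x) := hR.to_le (by
    rw [Subgroup.zpowers_le]; exact hx)
  have h1 : Nat.card (orbit (Subgroup.zpowers x) y) = r := by
    rcases sub_orbit_card hR hlt (Subgroup.zpowers_le.2 hx) y with h | h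
    · exact absurd (smul_eq_of_orbit_card h (Subgroup.mem_zpowers x)) hy
    · exact h
  have h2 : Nat.card (orbit R y) = r := by
    rcases hlt y with h | h
    · exact absurd (smul_eq_of_orbit_card h hx) hy
    · exact h
  have hsub : orbit (Subgroup.zpowers x) y ⊆ orbit R y := by
    rintro _ ⟨⟨g, hg⟩, rfl⟩
    exact ⟨⟨g, (Subgroup.zpowers_le.2 hx) hg⟩, rfl⟩
  have h3 : orbit (Subgroup.zpowers x) y = orbit R y := by
    apply Set.eq_of_subset_of_ncard_le hsub
    rw [← Nat.card_coe_set_eq, ← Nat.card_coe_set_eq, h1, h2]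
  rw [← h3] at hz
  obtain ⟨⟨g, m, rfl⟩, rfl⟩ := hz
  exact ⟨m, rfl⟩

/-- existence of an element without fixed points outside `Δ` -/
theorem exists_fpf (hR : IsPGroup r R) (hlt : ∀ y : Ω, Nat.card (orbit R y) = 1 ∨ Nat.card (orbit R y) = r) (X : Set Ω)
    (hX : ∀ y ∈ X, Nat.card (orbit R y) = r) (hinv : ∀ g ∈ R, ∀ y ∈ X, g • y ∈ X) {k : ℕ}
    (hk : k < r) (hcard : X.ncard = k * r) : ∃ x ∈ R, ∀ y ∈ X, x • y ≠ y := by
  classical
  haveI := Fintype.ofFinite Ω
  haveI := Fintype.ofFinite Γ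
  haveI := Fintype.ofFinite R
  by_contra hcon
  push Not at hcon
  -- count pairs `(g, y)` with `g y = y`
  have h1 : ∀ g ∈ R, r ≤ ((Set.toFinite X).toFinset.filter (fun y => g • y = y)).card := by
    intro g hg
    obtain ⟨y, hy, hgy⟩ := hcon g hg
    have h2 : (Set.toFinite (orbit R y)).toFinset ⊆
        (Set.toFinite X).toFinset.filter (fun y => g • y = y) := by
      intro z hz
      rw [Set.Finite.mem_toFinset] at hz
      rw [Finset.mem_filter, Set.Finite.mem_toFinset]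
      refine ⟨?_, fix_orbit hR hlt hg hgy hz⟩
      obtain ⟨h, rfl⟩ := hz
      exact hinv h h.2 y hy
    have h3 := Finset.card_le_card h2
    rw [← Set.ncard_eq_toFinset_card, ← Nat.card_coe_set_eq, hX y hy] at h3
    exact h3
  have h4 : ∑ g : R, ((Set.toFinite X).toFinset.filter (fun y => g • y = y)).card =
      k * Nat.card R := by
    simp_rw [Finset.card_filter]
    rw [Finset.sum_comm]
    have h5 : ∀ y ∈ (Set.toFinite X).toFinset, (∑ g : R, if g • y = y then 1 else 0) * r =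
        Nat.card R := by
      intro y hy
      rw [Set.Finite.mem_toFinset] at hy
      have h6 := card_orbit_mul_card_stabilizer_eq_card_group R y
      rw [← Nat.card_eq_fintype_card, ← Nat.card_eq_fintype_card, ← Nat.card_eq_fintype_card,
        hX y hy] at h6
      rw [← h6, mul_comm]
      congr 1
      rw [← Finset.card_filter, Nat.card_eq_fintype_card, Fintype.card_subtype]
      rfl
    have h6 : (∑ y ∈ (Set.toFinite X).toFinset, ∑ g : R, if g • y = y then 1 else 0) * r =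
        k * Nat.card R * r := by
      rw [Finset.sum_mul, Finset.sum_congr rfl h5, Finset.sum_const, smul_eq_mul,
        ← Set.ncard_eq_toFinset_card, hcard]
      ring
    exact Nat.eq_of_mul_eq_mul_right hr.out.pos h6
  have h7 : ∑ _g : R, r ≤ ∑ g : R, ((Set.toFinite X).toFinset.filter (fun y => g • y = y)).card :=
    Finset.sum_le_sum fun g _ => h1 g g.2
  rw [h4, Finset.sum_const, Finset.card_univ, smul_eq_mul, ← Nat.card_eq_fintype_card,
    mul_comm] at h7
  have h8 : 0 < Nat.card R := Nat.card_pos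
  have := Nat.le_of_mul_le_mul_right h7 h8
  omega

theorem smul_mem_orbit [R.Normal] (g : Γ) {v w : Ω} (h : w ∈ orbit R v) :
    g • w ∈ orbit R (g • v) := by
  obtain ⟨⟨k, hk⟩, rfl⟩ := h
  refine ⟨⟨g * k * g⁻¹, Subgroup.Normal.conj_mem inferInstance k hk g⟩, ?_⟩
  change (g * k * g⁻¹) • g • v = g • k • v
  rw [← mul_smul, ← mul_smul]; congr 1; group

/-- the commutative group structure on `R` -/
@[reducible] def commGroupOf (hR : IsPGroup r R) (hlt : ∀ y : Ω, Nat.card (orbit R y) = 1 ∨ Nat.card (orbit R y) = r) : CommGroup R :=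
  { (inferInstance : Group R) with
    mul_comm := fun a b => Subtype.ext (comm_of (Ω := Ω) hR hlt a.2 b.2) }

/-- If `n0` preserves the `R`-orbits, then a power of the commutator of `n0` with anything is
trivial outside `Δ`. -/
theorem core [hN : R.Normal] (hR : IsPGroup r R) (hlt : ∀ y : Ω, Nat.card (orbit R y) = 1 ∨ Nat.card (orbit R y) = r) (X : Set Ω)
    (hXinv : ∀ g : Γ, ∀ y ∈ X, g • y ∈ X)
    (hfpf : ∃ x ∈ R, ∀ y ∈ X, x • y ≠ y)
    (hmult : ∀ x ∈ R, (∀ y ∈ X, x • y ≠ y) → ∀ n : Γ, (∀ y ∈ X, n • y ∈ orbit R y) →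
      ∃ m : ℤ, n * x * n⁻¹ = x ^ m)
    (n0 s : Γ) (hn0 : ∀ y ∈ X, n0 • y ∈ orbit R y) {y : Ω} (hy : y ∈ X) :
    (n0 * s * n0⁻¹ * s⁻¹) ^ r • y = y := by
  classical
  letI := commGroupOf (Ω := Ω) hR hlt
  have hinv : ∀ y ∈ X, n0⁻¹ • y ∈ orbit R y := by
    intro y hy
    have h1 := hn0 (n0⁻¹ • y) (hXinv _ _ hy)
    rw [smul_inv_smul] at h1
    exact (orbit_eq_iff.2 h1) ▸ mem_orbit_self _
  obtain ⟨x, hx, hxf⟩ := hfpf
  have hz : s⁻¹ * x * s ∈ R := by
    have := hN.conj_mem x hx s⁻¹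
    rwa [inv_inv] at this
  have hzf : ∀ y ∈ X, (s⁻¹ * x * s) • y ≠ y := by
    intro y hy h
    apply hxf (s • y) (hXinv _ _ hy)
    rw [mul_smul, mul_smul, inv_smul_eq_iff] at h
    exact h
  obtain ⟨m, hm⟩ := hmult x hx hxf n0⁻¹ hinv
  obtain ⟨m', hm'⟩ := hmult _ hz hzf n0⁻¹ hinv
  rw [inv_inv] at hm hm'
  have hzy : (s⁻¹ * x * s) • y ∈ orbit R y := ⟨⟨_, hz⟩, rfl⟩
  obtain ⟨a, ha⟩ := exists_pow hR hlt hx (hxf y hy) hzy
  have hconj : ∀ k : R, ((MulAut.conjNormal n0⁻¹ : MulAut R) k : Γ) = n0⁻¹ * k * n0 := by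
    intro k
    rw [MulAut.conjNormal_apply, inv_inv]
  have hcen := AC.central_abs (A := R) hr.out (fun b => Subtype.ext (pow_of hR hlt b.2)) ⟨x, hx⟩
    ⟨_, hz⟩ (MulAut.conjNormal n0⁻¹ : MulAut R).toMonoidHom ((stabilizer Γ y).subgroupOf R) (by
      intro b hb
      rw [Subgroup.mem_subgroupOf, mem_stabilizer_iff] at hb ⊢
      change ((MulAut.conjNormal n0⁻¹ : MulAut R) b : Γ) • y = y
      rw [hconj, mul_smul, mul_smul, fix_orbit hR hlt b.2 hb (hn0 y hy), inv_smul_smul])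
    (m := m) (m' := m') (a := a) (Subtype.ext (by
      change ((MulAut.conjNormal n0⁻¹ : MulAut R) _ : Γ) = _
      rw [hconj]; exact hm)) (Subtype.ext (by
      change ((MulAut.conjNormal n0⁻¹ : MulAut R) _ : Γ) = _
      rw [hconj]; exact hm')) (by
      rw [Subgroup.mem_subgroupOf, mem_stabilizer_iff]
      change ((s⁻¹ * x * s) * x ^ (-a)) • y = y
      rw [comm_of (Ω := Ω) hR hlt hz (R.zpow_mem hx _), mul_smul, ha, ← mul_smul, ← zpow_add,
        neg_add_cancel, zpow_zero, one_smul]) (by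
      rw [Subgroup.mem_subgroupOf, mem_stabilizer_iff]
      exact hzf y hy)
  have hcen' : n0⁻¹ * (s⁻¹ * x * s) * n0 = (s⁻¹ * x * s) ^ m := by
    have h1 := congrArg Subtype.val hcen
    have h2 : ((MulAut.conjNormal n0⁻¹ : MulAut R) ⟨_, hz⟩ : Γ) = _ := h1
    rw [hconj] at h2
    exact h2
  set t := n0 * s * n0⁻¹ * s⁻¹ with ht
  have htx : t * x = x * t := by
    have h1 : t * x * t⁻¹ = x := by
      calc t * x * t⁻¹ = n0 * s * (n0⁻¹ * (s⁻¹ * x * s) * n0) * s⁻¹ * n0⁻¹ := by rw [ht]; group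
        _ = n0 * s * (s⁻¹ * x * s) ^ m * s⁻¹ * n0⁻¹ := by rw [hcen']
        _ = n0 * x ^ m * n0⁻¹ := by
          have h2 : (s⁻¹ * x * s) ^ m = s⁻¹ * x ^ m * s := by
            have := conj_zpow (i := m) (a := s⁻¹) (b := x)
            rwa [inv_inv] at this
          rw [h2]; group
        _ = n0 * (n0⁻¹ * x * n0) * n0⁻¹ := by rw [hm]
        _ = x := by group
    rw [mul_inv_eq_iff_eq_mul] at h1
    exact h1
  have hty : t • y ∈ orbit R y := by
    have h1 := hinv (s⁻¹ • y) (hXinv _ _ hy)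
    have h2 := smul_mem_orbit s h1
    rw [smul_inv_smul] at h2
    have h3 := smul_mem_orbit n0 h2
    have h4 : t • y ∈ orbit R (n0 • y) := by
      rw [ht, mul_smul, mul_smul, mul_smul]; exact h3
    rw [orbit_eq_iff.2 (hn0 y hy)] at h4
    exact h4
  obtain ⟨i, hi⟩ := exists_pow hR hlt hx (hxf y hy) hty
  have hpow : ∀ j : ℕ, t ^ j • y = (x ^ i) ^ j • y := by
    intro j
    induction j with
    | zero => simp
    | succ j ih =>
      have hc : Commute t x := htx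
      rw [pow_succ, mul_smul, hi, ← mul_smul, ((hc.pow_left j).zpow_right i).eq, mul_smul, ih,
        ← mul_smul, ← pow_succ']
  rw [hpow, pow_of hR hlt (R.zpow_mem hx i), one_smul]

/-- the multiplier property -/
theorem mult3 [hN : R.Normal] (hR : IsPGroup r R) (hlt : ∀ y : Ω, Nat.card (orbit R y) = 1 ∨ Nat.card (orbit R y) = r) (X : Set Ω)
    {y1 y2 y3 : Ω} (hy1 : y1 ∈ X) (hy2 : y2 ∈ X) (hy3 : y3 ∈ X)
    (h12 : ∀ g ∈ R, g • y1 = y1 → g • y2 = y2 → g = 1)
    (h13 : ∀ g ∈ R, g • y1 = y1 → g • y3 = y3 → g = 1)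
    (h23 : ∀ g ∈ R, g • y2 = y2 → g • y3 = y3 → g = 1) (x : Γ) (hx : x ∈ R)
    (hxf : ∀ y ∈ X, x • y ≠ y) (n : Γ) (hn : ∀ y ∈ X, n • y ∈ orbit R y) :
    ∃ m : ℤ, n * x * n⁻¹ = x ^ m := by
  classical
  letI := commGroupOf (Ω := Ω) hR hlt
  have hinf : ∀ y y' : Ω, (∀ g ∈ R, g • y = y → g • y' = y' → g = 1) →
      (stabilizer Γ y).subgroupOf R ⊓ (stabilizer Γ y').subgroupOf R = ⊥ := by
    intro y y' h
    rw [eq_bot_iff]
    rintro ⟨g, hg⟩ ⟨h1, h2⟩
    rw [Subgroup.mem_bot]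
    exact Subtype.ext (h g hg h1 h2)
  have hα : ∀ y ∈ X, ∀ b ∈ (stabilizer Γ y).subgroupOf R,
      (MulAut.conjNormal n : MulAut R).toMonoidHom b ∈ (stabilizer Γ y).subgroupOf R := by
    intro y hy b hb
    rw [Subgroup.mem_subgroupOf, mem_stabilizer_iff] at hb ⊢
    change ((MulAut.conjNormal n : MulAut R) b : Γ) • y = y
    have h1 : y ∈ orbit R (n⁻¹ • y) := by
      have h2 := smul_mem_orbit n⁻¹ (hn y hy)
      rw [inv_smul_smul] at h2
      exact h2
    have h3 : n⁻¹ • y ∈ orbit R y := (orbit_eq_iff.2 h1) ▸ mem_orbit_self _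
    rw [MulAut.conjNormal_apply, mul_smul, mul_smul, fix_orbit hR hlt b.2 hb h3, smul_inv_smul]
  have hm : ∀ y ∈ X, ∀ b : R, ∃ m : ℤ, b * (⟨x, hx⟩ : R) ^ (-m) ∈
      (stabilizer Γ y).subgroupOf R := by
    intro y hy b
    obtain ⟨m, hm⟩ := exists_pow hR hlt hx (hxf y hy) (⟨b, rfl⟩ : b • y ∈ orbit R y)
    refine ⟨m, ?_⟩
    rw [Subgroup.mem_subgroupOf, mem_stabilizer_iff]
    change ((b : Γ) * x ^ (-m)) • y = y
    rw [comm_of (Ω := Ω) hR hlt b.2 (R.zpow_mem hx _), mul_smul]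
    change x ^ (-m) • b • y = y
    rw [hm, ← mul_smul, ← zpow_add, neg_add_cancel, zpow_zero, one_smul]
  obtain ⟨m, hm⟩ := AC.mult_abs (A := R) hr.out (fun b => Subtype.ext (pow_of hR hlt b.2)) ⟨x, hx⟩
    (MulAut.conjNormal n : MulAut R).toMonoidHom _ _ _ (hinf y1 y2 h12) (hinf y1 y3 h13)
    (hinf y2 y3 h23) (hα y1 hy1) (hα y2 hy2) (hα y3 hy3) (hm y1 hy1) (hm y2 hy2) (hm y3 hy3)
  refine ⟨m, ?_⟩
  have h1 := congrArg Subtype.val hm
  have h2 : ((MulAut.conjNormal n : MulAut R) ⟨x, hx⟩ : Γ) = _ := h1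
  rw [MulAut.conjNormal_apply] at h2
  exact h2

end act

end Cfsg.Agent.H74.AG
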