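import Cfsg.Agent.S0158
import Cfsg.Agent.BlkC.Basic

set_option autoImplicit false
set_option linter.style.haveILetI false

/-!
# The invariant bilinear form of an irreducible representation and the indicator
-/

namespace Cfsg.Agent.H74

open Cfsg Cfsg.Agent.CharBase Cfsg.Agent.S0158
open scoped ComplexConjugate Matrix

section FS
variable {G : Type*} [Group G] [Fintype G] {n : ℕ}

/-- Every invariant form satisfies `Bᵀ = ν B`. -/
theorem transpose_eq_fs (R : G →* Matrix (Fin n) (Fin n) ℂ)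
    (hirr : ∀ M : Matrix (Fin n) (Fin n) ℂ, (∀ h, M * R h = R h * M) → ∃ c : ℂ, M = c • 1)
    (hker : ∀ M : Matrix (Fin n) (Fin n) ℂ, (∀ h, (R h)ᵀ * M * R h = M) → M ≠ 0 → IsUnit M)
    (B : Matrix (Fin n) (Fin n) ℂ) (hB : ∀ h, (R h)ᵀ * B * R h = B) :
    Bᵀ = ((Nat.card G : ℂ)⁻¹ * ∑ s : G, (R (s * s)).trace) • B := by
  by_cases hB0 : B = 0
  · rw [hB0]; simp
  obtain ⟨ε, hε⟩ := invForm_unique R hirr hker B hB hB0 Bᵀ (transpose_invariant R B hB)
  have hex : ∀ i j, ∃ c : ℂ, avgForm R (Matrix.single i j 1) = c • B := fun i j =>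
    invForm_unique R hirr hker B hB hB0 _ (avgForm_invariant R _)
  choose l hl using hex
  have hl1 : ∀ i j, l j i = ε * l i j := by
    intro i j
    have h1 : avgForm R (Matrix.single j i 1) = (avgForm R (Matrix.single i j 1))ᵀ := by
      rw [← avgForm_transpose, Matrix.transpose_single]
    rw [hl, hl, Matrix.transpose_smul, hε, smul_smul] at h1
    have h2 : (l j i - l i j * ε) • B = 0 := by rw [sub_smul, h1, sub_self]
    rcases smul_eq_zero.mp h2 with h3 | h3
    · rw [sub_eq_zero.mp h3]; ring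
    · exact absurd h3 hB0
  have hsum : ∑ i, ∑ j, B i j * l i j = 1 := by
    have h1 := avgForm_of_invariant R B hB
    rw [avgForm_linear] at h1
    have h2 : (∑ i, ∑ j, B i j * l i j) • B = B := by
      refine Eq.trans ?_ h1
      rw [Finset.sum_smul]
      refine Finset.sum_congr rfl (fun i _ => ?_)
      rw [Finset.sum_smul]
      refine Finset.sum_congr rfl (fun j _ => ?_)
      rw [hl, smul_smul]
    have h3 : ((∑ i, ∑ j, B i j * l i j) - 1) • B = 0 := by rw [sub_smul, h2, one_smul, sub_self]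
    rcases smul_eq_zero.mp h3 with h4 | h4
    · exact sub_eq_zero.mp h4
    · exact absurd h4 hB0
  have hν : (Nat.card G : ℂ)⁻¹ * ∑ s : G, (R (s * s)).trace = ε := by
    rw [fs_eq]
    have h1 : ∑ i : Fin n, ∑ j : Fin n, avgForm R (Matrix.single i j 1) j i =
        ∑ j : Fin n, ∑ i : Fin n, ε * (B j i * l j i) := by
      rw [Finset.sum_comm]
      refine Finset.sum_congr rfl (fun j _ => Finset.sum_congr rfl (fun i _ => ?_))
      rw [hl, Matrix.smul_apply, smul_eq_mul, hl1 j i]; ring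
    rw [h1]
    simp only [← Finset.mul_sum]
    rw [hsum, mul_one]
  rw [hν, hε]

/-- A self-dual representation has a nonzero invariant form. -/
theorem exists_invForm (R : G →* Matrix (Fin n) (Fin n) ℂ)
    (h : (Nat.card G : ℂ)⁻¹ * ∑ s : G, (R s).trace * (R s).trace ≠ 0) :
    ∃ B : Matrix (Fin n) (Fin n) ℂ, B ≠ 0 ∧ ∀ h, (R h)ᵀ * B * R h = B := by
  rw [fs_eq'] at h
  by_contra hcon
  push Not at hcon
  apply h
  refine Finset.sum_eq_zero fun i _ => Finset.sum_eq_zero fun j _ => ?_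
  have h1 : avgForm R (Matrix.single i j 1) = 0 := by
    by_contra h2
    obtain ⟨g, hg⟩ := hcon _ h2
    exact hg (avgForm_invariant R _ g)
  rw [h1]; rfl

end FS

/-- **A real-valued irreducible character of odd degree has indicator `1`.** -/
theorem indicator_eq_one_of_odd {G : Type*} [Group G] [Fintype G] {χ : G → ℂ}
    (hχ : IsIrrCharacter G χ) (hreal : ∀ g, (χ g).im = 0) (hodd : Odd (charDegree χ)) :
    (Nat.card G : ℂ)⁻¹ * ∑ s : G, χ (s * s) = 1 := by
  obtain ⟨m, ρ, hρ, hχρ⟩ := hχ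
  haveI := hρ
  subst hχρ
  let b := Module.finBasis ℂ (Fin m → ℂ)
  obtain ⟨htr, hirr, hker⟩ := matrix_facts ρ b
  set R : G →* Matrix (Fin (Module.finrank ℂ (Fin m → ℂ))) (Fin (Module.finrank ℂ (Fin m → ℂ))) ℂ :=
      (LinearMap.toMatrixAlgEquiv b).toAlgHom.toMonoidHom.comp ρ with hRdef
  have hG : (Nat.card G : ℂ) ≠ 0 := by exact_mod_cast Nat.card_pos.ne'
  have h1 : (Nat.card G : ℂ)⁻¹ * ∑ s : G, (R s).trace * (R s).trace ≠ 0 := by
    have h2 : (Nat.card G : ℂ)⁻¹ * ∑ s : G, (R s).trace * (R s).trace =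
        classInner ρ.character ρ.character := by
      unfold classInner
      congr 1
      refine Finset.sum_congr rfl fun s _ => ?_
      rw [htr, Complex.conj_eq_iff_im.2 (hreal s)]
    have h3 := classInner_irr (G := G) ⟨ρ.character, ⟨m, ρ, hρ, rfl⟩⟩ ⟨ρ.character, ⟨m, ρ, hρ, rfl⟩⟩
    rw [if_pos rfl] at h3
    rw [h2, h3]
    exact one_ne_zero
  obtain ⟨B, hB0, hB⟩ := exists_invForm R h1
  have h3 := transpose_eq_fs R hirr hker B hB
  have h4 : ∑ s : G, (R (s * s)).trace = ∑ s : G, ρ.character (s * s) :=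
    Finset.sum_congr rfl fun s _ => htr _
  rw [h4] at h3
  have hu : IsUnit B := hker B hB hB0
  have hdet : B.det ≠ 0 := by
    rw [← isUnit_iff_ne_zero]
    exact (Matrix.isUnit_iff_isUnit_det B).1 hu
  have h5 := congrArg Matrix.det h3
  rw [Matrix.det_transpose, Matrix.det_smul, Fintype.card_fin] at h5
  have h6 : ((Nat.card G : ℂ)⁻¹ * ∑ s : G, ρ.character (s * s)) ^
      (Module.finrank ℂ (Fin m → ℂ)) = 1 := by
    apply mul_right_cancel₀ hdet
    rw [one_mul]; exact h5.symm
  have h7 : Odd (Module.finrank ℂ (Fin m → ℂ)) := by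
    have h8 : charDegree ρ.character = Module.finrank ℂ (Fin m → ℂ) := by
      have h9 := BlkC.charDegree_spec (G := G) ⟨ρ.character, ⟨m, ρ, hρ, rfl⟩⟩
      have h10 : ρ.character 1 = (Module.finrank ℂ (Fin m → ℂ) : ℂ) := ρ.char_one
      simp only at h9
      rw [h10] at h9
      exact_mod_cast h9.symm
    rwa [← h8]
  rcases (S0158.result ρ).1 with h | h | h
  · rw [h, zero_pow h7.pos.ne'] at h6
    exact absurd h6 zero_ne_one
  · exact h
  · rw [h, h7.neg_one_pow] at h6
    norm_num at h6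

end Cfsg.Agent.H74
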