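import Cfsg.Agent.H74.Prin2
import Cfsg.Agent.H79.Columns
import Cfsg.Agent.H79.CopChar
import Cfsg.Agent.H9.DihedralSylow
import Cfsg.Agent.BlkInd.PPart
import Cfsg.Agent.H4.Dihedral

/-!
# Pairs of involutions in `2`-nilpotent centralizers (owner: helper74)

`J` is an involution, `V = O(C(J))`, `P` a `2`-subgroup with `C(J) = V P`.
-/

set_option autoImplicit false
set_option linter.unusedSectionVars false
set_option linter.style.haveILetI false

universe u v

namespace Cfsg.Agent.H74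

open scoped ComplexConjugate BigOperators
open Cfsg Cfsg.Agent.CharBase Cfsg.Agent.Blk Cfsg.Agent.H4

section Basic

variable {G : Type u} [Group G] [Finite G]

/-- An involution in the coset `s V` is `V`-conjugate to `s` for `V` of odd order. -/
theorem exists_conj_of_mem_coset (V : Subgroup G) (hV : Odd (Nat.card V)) {s u : G} (hs : s * s = 1)
    (hu : u * u = 1) (h : s⁻¹ * u ∈ V) : ∃ v ∈ V, v * s * v⁻¹ = u := by
  have hsi : s⁻¹ = s := inv_eq_of_mul_eq_one_left hs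
  have hui : u⁻¹ = u := inv_eq_of_mul_eq_one_left hu
  set v0 := s⁻¹ * u with hv0
  have hodd : Odd (orderOf v0) := hV.of_dvd_nat (Subgroup.orderOf_dvd_natCard V h)
  obtain ⟨k, hk⟩ := hodd
  have h1 : v0 ^ (k + 1) * v0 ^ (k + 1) = v0 := by
    rw [← pow_add, show k + 1 + (k + 1) = (2 * k + 1) + 1 by ring, pow_succ, ← hk,
      pow_orderOf_eq_one, one_mul]
  have h2 : s * v0 * s⁻¹ = v0⁻¹ := by
    rw [hv0, hsi, mul_inv_rev, hui, hsi]
    rw [← mul_assoc, hs, one_mul]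
  have h3 : s * v0 ^ (k + 1) * s⁻¹ = (v0 ^ (k + 1))⁻¹ := by
    rw [← conj_pow, h2, inv_pow]
  refine ⟨(v0 ^ (k + 1))⁻¹, V.inv_mem (V.pow_mem h _), ?_⟩
  rw [inv_inv, ← h3]
  have h4 : s * v0 ^ (k + 1) * s⁻¹ * s * v0 ^ (k + 1) = s * (v0 ^ (k + 1) * v0 ^ (k + 1)) := by group
  rw [h4, h1, hv0, mul_inv_cancel_left]

/-- The number of involutions in the coset `x V`. -/
noncomputable def ninv (V : Subgroup G) (x : G) : ℕ :=
  Nat.card {u : G // x⁻¹ * u ∈ V ∧ u * u = 1 ∧ u ≠ 1}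

/-- `J` an involution, `V = O(C(J))` and `C(J) = V P`. -/
structure VP (J : G) (V P : Subgroup G) : Prop where
  J_sq : J * J = 1
  J_ne : J ≠ 1
  J_mem : J ∈ P
  V_odd : Odd (Nat.card V)
  V_le : V ≤ Subgroup.centralizer ({J} : Set G)
  P_le : P ≤ Subgroup.centralizer ({J} : Set G)
  inf : V ⊓ P = ⊥
  normal : ∀ h ∈ Subgroup.centralizer ({J} : Set G), ∀ v ∈ V, h * v * h⁻¹ ∈ V
  exists_mul : ∀ h ∈ Subgroup.centralizer ({J} : Set G), ∃ v ∈ V, ∃ x ∈ P, h = v * x
  mem_iff : ∀ v, v ∈ V ↔ Commute J v ∧ Odd (orderOf v)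
  npc : HasNormalPComplement 2 (Subgroup.centralizer ({J} : Set G))

theorem VP.ninv_eq_zero_of_sq {J : G} {V P : Subgroup G} (h : VP J V P) {x : G} (hx : x ∈ P)
    (hx2 : x * x ≠ 1) : ninv V x = 0 := by
  unfold ninv
  rw [Nat.card_eq_zero]
  left
  refine ⟨fun ⟨u, h1, h2, _⟩ => hx2 ?_⟩
  have h3 : x⁻¹ * (x⁻¹ * u) * x⁻¹⁻¹ ∈ V := h.normal _ (inv_mem (h.P_le hx)) _ h1
  have h5 : x * x ∈ V := by
    have h6 : x * x = (x⁻¹ * u)⁻¹ * (x⁻¹ * (x⁻¹ * u) * x⁻¹⁻¹)⁻¹ := by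
      have h7 : (x⁻¹ * u)⁻¹ * (x⁻¹ * (x⁻¹ * u) * x⁻¹⁻¹)⁻¹ = (u⁻¹ * u⁻¹) * (x * x) := by
        simp only [mul_inv_rev, inv_inv, mul_assoc, mul_inv_cancel_left]
      rw [h7, ← mul_inv_rev, h2, inv_one, one_mul]
    rw [h6]
    exact V.mul_mem (V.inv_mem h1) (V.inv_mem h3)
  have h6 : x * x ∈ V ⊓ P := ⟨h5, P.mul_mem hx hx⟩
  rwa [h.inf, Subgroup.mem_bot] at h6

theorem VP.ninv_one {J : G} {V P : Subgroup G} (h : VP J V P) : ninv V (1 : G) = 0 := by
  unfold ninv
  rw [Nat.card_eq_zero]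
  left
  refine ⟨fun ⟨u, h1, h2, h3⟩ => h3 ?_⟩
  rw [inv_one, one_mul] at h1
  have h4 := (h.mem_iff u).mp h1
  have h5 : orderOf u ∣ 2 := orderOf_dvd_of_pow_eq_one (by rw [pow_two]; exact h2)
  rcases (Nat.dvd_prime Nat.prime_two).mp h5 with h6 | h6
  · exact orderOf_eq_one_iff.mp h6
  · rw [h6] at h4
    exact absurd h4.2 (by decide)

/-- The number of involutions in `s V`. -/
theorem VP.ninv_mul {J : G} {V P : Subgroup G} (h : VP J V P) {s : G} (hs : s ∈ P)
    (hs2 : s * s = 1) (hs1 : s ≠ 1) :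
    ninv V s * Nat.card (V ⊓ Subgroup.centralizer ({s} : Set G) : Subgroup G) = Nat.card V := by
  classical
  haveI := Fintype.ofFinite G
  haveI := Fintype.ofFinite V
  have h1 : ∀ z : G, ((Finset.univ : Finset V).filter
      (fun n : V => (n : G) * s * (n : G)⁻¹ = z)).card =
      if ∃ n ∈ V, n * s * n⁻¹ = z then
        Nat.card (V ⊓ Subgroup.centralizer ({s} : Set G) : Subgroup G) else 0 :=
    fun z => (H79.card_conj_fiber V s z).trans (by congr)
  have h2 : Fintype.card V = ∑ z : G, ((Finset.univ : Finset V).filter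
      (fun n : V => (n : G) * s * (n : G)⁻¹ = z)).card := by
    rw [← Finset.card_univ]
    exact Finset.card_eq_sum_card_fiberwise (fun _ _ => Finset.mem_univ _)
  simp only [h1] at h2
  rw [← Finset.sum_filter, Finset.sum_const, smul_eq_mul] at h2
  rw [Nat.card_eq_fintype_card (α := V), h2]
  congr 1
  unfold ninv
  rw [Nat.card_eq_fintype_card, Fintype.card_subtype]
  congr 1
  ext u
  simp only [Finset.mem_filter, Finset.mem_univ, true_and]
  constructor
  · rintro ⟨h3, h4, h5⟩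
    exact exists_conj_of_mem_coset V h.V_odd hs2 h4 h3
  · rintro ⟨v, hv, rfl⟩
    refine ⟨?_, ?_, ?_⟩
    · have h3 : s⁻¹ * v * s⁻¹⁻¹ ∈ V := h.normal _ (inv_mem (h.P_le hs)) _ hv
      have h4 := V.mul_mem h3 (V.inv_mem hv)
      have h5 : s⁻¹ * v * s⁻¹⁻¹ * v⁻¹ = s⁻¹ * (v * s * v⁻¹) := by group
      rwa [h5] at h4
    · have : v * s * v⁻¹ * (v * s * v⁻¹) = v * (s * s) * v⁻¹ := by group
      rw [this, hs2, mul_one, mul_inv_cancel]
    · intro h3
      apply hs1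
      have h4 := mul_inv_eq_one.mp h3
      simpa using h4

/-- The number of involutions in the coset `xV` is invariant under conjugation. -/
theorem VP.ninv_conj {J : G} {V P : Subgroup G} (h : VP J V P) {y : G}
    (hy : y ∈ Subgroup.centralizer ({J} : Set G)) (x : G) :
    ninv V (y * x * y⁻¹) = ninv V x := by
  unfold ninv
  refine Nat.card_congr
    { toFun := fun u => ⟨y⁻¹ * u.1 * y, ?_, ?_, ?_⟩
      invFun := fun u => ⟨y * u.1 * y⁻¹, ?_, ?_, ?_⟩
      left_inv := fun u => Subtype.ext (by group)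
      right_inv := fun u => Subtype.ext (by group) }
  · have h1 := h.normal y⁻¹ (inv_mem hy) _ u.2.1
    have h2 : y⁻¹ * ((y * x * y⁻¹)⁻¹ * u.1) * y⁻¹⁻¹ = x⁻¹ * (y⁻¹ * u.1 * y) := by group
    rwa [h2] at h1
  · have : y⁻¹ * u.1 * y * (y⁻¹ * u.1 * y) = y⁻¹ * (u.1 * u.1) * y := by group
    rw [this, u.2.2.1]; group
  · intro h1
    apply u.2.2.2
    have : u.1 = y * (y⁻¹ * u.1 * y) * y⁻¹ := by group
    rw [this, h1]; group
  · have h1 := h.normal y hy _ u.2.1
    have h2 : y * (x⁻¹ * u.1) * y⁻¹ = (y * x * y⁻¹)⁻¹ * (y * u.1 * y⁻¹) := by group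
    rwa [h2] at h1
  · have : y * u.1 * y⁻¹ * (y * u.1 * y⁻¹) = y * (u.1 * u.1) * y⁻¹ := by group
    rw [this, u.2.2.1]; group
  · intro h1
    apply u.2.2.2
    have : u.1 = y⁻¹ * (y * u.1 * y⁻¹) * y := by group
    rw [this, h1]; group

theorem VP.commute_J {J : G} {V P : Subgroup G} (h : VP J V P) {x : G} (hx : x ∈ P) :
    x * J = J * x := Subgroup.mem_centralizer_singleton_iff.mp (h.P_le hx)

/-- `|C_{C(J)}(s)| = |C_V(s)| |C_P(s)|`. -/
theorem VP.card_centralizer {J : G} {V P : Subgroup G} (h : VP J V P) {s : G} (hs : s ∈ P) :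
    Nat.card (Subgroup.centralizer ({J} : Set G) ⊓ Subgroup.centralizer ({s} : Set G) : Subgroup G) =
      Nat.card (V ⊓ Subgroup.centralizer ({s} : Set G) : Subgroup G) *
      Nat.card (P ⊓ Subgroup.centralizer ({s} : Set G) : Subgroup G) := by
  rw [← Nat.card_prod]
  symm
  refine Nat.card_congr (Equiv.ofBijective (fun q => ⟨(q.1 : G) * q.2, ?_⟩) ⟨?_, ?_⟩)
  · exact ⟨mul_mem (h.V_le q.1.2.1) (h.P_le q.2.2.1), mul_mem q.1.2.2 q.2.2.2⟩
  · rintro ⟨⟨a, ha⟩, ⟨b, hb⟩⟩ ⟨⟨c, hc⟩, ⟨d, hd⟩⟩ hq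
    have h1 : a * b = c * d := congrArg Subtype.val hq
    have h2 : c⁻¹ * a = d * b⁻¹ := by
      rw [inv_mul_eq_iff_eq_mul, ← mul_assoc, ← h1, mul_inv_cancel_right]
    have h3 : c⁻¹ * a ∈ V ⊓ P := ⟨V.mul_mem (V.inv_mem hc.1) ha.1, by
      rw [h2]; exact P.mul_mem hd.1 (P.inv_mem hb.1)⟩
    rw [h.inf, Subgroup.mem_bot] at h3
    have h4 : c = a := inv_mul_eq_one.mp h3
    subst h4
    have h5 : b = d := mul_left_cancel h1
    subst h5
    rfl
  · rintro ⟨g, hg⟩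
    obtain ⟨v, hv, x, hx, rfl⟩ := h.exists_mul g hg.1
    have hgs : (v * x) * s = s * (v * x) := Subgroup.mem_centralizer_singleton_iff.mp hg.2
    have h1 : x * s * x⁻¹ * s⁻¹ = v⁻¹ * (s * v * s⁻¹) := by
      have h2 : s * v * s⁻¹ = (s * (v * x)) * x⁻¹ * s⁻¹ := by group
      rw [h2, ← hgs]; group
    have h3 : x * s * x⁻¹ * s⁻¹ ∈ V ⊓ P := ⟨by
      rw [h1]; exact V.mul_mem (V.inv_mem hv) (h.normal s (h.P_le hs) v hv),
      P.mul_mem (P.mul_mem (P.mul_mem hx hs) (P.inv_mem hx)) (P.inv_mem hs)⟩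
    rw [h.inf, Subgroup.mem_bot] at h3
    have h4 : x * s = s * x := by
      have := mul_inv_eq_one.mp h3
      rw [mul_inv_eq_iff_eq_mul] at this
      exact this
    have hxs : x ∈ Subgroup.centralizer ({s} : Set G) := Subgroup.mem_centralizer_singleton_iff.mpr h4
    have hvs : v ∈ Subgroup.centralizer ({s} : Set G) := by
      have := (Subgroup.centralizer ({s} : Set G)).mul_mem hg.2
        ((Subgroup.centralizer ({s} : Set G)).inv_mem hxs)
      simpa using this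
    exact ⟨⟨⟨v, hv, hvs⟩, ⟨x, hx, hxs⟩⟩, rfl⟩

theorem centralizer_pair (a b : G) : Subgroup.centralizer ({a, b} : Set G) =
    Subgroup.centralizer ({a} : Set G) ⊓ Subgroup.centralizer ({b} : Set G) := by
  ext x
  rw [Subgroup.mem_inf, Subgroup.mem_centralizer_iff, Subgroup.mem_centralizer_iff,
    Subgroup.mem_centralizer_iff]
  simp

theorem centralizer_le_of_zpowers {J z : G} (h : J ∈ Subgroup.zpowers z) :
    Subgroup.centralizer ({z} : Set G) ≤ Subgroup.centralizer ({J} : Set G) := by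
  intro x hx
  rw [Subgroup.mem_centralizer_singleton_iff] at hx ⊢
  obtain ⟨k, rfl⟩ := Subgroup.mem_zpowers_iff.mp h
  exact (Commute.zpow_right (show Commute x z from hx) k)

/-- `|C(z)| = |C_V(z)| |C_P(z)|` if `J` is a power of `z ∈ P`. -/
theorem VP.card_centralizer' {J : G} {V P : Subgroup G} (h : VP J V P) {z : G} (hz : z ∈ P)
    (hJ : J ∈ Subgroup.zpowers z) :
    Nat.card (Subgroup.centralizer ({z} : Set G)) =
      Nat.card (V ⊓ Subgroup.centralizer ({z} : Set G) : Subgroup G) *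
      Nat.card (P ⊓ Subgroup.centralizer ({z} : Set G) : Subgroup G) := by
  rw [← h.card_centralizer hz, inf_eq_right.mpr (centralizer_le_of_zpowers hJ)]

theorem VP.card_J {J : G} {V P : Subgroup G} (h : VP J V P) :
    Nat.card (Subgroup.centralizer ({J} : Set G)) = Nat.card V * Nat.card P := by
  rw [h.card_centralizer' h.J_mem (Subgroup.mem_zpowers J), inf_eq_left.mpr h.V_le,
    inf_eq_left.mpr h.P_le]

theorem VP.core_eq {J : G} {V P : Subgroup G} (h : VP J V P) {z : G}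
    (hJ : J ∈ Subgroup.zpowers z) :
    centralizerPPrimeCore 2 z = V ⊓ Subgroup.centralizer ({z} : Set G) := by
  haveI : Fact (Nat.Prime 2) := ⟨Nat.prime_two⟩
  have hle := centralizer_le_of_zpowers hJ
  have hnc : HasNormalPComplement 2 (Subgroup.centralizer ({z} : Set G)) :=
    Transfer.HasNPC.of_le h.npc hle
  ext v
  rw [mem_core_iff hnc, Subgroup.mem_inf, h.mem_iff, Nat.coprime_two_right]
  constructor
  · rintro ⟨h1, h2⟩
    have h3 : v ∈ Subgroup.centralizer ({z} : Set G) :=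
      Subgroup.mem_centralizer_singleton_iff.mpr h1.symm
    exact ⟨⟨(Subgroup.mem_centralizer_singleton_iff.mp (hle h3)).symm, h2⟩, h3⟩
  · rintro ⟨⟨h1, h2⟩, h3⟩
    exact ⟨(Subgroup.mem_centralizer_singleton_iff.mp h3).symm, h2⟩

theorem VP.npc_of {J : G} {V P : Subgroup G} (h : VP J V P) {z : G}
    (hJ : J ∈ Subgroup.zpowers z) :
    HasNormalPComplement 2 (Subgroup.centralizer ({z} : Set G)) := by
  haveI : Fact (Nat.Prime 2) := ⟨Nat.prime_two⟩
  exact Transfer.HasNPC.of_le h.npc (centralizer_le_of_zpowers hJ)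

/-- Sums of class functions over `V z`. -/
theorem VP.sum_coset {J : G} {V P : Subgroup G} (h : VP J V P) [Fintype V] {z : G} (hz : z ∈ P)
    {k : ℕ} (hzo : orderOf z = 2 ^ k) [Fintype (V ⊓ Subgroup.centralizer ({z} : Set G) : Subgroup G)]
    (F : G → ℂ) (hF : ∀ x g : G, g ∈ Subgroup.centralizer ({J} : Set G) →
      x ∈ Subgroup.centralizer ({J} : Set G) → F (g * x * g⁻¹) = F x) :
    (Nat.card (V ⊓ Subgroup.centralizer ({z} : Set G) : Subgroup G) : ℂ) * ∑ v : V, F (v * z) =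
      (Nat.card V : ℂ) *
        ∑ c : (V ⊓ Subgroup.centralizer ({z} : Set G) : Subgroup G), F (c * z) := by
  classical
  set H := Subgroup.centralizer ({J} : Set G) with hH
  have hVH : V ≤ H := h.V_le
  have hCH : V ⊓ Subgroup.centralizer ({z} : Set G) ≤ H := inf_le_left.trans hVH
  haveI hn : (V.subgroupOf H).Normal := ⟨fun n hn g => by
    rw [Subgroup.mem_subgroupOf] at hn ⊢
    exact h.normal _ g.2 _ hn⟩
  haveI := Fintype.ofFinite (V.subgroupOf H)
  haveI := Fintype.ofFinite ((V ⊓ Subgroup.centralizer ({z} : Set G)).subgroupOf H)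
  have hcV : Nat.card (V.subgroupOf H) = Nat.card V :=
    Nat.card_congr (Subgroup.subgroupOfEquivOfLe hVH).toEquiv
  have hcC : Nat.card ((V ⊓ Subgroup.centralizer ({z} : Set G)).subgroupOf H) =
      Nat.card (V ⊓ Subgroup.centralizer ({z} : Set G) : Subgroup G) :=
    Nat.card_congr (Subgroup.subgroupOfEquivOfLe hCH).toEquiv
  have h1 := H79.sum_coset_eq (V.subgroupOf H) ((V ⊓ Subgroup.centralizer ({z} : Set G)).subgroupOf H)
    (Subgroup.comap_mono inf_le_left) (⟨z, h.P_le hz⟩ : H) (by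
      rw [Subgroup.orderOf_mk, hzo, hcV]
      exact Nat.Coprime.pow_left _ (Nat.coprime_two_left.mpr h.V_odd)) (by
      intro n hn
      rw [Subgroup.mem_subgroupOf] at hn
      rw [Subgroup.mem_subgroupOf, Subgroup.mem_inf, Subgroup.mem_centralizer_singleton_iff]
      constructor
      · rintro ⟨-, h2⟩; exact Subtype.ext h2
      · intro h2; exact ⟨hn, congrArg Subtype.val h2⟩) (fun x => F x) (by
      intro x g
      exact hF _ _ g.2 x.2)
  rw [hcV, hcC] at h1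
  have e1 : ∑ v : V, F (v * z) = ∑ n : V.subgroupOf H, F (((n : H) * (⟨z, h.P_le hz⟩ : H) : H) : G) :=
    (Fintype.sum_equiv (Subgroup.subgroupOfEquivOfLe hVH).toEquiv _ _ fun n => rfl).symm
  have e2 : ∑ c : (V ⊓ Subgroup.centralizer ({z} : Set G) : Subgroup G), F (c * z) =
      ∑ n : (V ⊓ Subgroup.centralizer ({z} : Set G)).subgroupOf H,
        F (((n : H) * (⟨z, h.P_le hz⟩ : H) : H) : G) :=
    (Fintype.sum_equiv (Subgroup.subgroupOfEquivOfLe hCH).toEquiv _ _ fun n => rfl).symm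
  rw [e1, e2]
  exact h1

/-- Every element of `V z` is conjugate in `C(J)` to some `c z` with `c ∈ C_V(z)`. -/
theorem VP.exists_conj_core {J : G} {V P : Subgroup G} (h : VP J V P) {z : G} (hz : z ∈ P)
    {k : ℕ} (hzo : orderOf z = 2 ^ k) {v : G} (hv : v ∈ V) :
    ∃ g ∈ Subgroup.centralizer ({J} : Set G), ∃ c ∈ V, Commute c z ∧
      g * (v * z) * g⁻¹ = c * z := by
  classical
  haveI := Fintype.ofFinite G
  haveI := Fintype.ofFinite V
  haveI := Fintype.ofFinite (V ⊓ Subgroup.centralizer ({z} : Set G) : Subgroup G)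
  let Q : G → Prop := fun x => ∃ g ∈ Subgroup.centralizer ({J} : Set G), ∃ c ∈ V, Commute c z ∧
      g * x * g⁻¹ = c * z
  have h1 := h.sum_coset hz hzo (fun x => if Q x then (1 : ℂ) else 0) (by
    intro x g hg _
    have : Q (g * x * g⁻¹) ↔ Q x := by
      constructor
      · rintro ⟨y, hy, c, hc, hc2, he⟩
        refine ⟨y * g, mul_mem hy hg, c, hc, hc2, ?_⟩
        rw [← he]; group
      · rintro ⟨y, hy, c, hc, hc2, he⟩
        refine ⟨y * g⁻¹, mul_mem hy (inv_mem hg), c, hc, hc2, ?_⟩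
        rw [← he]; group
    simp only [this])
  have h2 : ∀ c : (V ⊓ Subgroup.centralizer ({z} : Set G) : Subgroup G),
      (if Q ((c : G) * z) then (1 : ℂ) else 0) = 1 := by
    intro c
    rw [if_pos]
    exact ⟨1, one_mem _, c, c.2.1, Subgroup.mem_centralizer_singleton_iff.mp c.2.2, by simp⟩
  simp only [h2] at h1
  rw [Finset.sum_const, Finset.card_univ, nsmul_eq_mul, mul_one, ← Nat.card_eq_fintype_card] at h1
  have h3 : (Nat.card (V ⊓ Subgroup.centralizer ({z} : Set G) : Subgroup G) : ℂ) ≠ 0 := by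
    exact_mod_cast (Nat.card_pos).ne'
  have h4 : ∑ v : V, (if Q ((v : G) * z) then (1 : ℂ) else 0) = Nat.card V := by
    apply mul_left_cancel₀ h3
    rw [h1]; ring
  rw [← Finset.sum_filter, Finset.sum_const, nsmul_eq_mul, mul_one, Nat.card_eq_fintype_card] at h4
  have h5 : (Finset.univ.filter (fun v : V => Q ((v : G) * z))).card = Fintype.card V := by
    exact_mod_cast h4
  rw [← Finset.card_univ] at h5
  have h6 := Finset.eq_of_subset_of_card_le (Finset.filter_subset _ _) h5.ge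
  have h7 : (⟨v, hv⟩ : V) ∈ Finset.univ.filter (fun v : V => Q ((v : G) * z)) := by
    rw [h6]; exact Finset.mem_univ _
  exact (Finset.mem_filter.mp h7).2

end Basic

section Pairs

variable {G : Type u} [Group G] [Finite G] {J : G} {V P : Subgroup G}

/-- `J` is a power of each element of `V z`. -/
theorem VP.mem_zpowers_of_coset (h : VP J V P) {z : G} (hz : z ∈ P)
    (hJ : J ∈ Subgroup.zpowers z) {k : ℕ} (hzo : orderOf z = 2 ^ k) {v : G} (hv : v ∈ V) :
    J ∈ Subgroup.zpowers (v * z) := by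
  obtain ⟨g, hg, c, hc, hcz, he⟩ := h.exists_conj_core hz hzo hv
  have h1 : z ∈ Subgroup.zpowers (c * z) := by
    refine BlkInd.isPPart_mem_zpowers Nat.prime_two ⟨c, hcz.symm, hcz.symm, ⟨k, hzo⟩, ?_⟩
    intro hdvd
    have := h.V_odd.of_dvd_nat (Subgroup.orderOf_dvd_natCard V hc)
    rw [← Nat.not_even_iff_odd] at this
    exact this (even_iff_two_dvd.mpr hdvd)
  have h2 : J ∈ Subgroup.zpowers (c * z) := by
    obtain ⟨a, ha⟩ := Subgroup.mem_zpowers_iff.mp hJ
    rw [← ha]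
    exact Subgroup.zpow_mem _ h1 a
  obtain ⟨a, ha⟩ := Subgroup.mem_zpowers_iff.mp h2
  rw [← he, conj_zpow] at ha
  refine Subgroup.mem_zpowers_iff.mpr ⟨a, ?_⟩
  have h3 : (v * z) ^ a = g⁻¹ * J * g := by rw [← ha]; group
  rw [h3]
  have h4 : g * J = J * g := Subgroup.mem_centralizer_singleton_iff.mp hg
  rw [mul_assoc, ← h4]; group

/-- Involutions whose product lies in `V z` centralize `J`. -/
theorem VP.mem_centralizer_of_mul (h : VP J V P) {z : G} (hz : z ∈ P)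
    (hJ : J ∈ Subgroup.zpowers z) {k : ℕ} (hzo : orderOf z = 2 ^ k) {u w : G} (hu : u * u = 1)
    (hw : w * w = 1) (huw : u * w * z⁻¹ ∈ V) :
    u ∈ Subgroup.centralizer ({J} : Set G) ∧ w ∈ Subgroup.centralizer ({J} : Set G) := by
  have h1 : J ∈ Subgroup.zpowers (u * w) := by
    have := h.mem_zpowers_of_coset hz hJ hzo huw
    rwa [inv_mul_cancel_right] at this
  obtain ⟨a, ha⟩ := Subgroup.mem_zpowers_iff.mp h1
  have hJi : J⁻¹ = J := inv_eq_of_mul_eq_one_left h.J_sq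
  have h2 : u * J * u⁻¹ = J := by
    rw [← ha, H4.conj_mul_zpow hu hw, zpow_neg, ha, hJi]
  have h3 : w * J * w⁻¹ = J := by
    rw [← ha, H4.conj_mul_zpow_right hu hw, zpow_neg, ha, hJi]
  exact ⟨Subgroup.mem_centralizer_singleton_iff.mpr (mul_inv_eq_iff_eq_mul.mp h2),
    Subgroup.mem_centralizer_singleton_iff.mpr (mul_inv_eq_iff_eq_mul.mp h3)⟩

/-- The number of pairs of involutions with product in `V z`. -/
noncomputable def npair (V : Subgroup G) (z : G) : ℕ :=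
  Nat.card {q : G × G // q.1 * q.1 = 1 ∧ q.1 ≠ 1 ∧ q.2 * q.2 = 1 ∧ q.2 ≠ 1 ∧ q.1 * q.2 * z⁻¹ ∈ V}

theorem VP.npair_eq (h : VP J V P) [Fintype P] {z : G} (hz : z ∈ P)
    (hJ : J ∈ Subgroup.zpowers z) {k : ℕ} (hzo : orderOf z = 2 ^ k) :
    npair V z = ∑ x : P, ninv V (x : G) * ninv V ((x : G)⁻¹ * z) := by
  classical
  have hmul : ∀ x : P, ninv V (x : G) * ninv V ((x : G)⁻¹ * z) =
      Nat.card ({u : G // (x : G)⁻¹ * u ∈ V ∧ u * u = 1 ∧ u ≠ 1} ×
        {u : G // ((x : G)⁻¹ * z)⁻¹ * u ∈ V ∧ u * u = 1 ∧ u ≠ 1}) := fun x => by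
    rw [Nat.card_prod]; rfl
  simp only [hmul]
  rw [← Nat.card_sigma]
  unfold npair
  symm
  have hPJ := h.P_le
  -- the map
  refine Nat.card_congr (Equiv.ofBijective (fun y => ⟨(y.2.1.1, y.2.2.1), ?_⟩) ⟨?_, ?_⟩)
  · obtain ⟨x, ⟨u, hu1, hu2, hu3⟩, ⟨w, hw1, hw2, hw3⟩⟩ := y
    refine ⟨hu2, hu3, hw2, hw3, ?_⟩
    have h1 : (x : G) * ((x : G)⁻¹ * u) * (x : G)⁻¹ ∈ V := h.normal _ (hPJ x.2) _ hu1
    have h2 : z * (((x : G)⁻¹ * z)⁻¹ * w) * z⁻¹ ∈ V := h.normal _ (hPJ hz) _ hw1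
    have h3 := V.mul_mem h1 h2
    have h4 : (x : G) * ((x : G)⁻¹ * u) * (x : G)⁻¹ * (z * (((x : G)⁻¹ * z)⁻¹ * w) * z⁻¹) =
      u * w * z⁻¹ := by group
    rwa [h4] at h3
  · rintro ⟨x, ⟨u, hu1, hu2, hu3⟩, ⟨w, hw1, hw2, hw3⟩⟩ ⟨y, ⟨u', hu1', hu2', hu3'⟩, ⟨w', hw1', hw2', hw3'⟩⟩ he
    have e1 : u = u' := congrArg (fun q => (q.1.1 : G)) he
    have e2 : w = w' := congrArg (fun q => (q.1.2 : G)) he
    subst e1; subst e2
    have h3 : (x : G)⁻¹ * y ∈ V ⊓ P := ⟨by
      have := V.mul_mem hu1 (V.inv_mem hu1')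
      have h4 : (x : G)⁻¹ * u * ((y : G)⁻¹ * u)⁻¹ = (x : G)⁻¹ * y := by group
      rwa [h4] at this, P.mul_mem (P.inv_mem x.2) y.2⟩
    rw [h.inf, Subgroup.mem_bot] at h3
    have h4 : x = y := Subtype.ext (inv_mul_eq_one.mp h3)
    subst h4
    rfl
  · rintro ⟨⟨u, w⟩, hu2, hu3, hw2, hw3, huw⟩
    obtain ⟨hu4, hw4⟩ := h.mem_centralizer_of_mul hz hJ hzo hu2 hw2 huw
    obtain ⟨v, hv, x, hx, hux⟩ := h.exists_mul u hu4
    have hu1 : x⁻¹ * u ∈ V := by
      have := h.normal x⁻¹ (inv_mem (hPJ hx)) v hv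
      rw [hux]
      have h4 : x⁻¹ * v * x⁻¹⁻¹ = x⁻¹ * (v * x) := by group
      rwa [h4] at this
    have hw1 : (x⁻¹ * z)⁻¹ * w ∈ V := by
      have h5 := h.normal z⁻¹ (inv_mem (hPJ hz)) _ huw
      have h6 := h.normal (z⁻¹ * x) (mul_mem (inv_mem (hPJ hz)) (hPJ hx)) _ (V.inv_mem hu1)
      have h7 := V.mul_mem h6 h5
      have h8 : z⁻¹ * x * (x⁻¹ * u)⁻¹ * (z⁻¹ * x)⁻¹ * (z⁻¹ * (u * w * z⁻¹) * z⁻¹⁻¹) =
          (x⁻¹ * z)⁻¹ * w := by
        group
      rwa [h8] at h7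
    exact ⟨⟨⟨x, hx⟩, ⟨u, hu1, hu2, hu3⟩, ⟨w, hw1, hw2, hw3⟩⟩, rfl⟩

end Pairs

section Block

variable {G : Type u} [Group G] [Finite G] {J : G} {V P : Subgroup G} {M : Ideal AlgInt}

theorem VP.principal_const (h : VP J V P) (hM : IsPModular 2 M) {z : G} (hz : z ∈ P)
    (hJ : J ∈ Subgroup.zpowers z) {k : ℕ} (hzo : orderOf z = 2 ^ k) {v : G} (hv : v ∈ V)
    {χ : IrrCharacter G} (hχ : χ ∈ principalBlock M G) : (χ : G → ℂ) (v * z) = (χ : G → ℂ) z := by
  haveI : Fact (Nat.Prime 2) := ⟨Nat.prime_two⟩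
  obtain ⟨g, hg, c, hc, hcz, he⟩ := h.exists_conj_core hz hzo hv
  have h1 : (χ : G → ℂ) (v * z) = (χ : G → ℂ) (c * z) := by
    rw [← he]
    exact (irr_isClassFunction χ _ _).symm
  rw [h1, hcz.eq]
  refine principal_core_const hM ⟨k, hzo⟩ hχ ?_
  rw [h.core_eq hJ]
  exact ⟨hc, Subgroup.mem_centralizer_singleton_iff.mpr hcz⟩

theorem VP.sum_not_principal (h : VP J V P) (hM : IsPModular 2 M) [Fintype V] {z : G} (hz : z ∈ P)
    (hJ : J ∈ Subgroup.zpowers z) {k : ℕ} (hzo : orderOf z = 2 ^ k)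
    {χ : IrrCharacter G} (hχ : χ ∉ principalBlock M G) : ∑ v : V, (χ : G → ℂ) (v * z) = 0 := by
  classical
  haveI : Fact (Nat.Prime 2) := ⟨Nat.prime_two⟩
  haveI := Fintype.ofFinite (V ⊓ Subgroup.centralizer ({z} : Set G) : Subgroup G)
  haveI := Fintype.ofFinite (centralizerPPrimeCore 2 z)
  have h1 := h.sum_coset hz hzo (χ : G → ℂ) (fun x g _ _ => irr_isClassFunction χ _ _)
  have h2 := sum_core_eq_zero hM ⟨k, hzo⟩ (h.npc_of hJ) hχ
  have h3 : ∑ c : (V ⊓ Subgroup.centralizer ({z} : Set G) : Subgroup G), (χ : G → ℂ) (c * z) = 0 := by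
    rw [← h2]
    refine Fintype.sum_equiv (Equiv.subtypeEquivRight fun x => ?_) _ _ fun c => ?_
    · rw [h.core_eq hJ]
    · show (χ : G → ℂ) (c * z) = (χ : G → ℂ) (z * c)
      rw [Subgroup.mem_centralizer_singleton_iff.mp c.2.2]
  rw [h3, mul_zero] at h1
  have h4 : (Nat.card (V ⊓ Subgroup.centralizer ({z} : Set G) : Subgroup G) : ℂ) ≠ 0 := by
    exact_mod_cast (Nat.card_pos).ne'
  exact (mul_eq_zero.mp h1).resolve_left h4

/-- class multiplication of involutions through the principal block. -/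
theorem VP.card_pairs_eq (h : VP J V P) [Fintype G] [DecidableEq G] [Fintype (IrrCharacter G)]
    (hM : IsPModular 2 M) {z : G} (hz : z ∈ P)
    (hJ : J ∈ Subgroup.zpowers z) {k : ℕ} (hzo : orderOf z = 2 ^ k)
    [DecidablePred (· ∈ V)] [DecidablePred (· ∈ principalBlock M G)] (t : G) :
    (((Finset.univ : Finset (G × G)).filter
      (fun q => (q.1 * t * q.1⁻¹ * (q.2 * t * q.2⁻¹)) * z⁻¹ ∈ V)).card : ℂ) =
    (Nat.card G : ℂ) * (Nat.card V : ℂ) *
      ∑ χ : IrrCharacter G, (if χ ∈ principalBlock M G then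
      (χ : G → ℂ) t * (χ : G → ℂ) t * conj ((χ : G → ℂ) z) / (χ : G → ℂ) 1 else 0) := by
  classical
  haveI : Fintype V := Fintype.ofFinite _
  have h1 : ((Finset.univ : Finset (G × G)).filter
      (fun q => (q.1 * t * q.1⁻¹ * (q.2 * t * q.2⁻¹)) * z⁻¹ ∈ V)).card =
      ∑ v : V, ((Finset.univ : Finset (G × G)).filter
      (fun q => q.1 * t * q.1⁻¹ * (q.2 * t * q.2⁻¹) = v * z)).card := by
    rw [← Finset.card_biUnion]
    · congr 1
      ext q
      simp only [Finset.mem_filter, Finset.mem_univ, true_and, Finset.mem_biUnion]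
      constructor
      · intro h
        exact ⟨⟨_, h⟩, by simp⟩
      · rintro ⟨v, hv⟩
        rw [hv]
        simp
    · intro v _ w _ hvw
      rw [Function.onFun, Finset.disjoint_left]
      intro q hq hq'
      rw [Finset.mem_filter] at hq hq'
      exact hvw (Subtype.ext (mul_right_cancel (hq.2.symm.trans hq'.2)))
  rw [h1]
  push_cast
  simp only [H79.card_pairs]
  rw [← Finset.mul_sum, Finset.sum_comm, mul_assoc]
  congr 1
  rw [Finset.mul_sum]
  refine Finset.sum_congr rfl fun χ _ => ?_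
  have h2 : ∀ v : V, (χ : G → ℂ) (v * z)⁻¹ = conj ((χ : G → ℂ) (v * z)) :=
    fun v => isCharacter_inv (irr_isCharacter χ) _
  simp only [h2]
  have h3 : ∑ v : V, (χ : G → ℂ) t * (χ : G → ℂ) t *
      conj ((χ : G → ℂ) (v * z)) / (χ : G → ℂ) 1 = (χ : G → ℂ) t * (χ : G → ℂ) t *
      conj (∑ v : V, (χ : G → ℂ) (v * z)) / (χ : G → ℂ) 1 := by
    rw [map_sum, Finset.mul_sum, Finset.sum_div]
  rw [h3]
  by_cases hχ : χ ∈ principalBlock M G
  · rw [if_pos hχ]
    have h4 : ∀ v : V, (χ : G → ℂ) (v * z) = (χ : G → ℂ) z :=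
      fun v => h.principal_const hM hz hJ hzo v.2 hχ
    simp only [h4]
    rw [Finset.sum_const, Finset.card_univ, nsmul_eq_mul, map_mul, Nat.card_eq_fintype_card,
      Complex.conj_natCast]
    ring
  · rw [if_neg hχ, h.sum_not_principal hM hz hJ hzo hχ, map_zero]
    simp

/-- Counting pairs of elements through pairs of involutions. -/
theorem VP.card_pairs_npair (h : VP J V P) [Fintype G] [DecidableEq G] [DecidablePred (· ∈ V)]
    (hconj : ∀ s : G, s * s = 1 → s ≠ 1 → IsConj J s) (z : G) :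
    ((Finset.univ : Finset (G × G)).filter
      (fun q => (q.1 * J * q.1⁻¹ * (q.2 * J * q.2⁻¹)) * z⁻¹ ∈ V)).card =
    Nat.card (Subgroup.centralizer ({J} : Set G)) ^ 2 * npair V z := by
  classical
  have hfib : ∀ s : G, s * s = 1 → s ≠ 1 → ((Finset.univ : Finset G).filter
      (fun a => a * J * a⁻¹ = s)).card = Nat.card (Subgroup.centralizer ({J} : Set G)) := by
    intro s hs hs1
    obtain ⟨a0, ha0⟩ := isConj_iff.mp (hconj s hs hs1)
    rw [Nat.card_eq_fintype_card, ← Fintype.card_subtype]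
    refine Fintype.card_congr
      { toFun := fun a => ⟨a0⁻¹ * a.1, ?_⟩
        invFun := fun c => ⟨a0 * c.1, ?_⟩
        left_inv := fun a => Subtype.ext (by simp)
        right_inv := fun c => Subtype.ext (by simp) }
    · rw [Subgroup.mem_centralizer_singleton_iff]
      have h1 : a.1 * J * a.1⁻¹ = a0 * J * a0⁻¹ := a.2.trans ha0.symm
      have h2 : a.1 * J = a0 * J * a0⁻¹ * a.1 := by rw [← h1]; group
      rw [mul_assoc, h2]; group
    · have h1 := Subgroup.mem_centralizer_singleton_iff.mp c.2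
      rw [← ha0]
      have : a0 * c.1 * J * (a0 * c.1)⁻¹ = a0 * (c.1 * J * c.1⁻¹) * a0⁻¹ := by group
      rw [this, h1]; group
  have hJconj : ∀ a : G, a * J * a⁻¹ * (a * J * a⁻¹) = 1 ∧ a * J * a⁻¹ ≠ 1 := by
    intro a
    constructor
    · have : a * J * a⁻¹ * (a * J * a⁻¹) = a * (J * J) * a⁻¹ := by group
      rw [this, h.J_sq]; group
    · intro h1
      apply h.J_ne
      have : J = a⁻¹ * (a * J * a⁻¹) * a := by group
      rw [this, h1]; group
  have h1 : ((Finset.univ : Finset (G × G)).filter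
      (fun q => (q.1 * J * q.1⁻¹ * (q.2 * J * q.2⁻¹)) * z⁻¹ ∈ V)).card =
      ∑ r ∈ (Finset.univ : Finset (G × G)).filter (fun r => r.1 * r.1 = 1 ∧ r.1 ≠ 1 ∧
        r.2 * r.2 = 1 ∧ r.2 ≠ 1 ∧ r.1 * r.2 * z⁻¹ ∈ V),
        ((Finset.univ : Finset (G × G)).filter
          (fun q => q.1 * J * q.1⁻¹ = r.1 ∧ q.2 * J * q.2⁻¹ = r.2)).card := by
    rw [← Finset.card_biUnion]
    · congr 1
      ext q
      simp only [Finset.mem_filter, Finset.mem_univ, true_and, Finset.mem_biUnion]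
      constructor
      · intro h2
        exact ⟨(q.1 * J * q.1⁻¹, q.2 * J * q.2⁻¹), ⟨(hJconj _).1, (hJconj _).2, (hJconj _).1,
          (hJconj _).2, h2⟩, rfl, rfl⟩
      · rintro ⟨r, ⟨-, -, -, -, h2⟩, h3, h4⟩
        rw [h3, h4]; exact h2
    · intro r _ r' _ hrr
      rw [Function.onFun, Finset.disjoint_left]
      intro q hq hq'
      rw [Finset.mem_filter] at hq hq'
      exact hrr (Prod.ext (hq.2.1.symm.trans hq'.2.1) (hq.2.2.symm.trans hq'.2.2))
  rw [h1]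
  have h2 : ∀ r ∈ (Finset.univ : Finset (G × G)).filter (fun r => r.1 * r.1 = 1 ∧ r.1 ≠ 1 ∧
        r.2 * r.2 = 1 ∧ r.2 ≠ 1 ∧ r.1 * r.2 * z⁻¹ ∈ V),
        ((Finset.univ : Finset (G × G)).filter
          (fun q => q.1 * J * q.1⁻¹ = r.1 ∧ q.2 * J * q.2⁻¹ = r.2)).card =
        Nat.card (Subgroup.centralizer ({J} : Set G)) ^ 2 := by
    intro r hr
    simp only [Finset.mem_filter, Finset.mem_univ, true_and] at hr
    have h3 : (Finset.univ : Finset (G × G)).filter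
          (fun q => q.1 * J * q.1⁻¹ = r.1 ∧ q.2 * J * q.2⁻¹ = r.2) =
        ((Finset.univ : Finset G).filter (fun a => a * J * a⁻¹ = r.1)) ×ˢ
        ((Finset.univ : Finset G).filter (fun a => a * J * a⁻¹ = r.2)) := by
      ext q
      simp
    rw [h3, Finset.card_product, hfib _ hr.1 hr.2.1, hfib _ hr.2.2.1 hr.2.2.2.1, pow_two]
  rw [Finset.sum_congr rfl h2, Finset.sum_const, smul_eq_mul, mul_comm]
  congr 1
  unfold npair
  rw [Nat.card_eq_fintype_card, Fintype.card_subtype]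

/-- The main formula. -/
theorem VP.main (h : VP J V P) [Fintype G] [Fintype (IrrCharacter G)] [Fintype P]
    (hM : IsPModular 2 M) (hconj : ∀ s : G, s * s = 1 → s ≠ 1 → IsConj J s) {z : G} (hz : z ∈ P)
    (hJ : J ∈ Subgroup.zpowers z) {k : ℕ} (hzo : orderOf z = 2 ^ k)
    [DecidablePred (· ∈ principalBlock M G)] :
    (Nat.card (Subgroup.centralizer ({J} : Set G)) : ℂ) ^ 2 *
      ((∑ x : P, ninv V (x : G) * ninv V ((x : G)⁻¹ * z) : ℕ) : ℂ) =
    (Nat.card G : ℂ) * (Nat.card V : ℂ) *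
      ∑ χ : IrrCharacter G, (if χ ∈ principalBlock M G then
      (χ : G → ℂ) J * (χ : G → ℂ) J * conj ((χ : G → ℂ) z) / (χ : G → ℂ) 1 else 0) := by
  classical
  rw [← h.card_pairs_eq hM hz hJ hzo J, h.card_pairs_npair hconj z, h.npair_eq hz hJ hzo]
  push_cast
  ring

/-- The structure `VP` from a Sylow `2`-subgroup. -/
theorem VP.of_sylow (S : Sylow 2 G) {J : G} (hJ : J ∈ (S : Subgroup G)) (hJo : orderOf J = 2)
    (hJS : ∀ x ∈ (S : Subgroup G), x * J = J * x)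
    (hnc : HasNormalPComplement 2 (Subgroup.centralizer ({J} : Set G))) :
    VP J (centralizerPPrimeCore 2 J) (S : Subgroup G) := by
  haveI : Fact (Nat.Prime 2) := ⟨Nat.prime_two⟩
  have hle : (S : Subgroup G) ≤ Subgroup.centralizer ({J} : Set G) := fun x hx =>
    Subgroup.mem_centralizer_singleton_iff.mpr (hJS x hx)
  have hmem : ∀ v, v ∈ centralizerPPrimeCore 2 J ↔ Commute J v ∧ Odd (orderOf v) := fun v => by
    rw [mem_core_iff hnc, Nat.coprime_two_right]
  have hcc : (Nat.card (pPrimeCore 2 (Subgroup.centralizer ({J} : Set G)))).Coprime 2 :=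
    Cfsg.Agent.Solv.pPrimeCore_card_coprime 2
  have hcard : Nat.card (centralizerPPrimeCore 2 J) =
      Nat.card (pPrimeCore 2 (Subgroup.centralizer ({J} : Set G))) :=
    (Nat.card_congr ((pPrimeCore 2 (Subgroup.centralizer ({J} : Set G))).equivMapOfInjective _
      (Subgroup.subtype_injective _)).toEquiv).symm
  obtain ⟨k, hk⟩ := index_pPrimeCore hnc
  have hcompl := Transfer.isComplement'_of_card_of_index hcc hk (S.subtype hle)
  refine ⟨?_, ?_, hJ, ?_, core_le J, hle, ?_, ?_, ?_, hmem, hnc⟩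
  · rw [← pow_two, ← hJo]; exact pow_orderOf_eq_one J
  · intro h1; rw [h1, orderOf_one] at hJo; exact absurd hJo (by norm_num)
  · rw [hcard]; exact Nat.coprime_two_right.mp hcc
  · rw [Subgroup.eq_bot_iff_forall]
    intro x hx
    have h1 := ((hmem x).mp hx.1).2
    obtain ⟨j, hj⟩ := (IsPGroup.iff_orderOf.mp S.isPGroup') ⟨x, hx.2⟩
    rw [Subgroup.orderOf_mk] at hj
    rw [hj] at h1
    rcases Nat.eq_zero_or_pos j with h2 | h2
    · rw [h2, pow_zero] at hj; exact orderOf_eq_one_iff.mp hj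
    · exfalso
      rw [← Nat.not_even_iff_odd] at h1
      exact h1 ((Nat.even_pow).mpr ⟨even_two, h2.ne'⟩)
  · intro x hx v hv
    have h1 := (hmem v).mp hv
    rw [hmem]
    constructor
    · have h2 : v ∈ Subgroup.centralizer ({J} : Set G) := core_le J hv
      have h3 : x * v * x⁻¹ ∈ Subgroup.centralizer ({J} : Set G) :=
        mul_mem (mul_mem hx h2) (inv_mem hx)
      exact (Subgroup.mem_centralizer_singleton_iff.mp h3).symm
    · rw [H4.orderOf_conj']; exact h1.2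
  · intro x hx
    obtain ⟨⟨⟨v, hv⟩, ⟨y, hy⟩⟩, hvy⟩ := hcompl.2 (⟨x, hx⟩ : Subgroup.centralizer ({J} : Set G))
    refine ⟨v, ⟨v, hv, rfl⟩, y, ?_, ?_⟩
    · exact hy
    · have := congrArg Subtype.val hvy
      exact this.symm

end Block

end Cfsg.Agent.H74
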